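import Cfsg.Agent.Lib.Block.Infl
import Cfsg.Agent.Lib.Block.Induced
import Cfsg.Agent.Lib.Block.PPart
import Cfsg.Agent.Lib.Char.Clifford

/-!
# Principal blocks of central products
-/

universe u

open Cfsg CfsgLib.Block

namespace CfsgLib.Char.BL

section Prod

variable {G : Type u} [Group G] {U₁ U₂ : Subgroup G}

theorem exists_mul_of_commute (hcomm : ∀ u ∈ U₁, ∀ v ∈ U₂, u * v = v * u) (hgen : U₁ ⊔ U₂ = ⊤) (g : G) :
    ∃ u ∈ U₁, ∃ v ∈ U₂, g = u * v := by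
  let W : Subgroup G :=
    { carrier := {x | ∃ u ∈ U₁, ∃ v ∈ U₂, x = u * v}
      mul_mem' := by
        rintro _ _ ⟨u, hu, v, hv, rfl⟩ ⟨u', hu', v', hv', rfl⟩
        refine ⟨u * u', U₁.mul_mem hu hu', v * v', U₂.mul_mem hv hv', ?_⟩
        calc u * v * (u' * v') = u * (v * u') * v' := by group
          _ = u * (u' * v) * v' := by rw [hcomm u' hu' v hv]
          _ = _ := by group
      one_mem' := ⟨1, U₁.one_mem, 1, U₂.one_mem, by simp⟩
      inv_mem' := by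
        rintro _ ⟨u, hu, v, hv, rfl⟩
        refine ⟨u⁻¹, U₁.inv_mem hu, v⁻¹, U₂.inv_mem hv, ?_⟩
        rw [mul_inv_rev]
        have := hcomm u⁻¹ (U₁.inv_mem hu) v⁻¹ (U₂.inv_mem hv)
        exact this.symm }
  have h1 : U₁ ≤ W := fun u hu => ⟨u, hu, 1, U₂.one_mem, by simp⟩
  have h2 : U₂ ≤ W := fun v hv => ⟨1, U₁.one_mem, v, hv, by simp⟩
  have h3 : W = ⊤ := by
    rw [eq_top_iff, ← hgen]
    exact sup_le h1 h2
  have h4 : g ∈ W := by
    rw [h3]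
    exact Subgroup.mem_top g
  exact h4

theorem conj_eq_left (hcomm : ∀ u ∈ U₁, ∀ v ∈ U₂, u * v = v * u) (hgen : U₁ ⊔ U₂ = ⊤) (g : G) :
    ∃ a ∈ U₁, ∀ u ∈ U₁, g * u * g⁻¹ = a * u * a⁻¹ := by
  obtain ⟨a, ha, b, hb, rfl⟩ := exists_mul_of_commute hcomm hgen g
  refine ⟨a, ha, fun u hu => ?_⟩
  calc a * b * u * (a * b)⁻¹ = a * (b * u) * b⁻¹ * a⁻¹ := by group
    _ = a * (u * b) * b⁻¹ * a⁻¹ := by rw [hcomm u hu b hb]
    _ = _ := by group

theorem normal_of_commute (hcomm : ∀ u ∈ U₁, ∀ v ∈ U₂, u * v = v * u) (hgen : U₁ ⊔ U₂ = ⊤) : U₁.Normal := by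
  refine ⟨fun u hu g => ?_⟩
  obtain ⟨a, ha, h⟩ := conj_eq_left hcomm hgen g
  rw [h u hu]
  exact U₁.mul_mem (U₁.mul_mem ha hu) (U₁.inv_mem ha)

end Prod

section Main

variable {G : Type u} [Group G] [Fintype G]

/-- The index of a centralizer in a factor of a central decomposition. -/
theorem index_centralizer_factor {N C : Subgroup G} [hN : N.Normal] (hcomm : ∀ u ∈ N, ∀ v ∈ C, u * v = v * u)
    (hgen : N ⊔ C = ⊤) (n : N) :
    (Subgroup.centralizer ({n} : Set N)).index = (Subgroup.centralizer ({(n : G)} : Set G)).index := by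
  set D := Subgroup.centralizer ({(n : G)} : Set G) with hD
  have h1 : Subgroup.centralizer ({n} : Set N) = D.subgroupOf N := by
    ext x
    rw [Subgroup.mem_centralizer_singleton_iff, Subgroup.mem_subgroupOf, hD, Subgroup.mem_centralizer_singleton_iff]
    constructor
    · intro h
      exact congrArg Subtype.val h
    · intro h
      exact Subtype.ext h
  rw [h1]
  have hCD : C ≤ D := by
    intro v hv
    rw [hD, Subgroup.mem_centralizer_singleton_iff]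
    exact (hcomm n n.2 v hv).symm
  have hND : N ⊔ D = ⊤ := by
    rw [eq_top_iff, ← hgen]
    exact sup_le_sup_left hCD N
  have h2 : D.relIndex N * N.index = (D ⊓ N).index := by
    have := Subgroup.relIndex_inf_mul_relIndex D N ⊤
    simpa [Subgroup.relIndex_top_right] using this
  have h3 : N.relIndex D * D.index = (N ⊓ D).index := by
    have := Subgroup.relIndex_inf_mul_relIndex N D ⊤
    simpa [Subgroup.relIndex_top_right] using this
  have h4 : N.relIndex D = N.index := by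
    rw [← Subgroup.relIndex_sup_left, hND, Subgroup.relIndex_top_right]
  rw [h4, inf_comm, ← h2] at h3
  have hN0 : N.index ≠ 0 := Subgroup.index_ne_zero_of_finite
  show D.relIndex N = D.index
  rw [mul_comm (D.relIndex N)] at h3
  exact (Nat.eq_of_mul_eq_mul_left (Nat.pos_of_ne_zero hN0) h3).symm

theorem centralChar_factor {N C : Subgroup G} [hN : N.Normal] (hcomm : ∀ u ∈ N, ∀ v ∈ C, u * v = v * u)
    (hgen : N ⊔ C = ⊤) {χ : G → ℂ} {θ : N → ℂ} {e : ℂ} (he : e ≠ 0) (hres : ∀ n : N, χ n = e * θ n) (n : N) :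
    centralChar θ n = centralChar χ n := by
  have h1 : χ 1 = e * θ 1 := by
    have := hres 1
    simpa using this
  rw [centralChar, centralChar, index_centralizer_factor hcomm hgen n, hres n, h1]
  rw [mul_left_comm, mul_div_mul_left _ _ he]

theorem res_factor {N C : Subgroup G} [hN : N.Normal] [Fintype N] (hcomm : ∀ u ∈ N, ∀ v ∈ C, u * v = v * u)
    (hgen : N ⊔ C = ⊤) {χ : G → ℂ} (hχ : IsIrrCharacter G χ) {θ : N → ℂ} (hθ : IsIrrCharacter N θ)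
    (h : classInner (fun n : N => χ n) θ ≠ 0) : ∃ e : ℂ, e ≠ 0 ∧ ∀ n : N, χ n = e * θ n := by
  have h1 := clifford_invariant N hχ hθ (fun g => by
    funext n
    obtain ⟨a, ha, hc⟩ := conj_eq_left hcomm hgen g
    show θ ⟨g * n * g⁻¹, _⟩ = θ n
    have h2 := hθ.isClassFunction n ⟨a, ha⟩
    rw [← h2]
    exact congrArg θ (Subtype.ext (hc n n.2))) h
  refine ⟨_, h, fun n => ?_⟩
  exact congrFun h1 n

theorem eq_one_of_regular_mul {p : ℕ} [hp : Fact p.Prime] {w t : G} (hc : Commute w t) (hw : ¬ p ∣ orderOf w)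
    (hwt : ¬ p ∣ orderOf (w * t)) {k : ℕ} (ht : t ^ p ^ k = 1) : t = 1 := by
  set m := orderOf w * orderOf (w * t) with hm
  have h1 : (w * t) ^ m = 1 := by
    rw [hm, mul_comm, pow_mul, pow_orderOf_eq_one, one_pow]
  have h2 : w ^ m = 1 := by
    rw [hm, pow_mul, pow_orderOf_eq_one, one_pow]
  rw [hc.mul_pow, h2, one_mul] at h1
  have h3 : Nat.Coprime (p ^ k) m := by
    apply Nat.Coprime.pow_left
    rw [Nat.Prime.coprime_iff_not_dvd hp.out, hm]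
    intro h4
    rcases (Nat.Prime.dvd_mul hp.out).1 h4 with h5 | h5
    · exact hw h5
    · exact hwt h5
  have h4 : orderOf t ∣ Nat.gcd (p ^ k) m := Nat.dvd_gcd (orderOf_dvd_of_pow_eq_one ht) (orderOf_dvd_of_pow_eq_one h1)
  rw [h3] at h4
  exact orderOf_eq_one_iff.1 (Nat.dvd_one.1 h4)

theorem cSum_mul_cSum {p : ℕ} [hp : Fact p.Prime] {U₁ U₂ : Subgroup G} [hU₁ : U₁.Normal] [hU₂ : U₂.Normal]
    (hcomm : ∀ u ∈ U₁, ∀ v ∈ U₂, u * v = v * u) (hgen : U₁ ⊔ U₂ = ⊤) (hZ : IsPGroup p ↥(U₁ ⊓ U₂))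
    {b₁ b₂ : G} (hb₁ : b₁ ∈ U₁) (hb₂ : b₂ ∈ U₂) (hr₁ : ¬ p ∣ orderOf b₁) (hr₂ : ¬ p ∣ orderOf b₂) :
    cSum b₁ * cSum b₂ = cSum (b₁ * b₂) := by
  classical
  have hcomm' : ∀ u ∈ U₂, ∀ v ∈ U₁, u * v = v * u := fun u hu v hv => (hcomm v hv u hu).symm
  have hgen' : U₂ ⊔ U₁ = ⊤ := by rw [sup_comm, hgen]
  have hconj₁ : ∀ y, IsConj y b₁ → ∃ a ∈ U₁, y = a * b₁ * a⁻¹ := by
    intro y hy
    obtain ⟨c, hc⟩ := isConj_iff.1 hy.symm
    obtain ⟨a, ha, h⟩ := conj_eq_left hcomm hgen c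
    exact ⟨a, ha, by rw [← hc, h b₁ hb₁]⟩
  have hconj₂ : ∀ y, IsConj y b₂ → ∃ a ∈ U₂, y = a * b₂ * a⁻¹ := by
    intro y hy
    obtain ⟨c, hc⟩ := isConj_iff.1 hy.symm
    obtain ⟨a, ha, h⟩ := conj_eq_left hcomm' hgen' c
    exact ⟨a, ha, by rw [← hc, h b₂ hb₂]⟩
  have hprod : ∀ a ∈ U₁, ∀ c ∈ U₂, IsConj (a * b₁ * a⁻¹ * (c * b₂ * c⁻¹)) (b₁ * b₂) := by
    intro a ha c hc
    refine IsConj.symm (isConj_iff.2 ⟨a * c, ?_⟩)
    have h1 : c * b₁ = b₁ * c := (hcomm b₁ hb₁ c hc).symm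
    have h2 : c * a⁻¹ = a⁻¹ * c := (hcomm a⁻¹ (U₁.inv_mem ha) c hc).symm
    have h3 : c * b₂ * c⁻¹ ∈ U₂ := U₂.mul_mem (U₂.mul_mem hc hb₂) (U₂.inv_mem hc)
    have h4 : a⁻¹ * (c * b₂ * c⁻¹) = (c * b₂ * c⁻¹) * a⁻¹ := hcomm _ (U₁.inv_mem ha) _ h3
    calc a * c * (b₁ * b₂) * (a * c)⁻¹ = a * (c * b₁) * b₂ * c⁻¹ * a⁻¹ := by group
      _ = a * b₁ * (c * b₂ * c⁻¹) * a⁻¹ := by rw [h1]; group
      _ = a * b₁ * ((c * b₂ * c⁻¹) * a⁻¹) := by group
      _ = a * b₁ * (a⁻¹ * (c * b₂ * c⁻¹)) := by rw [h4]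
      _ = _ := by group
  apply MonoidAlgebra.ext
  ext z
  show (cSum b₁ * cSum b₂).coeff z = (cSum (b₁ * b₂)).coeff z
  rw [coeff_mul_sum', coeff_cSum]
  by_cases hz : IsConj z (b₁ * b₂)
  · rw [if_pos hz]
    obtain ⟨g, hg⟩ := isConj_iff.1 hz.symm
    obtain ⟨a, ha, c, hc, rfl⟩ := exists_mul_of_commute hcomm hgen g
    set v₀ := c * b₂ * c⁻¹ with hv₀
    set w₀ := a * b₁ * a⁻¹ with hw₀
    have hv₀U : v₀ ∈ U₂ := U₂.mul_mem (U₂.mul_mem hc hb₂) (U₂.inv_mem hc)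
    have hw₀U : w₀ ∈ U₁ := U₁.mul_mem (U₁.mul_mem ha hb₁) (U₁.inv_mem ha)
    have hzz : z = w₀ * v₀ := by
      rw [← hg]
      have h1 : c * b₁ = b₁ * c := (hcomm b₁ hb₁ c hc).symm
      have h4 : a⁻¹ * v₀ = v₀ * a⁻¹ := hcomm _ (U₁.inv_mem ha) _ hv₀U
      calc a * c * (b₁ * b₂) * (a * c)⁻¹ = a * (c * b₁) * b₂ * c⁻¹ * a⁻¹ := by group
        _ = a * b₁ * (c * b₂ * c⁻¹) * a⁻¹ := by rw [h1]; group
        _ = a * b₁ * (v₀ * a⁻¹) := by rw [hv₀]; group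
        _ = a * b₁ * (a⁻¹ * v₀) := by rw [h4]
        _ = w₀ * v₀ := by rw [hw₀]; group
    rw [Finset.sum_eq_single v₀]
    · rw [coeff_cSum, coeff_cSum, if_pos, if_pos, mul_one]
      · exact IsConj.symm (isConj_iff.2 ⟨c, rfl⟩)
      · rw [hzz, mul_inv_cancel_right]
        exact IsConj.symm (isConj_iff.2 ⟨a, rfl⟩)
    · intro v _ hv
      rw [coeff_cSum, coeff_cSum]
      by_cases h1 : IsConj (z * v⁻¹) b₁
      · by_cases h2 : IsConj v b₂
        · exfalso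
          apply hv
          obtain ⟨a', ha', h3⟩ := hconj₁ _ h1
          obtain ⟨c', hc', h4⟩ := hconj₂ _ h2
          have hvU : v ∈ U₂ := by
            rw [h4]
            exact U₂.mul_mem (U₂.mul_mem hc' hb₂) (U₂.inv_mem hc')
          have hwU : z * v⁻¹ ∈ U₁ := by
            rw [h3]
            exact U₁.mul_mem (U₁.mul_mem ha' hb₁) (U₁.inv_mem ha')
          set t := v₀ * v⁻¹ with ht
          have htU₂ : t ∈ U₂ := U₂.mul_mem hv₀U (U₂.inv_mem hvU)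
          have htU₁ : t ∈ U₁ := by
            have h5 : t = w₀⁻¹ * (z * v⁻¹) := by
              rw [hzz, ht]
              group
            rw [h5]
            exact U₁.mul_mem (U₁.inv_mem hw₀U) hwU
          obtain ⟨k, hk⟩ := hZ ⟨t, htU₁, htU₂⟩
          have hk' : t ^ p ^ k = 1 := by
            have := congrArg Subtype.val hk
            simpa using this
          have hcw : Commute w₀ t := hcomm _ hw₀U _ htU₂
          have hw₀r : ¬ p ∣ orderOf w₀ := by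
            rw [hw₀, orderOf_conj']
            exact hr₁
          have hwtr : ¬ p ∣ orderOf (w₀ * t) := by
            have h6 : w₀ * t = z * v⁻¹ := by
              rw [hzz, ht]
              group
            rw [h6, h3, orderOf_conj']
            exact hr₁
          have ht1 := eq_one_of_regular_mul hcw hw₀r hwtr hk'
          rw [ht] at ht1
          exact (mul_inv_eq_one.1 ht1).symm
        · rw [if_neg h2, mul_zero]
      · rw [if_neg h1, zero_mul]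
    · intro h0
      exact absurd (Finset.mem_univ _) h0
  · rw [if_neg hz]
    refine Finset.sum_eq_zero fun v _ => ?_
    rw [coeff_cSum, coeff_cSum]
    by_cases h1 : IsConj (z * v⁻¹) b₁
    · by_cases h2 : IsConj v b₂
      · exfalso
        apply hz
        obtain ⟨a', ha', h3⟩ := hconj₁ _ h1
        obtain ⟨c', hc', h4⟩ := hconj₂ _ h2
        have h5 : z = (a' * b₁ * a'⁻¹) * (c' * b₂ * c'⁻¹) := by
          rw [← h3, ← h4, inv_mul_cancel_right]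
        rw [h5]
        exact hprod a' ha' c' hc'
      · rw [if_neg h2, mul_zero]
    · rw [if_neg h1, zero_mul]

theorem centralChar_mul {p : ℕ} [hp : Fact p.Prime] {U₁ U₂ : Subgroup G} [hU₁ : U₁.Normal] [hU₂ : U₂.Normal]
    (hcomm : ∀ u ∈ U₁, ∀ v ∈ U₂, u * v = v * u) (hgen : U₁ ⊔ U₂ = ⊤) (hZ : IsPGroup p ↥(U₁ ⊓ U₂))
    {b₁ b₂ : G} (hb₁ : b₁ ∈ U₁) (hb₂ : b₂ ∈ U₂) (hr₁ : ¬ p ∣ orderOf b₁) (hr₂ : ¬ p ∣ orderOf b₂)
    {χ : G → ℂ} (hχ : IsIrrCharacter G χ) :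
    centralChar χ (b₁ * b₂) = centralChar χ b₁ * centralChar χ b₂ := by
  rw [← om_cSum hχ, ← om_cSum hχ, ← om_cSum hχ, ← cSum_mul_cSum hcomm hgen hZ hb₁ hb₂ hr₁ hr₂,
    om_mul_of_cent hχ (isCent_cSum b₁)]

/-- Regular elements of a central product are products of regular elements. -/
theorem exists_regular_factors {p : ℕ} [hp : Fact p.Prime] {U₁ U₂ : Subgroup G}
    (hcomm : ∀ u ∈ U₁, ∀ v ∈ U₂, u * v = v * u) (hgen : U₁ ⊔ U₂ = ⊤) {s : G} (hs : ¬ p ∣ orderOf s) :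
    ∃ b₁ ∈ U₁, ∃ b₂ ∈ U₂, s = b₁ * b₂ ∧ ¬ p ∣ orderOf b₁ ∧ ¬ p ∣ orderOf b₂ := by
  obtain ⟨u, hu, v, hv, rfl⟩ := exists_mul_of_commute hcomm hgen s
  obtain ⟨a₁, b₁, h1, hc1, ⟨k, hk⟩, hr1⟩ := exists_isPPart (p := p) (⟨u, hu⟩ : U₁)
  obtain ⟨a₂, b₂, h2, hc2, ⟨l, hl⟩, hr2⟩ := exists_isPPart (p := p) (⟨v, hv⟩ : U₂)
  have hu' : u = (a₁ : G) * b₁ := (congrArg Subtype.val h1).symm
  have hv' : v = (a₂ : G) * b₂ := (congrArg Subtype.val h2).symm
  have hcom : ∀ (x : U₁) (y : U₂), Commute (x : G) y := fun x y => hcomm x x.2 y y.2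
  have hprod : u * v = ((a₁ : G) * a₂) * ((b₁ : G) * b₂) := by
    rw [hu', hv']
    have := (hcom b₁ a₂).eq
    calc (a₁ : G) * b₁ * (a₂ * b₂) = a₁ * (b₁ * a₂) * b₂ := by group
      _ = a₁ * (a₂ * b₁) * b₂ := by rw [this]
      _ = _ := by group
  have hr1' : ¬ p ∣ orderOf (b₁ : G) := by
    rwa [Subgroup.orderOf_coe]
  have hr2' : ¬ p ∣ orderOf (b₂ : G) := by
    rwa [Subgroup.orderOf_coe]
  have hcb : Commute (b₁ : G) b₂ := hcom b₁ b₂
  have hreg : ¬ p ∣ orderOf ((b₁ : G) * b₂) := by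
    intro h3
    have h4 : orderOf ((b₁ : G) * b₂) ∣ orderOf (b₁ : G) * orderOf (b₂ : G) := by
      apply orderOf_dvd_of_pow_eq_one
      rw [hcb.mul_pow]
      rw [pow_mul, pow_orderOf_eq_one, one_pow, one_mul, mul_comm, pow_mul, pow_orderOf_eq_one, one_pow]
    rcases (Nat.Prime.dvd_mul hp.out).1 (h3.trans h4) with h5 | h5
    · exact hr1' h5
    · exact hr2' h5
  have hca : Commute (a₁ : G) a₂ := hcom a₁ a₂
  have hw : ((a₁ : G) * a₂) ^ p ^ (k + l) = 1 := by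
    rw [hca.mul_pow]
    have h6 : (a₁ : G) ^ p ^ k = 1 := by
      have := pow_orderOf_eq_one a₁
      rw [hk] at this
      simpa using congrArg Subtype.val this
    have h7 : (a₂ : G) ^ p ^ l = 1 := by
      have := pow_orderOf_eq_one a₂
      rw [hl] at this
      simpa using congrArg Subtype.val this
    rw [pow_add, pow_mul, h6, one_pow, one_mul, mul_comm (p ^ k), pow_mul, h7, one_pow]
  have hcw : Commute ((b₁ : G) * b₂) ((a₁ : G) * a₂) := by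
    have h1' : Commute (b₁ : G) a₁ := (congrArg Subtype.val hc1.symm.eq)
    have h2' : Commute (b₂ : G) a₂ := (congrArg Subtype.val hc2.symm.eq)
    have h3' : Commute (b₁ : G) a₂ := hcom b₁ a₂
    have h4' : Commute (b₂ : G) a₁ := (hcom a₁ b₂).symm
    exact Commute.mul_left (Commute.mul_right h1' h3') (Commute.mul_right h4' h2')
  have hwt : ¬ p ∣ orderOf (((b₁ : G) * b₂) * ((a₁ : G) * a₂)) := by
    rw [hcw.eq, ← hprod]
    exact hs
  have h1a := eq_one_of_regular_mul hcw hreg hwt hw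
  refine ⟨b₁, b₁.2, b₂, b₂.2, ?_, hr1', hr2'⟩
  rw [hprod, h1a, one_mul]

theorem s4521_main (p : ℕ) [hp : Fact p.Prime] (M : Ideal AlgInt) (hM : IsPModular p M) (U₁ U₂ : Subgroup G)
    [Fintype U₁] [Fintype U₂] (hcomm : ∀ u ∈ U₁, ∀ v ∈ U₂, u * v = v * u) (hgen : U₁ ⊔ U₂ = ⊤)
    (hZ : IsPGroup p ↥(U₁ ⊓ U₂)) (χ : IrrCharacter G) (ψ₁ : IrrCharacter U₁) (ψ₂ : IrrCharacter U₂)
    (h₁ : classInner (fun u : U₁ => (χ : G → ℂ) u) (ψ₁ : U₁ → ℂ) ≠ 0)
    (h₂ : classInner (fun u : U₂ => (χ : G → ℂ) u) (ψ₂ : U₂ → ℂ) ≠ 0) :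
    χ ∈ principalBlock M G ↔ (ψ₁ ∈ principalBlock M U₁ ∧ ψ₂ ∈ principalBlock M U₂) := by
  classical
  have hPr := hM.isPrime
  have hcomm' : ∀ u ∈ U₂, ∀ v ∈ U₁, u * v = v * u := fun u hu v hv => (hcomm v hv u hu).symm
  have hgen' : U₂ ⊔ U₁ = ⊤ := by rw [sup_comm, hgen]
  haveI hn₁ : U₁.Normal := normal_of_commute hcomm hgen
  haveI hn₂ : U₂.Normal := normal_of_commute hcomm' hgen'
  obtain ⟨e₁, he₁, hr₁⟩ := res_factor hcomm hgen χ.2 ψ₁.2 h₁
  obtain ⟨e₂, he₂, hr₂⟩ := res_factor hcomm' hgen' χ.2 ψ₂.2 h₂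
  have hc₁ : ∀ u : U₁, centralChar (ψ₁ : U₁ → ℂ) u = centralChar (χ : G → ℂ) u :=
    fun u => centralChar_factor hcomm hgen he₁ hr₁ u
  have hc₂ : ∀ u : U₂, centralChar (ψ₂ : U₂ → ℂ) u = centralChar (χ : G → ℂ) u :=
    fun u => centralChar_factor hcomm' hgen' he₂ hr₂ u
  have ho₁ : ∀ u : U₁, centralChar (fun _ : U₁ => (1 : ℂ)) u = centralChar (fun _ : G => (1 : ℂ)) u :=
    fun u => centralChar_factor hcomm hgen (e := 1) one_ne_zero (fun _ => by simp) u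
  have ho₂ : ∀ u : U₂, centralChar (fun _ : U₂ => (1 : ℂ)) u = centralChar (fun _ : G => (1 : ℂ)) u :=
    fun u => centralChar_factor hcomm' hgen' (e := 1) one_ne_zero (fun _ => by simp) u
  constructor
  · intro h
    have h' : SameBlock M (fun _ : G => (1 : ℂ)) (χ : G → ℂ) := h
    constructor
    · show SameBlock M (fun _ : U₁ => (1 : ℂ)) (ψ₁ : U₁ → ℂ)
      intro u
      rw [hc₁ u, ho₁ u]
      exact h' u
    · show SameBlock M (fun _ : U₂ => (1 : ℂ)) (ψ₂ : U₂ → ℂ)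
      intro u
      rw [hc₂ u, ho₂ u]
      exact h' u
  · rintro ⟨h1, h2⟩
    have h1' : SameBlock M (fun _ : U₁ => (1 : ℂ)) (ψ₁ : U₁ → ℂ) := h1
    have h2' : SameBlock M (fun _ : U₂ => (1 : ℂ)) (ψ₂ : U₂ → ℂ) := h2
    show SameBlock M (fun _ : G => (1 : ℂ)) (χ : G → ℂ)
    have hone : IsIrrCharacter G (fun _ : G => (1 : ℂ)) := isIrrCharacter_one
    have hmain := sameBlock_of_support hM (χ := ⟨_, hone⟩) (ψ := χ) {x | ¬ p ∣ orderOf x}
      (fun B hB x hx => fun hxp => hx (blockCoeff_singular hM hB hxp)) ?_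
    · exact hmain
    · intro s hs
      obtain ⟨b₁, hb₁, b₂, hb₂, rfl, hr1, hr2⟩ := exists_regular_factors hcomm hgen hs
      show centralChar (fun _ : G => (1 : ℂ)) (b₁ * b₂) - centralChar (χ : G → ℂ) (b₁ * b₂) ∈ locI hPr
      rw [centralChar_mul hcomm hgen hZ hb₁ hb₂ hr1 hr2 hone, centralChar_mul hcomm hgen hZ hb₁ hb₂ hr1 hr2 χ.2]
      have ha : centralChar (fun _ : G => (1 : ℂ)) b₁ - centralChar (χ : G → ℂ) b₁ ∈ locI hPr := by
        have := h1' ⟨b₁, hb₁⟩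
        rw [hc₁, ho₁] at this
        exact this
      have hb : centralChar (fun _ : G => (1 : ℂ)) b₂ - centralChar (χ : G → ℂ) b₂ ∈ locI hPr := by
        have := h2' ⟨b₂, hb₂⟩
        rw [hc₂, ho₂] at this
        exact this
      have h3 : centralChar (fun _ : G => (1 : ℂ)) b₁ * centralChar (fun _ : G => (1 : ℂ)) b₂ -
          centralChar (χ : G → ℂ) b₁ * centralChar (χ : G → ℂ) b₂ =
          (centralChar (fun _ : G => (1 : ℂ)) b₁ - centralChar (χ : G → ℂ) b₁) * centralChar (fun _ : G => (1 : ℂ)) b₂ +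
          centralChar (χ : G → ℂ) b₁ * (centralChar (fun _ : G => (1 : ℂ)) b₂ - centralChar (χ : G → ℂ) b₂) := by ring
      rw [h3]
      exact add_mem (locI_mul_right hPr (centralChar_mem hPr hone b₂) ha) (locI_mul_left hPr (centralChar_mem hPr χ.2 b₁) hb)

end Main

end CfsgLib.Char.BL
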