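import Cfsg.Agent.Lib.Block.Normal
import Cfsg.Agent.Lib.Block.FirstMain
import Cfsg.Agent.Lib.Block.MaxPair
import Cfsg.Agent.Lib.Block.Infl
import Cfsg.Agent.Lib.Block.Spectral
import Cfsg.Agent.Lib.Char.PermLemma
import Cfsg.Agent.Lib.Char.BlkCentral

/-!
# The number of blocks of maximal defect
-/

universe u

open Cfsg CfsgLib.Block
open scoped ComplexConjugate

namespace CfsgLib.Char.BL

section Act

variable {X : Type u} [Group X] [Fintype X] (Q : Subgroup X) [hQ : Q.Normal] [Fintype Q]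

/-- The action on characters of a normal subgroup. -/
@[reducible] noncomputable def irrAct : MulAction X (IrrCharacter Q) where
  smul x θ := conjIrr Q x⁻¹ θ
  one_smul θ := by
    show conjIrr Q 1⁻¹ θ = θ
    rw [inv_one, conjIrr_one]
  mul_smul x y θ := by
    show conjIrr Q (x * y)⁻¹ θ = conjIrr Q x⁻¹ (conjIrr Q y⁻¹ θ)
    rw [mul_inv_rev, conjIrr_mul]

/-- The action on classes of a normal subgroup. -/
@[reducible] noncomputable def classAct : MulAction X (ConjClasses Q) where
  smul x C := ConjClasses.map (conjNormalEquiv Q x).toMonoidHom C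
  one_smul C := by
    obtain ⟨a, rfl⟩ := ConjClasses.mk_surjective C
    show ConjClasses.mk (conjNormalEquiv Q (1 : X) a) = ConjClasses.mk a
    congr 1
    apply Subtype.ext
    show 1 * (a : X) * 1⁻¹ = a
    group
  mul_smul x y C := by
    obtain ⟨a, rfl⟩ := ConjClasses.mk_surjective C
    show ConjClasses.mk (conjNormalEquiv Q (x * y) a) = ConjClasses.mk (conjNormalEquiv Q x (conjNormalEquiv Q y a))
    congr 1
    apply Subtype.ext
    show x * y * (a : X) * (x * y)⁻¹ = x * (y * a * y⁻¹) * x⁻¹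
    group

theorem card_orbits_eq :
    Nat.card (@MulAction.orbitRel.Quotient X (IrrCharacter Q) _ (irrAct Q)) =
      Nat.card (@MulAction.orbitRel.Quotient X (ConjClasses Q) _ (classAct Q)) := by
  classical
  letI a₁ := irrAct Q
  letI a₂ := classAct Q
  letI : Fintype (ConjClasses Q) := Fintype.ofFinite _
  letI : Fintype (IrrCharacter Q) := Fintype.ofFinite _
  letI : Fintype (MulAction.orbitRel.Quotient X (IrrCharacter Q)) := Fintype.ofFinite _
  letI : Fintype (MulAction.orbitRel.Quotient X (ConjClasses Q)) := Fintype.ofFinite _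
  have h₁ := MulAction.sum_card_fixedBy_eq_card_orbits_mul_card_group X (IrrCharacter Q)
  have h₂ := MulAction.sum_card_fixedBy_eq_card_orbits_mul_card_group X (ConjClasses Q)
  have hfix : ∀ x : X, Fintype.card (MulAction.fixedBy (IrrCharacter Q) x) =
      Fintype.card (MulAction.fixedBy (ConjClasses Q) x⁻¹) := by
    intro x
    have h3 := card_fixed_classes_eq_card_fixed_irr (conjNormalEquiv Q x⁻¹)
    rw [← Nat.card_eq_fintype_card, ← Nat.card_eq_fintype_card]
    have e1 : Nat.card (MulAction.fixedBy (IrrCharacter Q) x) =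
        Nat.card {χ : IrrCharacter Q // (χ : Q → ℂ) ∘ (conjNormalEquiv Q x⁻¹) = (χ : Q → ℂ)} := by
      refine Nat.card_congr (Equiv.subtypeEquivRight fun θ => ?_)
      rw [MulAction.mem_fixedBy]
      show conjIrr Q x⁻¹ θ = θ ↔ _
      constructor
      · intro h
        exact (congrArg Subtype.val h)
      · intro h
        exact Subtype.ext h
    have e2 : Nat.card (MulAction.fixedBy (ConjClasses Q) x⁻¹) =
        Nat.card {C : ConjClasses Q // ConjClasses.map (conjNormalEquiv Q x⁻¹).toMonoidHom C = C} := by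
      refine Nat.card_congr (Equiv.subtypeEquivRight fun C => ?_)
      rw [MulAction.mem_fixedBy]
      rfl
    rw [e1, e2, h3]
  have hsum : ∑ x : X, Fintype.card (MulAction.fixedBy (IrrCharacter Q) x) =
      ∑ x : X, Fintype.card (MulAction.fixedBy (ConjClasses Q) x) := by
    rw [Finset.sum_congr rfl fun x _ => hfix x]
    exact Fintype.sum_equiv (Equiv.inv X) _ _ fun x => rfl
  rw [hsum, h₂] at h₁
  have hcard : Fintype.card X ≠ 0 := Fintype.card_ne_zero
  have h4 := Nat.eq_of_mul_eq_mul_right (Nat.pos_of_ne_zero hcard) h₁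
  rw [Nat.card_eq_fintype_card, Nat.card_eq_fintype_card, h4]

/-- Orbits on classes are classes inside `Q`. -/
theorem card_orbits_classes :
    Nat.card (@MulAction.orbitRel.Quotient X (ConjClasses Q) _ (classAct Q)) =
      Nat.card {C : ConjClasses X // ∀ n, ConjClasses.mk n = C → n ∈ Q} := by
  classical
  letI a₂ := classAct Q
  have hwell : ∀ c : ConjClasses Q, ∀ n, ConjClasses.mk n = ConjClasses.map Q.subtype c → n ∈ Q := by
    intro c n hn
    obtain ⟨q, rfl⟩ := ConjClasses.mk_surjective c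
    have h1 : IsConj n (q : X) := ConjClasses.mk_eq_mk_iff_isConj.1 hn
    obtain ⟨g, hg⟩ := isConj_iff.1 h1.symm
    rw [← hg]
    exact hQ.conj_mem q q.2 g
  let f : MulAction.orbitRel.Quotient X (ConjClasses Q) → {C : ConjClasses X // ∀ n, ConjClasses.mk n = C → n ∈ Q} :=
    Quotient.lift (fun c => ⟨ConjClasses.map Q.subtype c, hwell c⟩) (by
      intro c₁ c₂ h
      obtain ⟨x, hx⟩ := h
      apply Subtype.ext
      obtain ⟨q, rfl⟩ := ConjClasses.mk_surjective c₂
      rw [← hx]
      show ConjClasses.mk (((conjNormalEquiv Q x q : Q)) : X) = ConjClasses.mk (q : X)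
      rw [ConjClasses.mk_eq_mk_iff_isConj]
      exact IsConj.symm (isConj_iff.2 ⟨x, rfl⟩))
  refine Nat.card_congr (Equiv.ofBijective f ⟨?_, ?_⟩)
  · intro a b hab
    obtain ⟨c₁, rfl⟩ := Quotient.exists_rep a
    obtain ⟨c₂, rfl⟩ := Quotient.exists_rep b
    obtain ⟨q₁, rfl⟩ := ConjClasses.mk_surjective c₁
    obtain ⟨q₂, rfl⟩ := ConjClasses.mk_surjective c₂
    have h1 : ConjClasses.mk (q₁ : X) = ConjClasses.mk (q₂ : X) := congrArg Subtype.val hab
    obtain ⟨x, hx⟩ := isConj_iff.1 (ConjClasses.mk_eq_mk_iff_isConj.1 h1)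
    apply Quotient.sound
    refine ⟨x⁻¹, ?_⟩
    show ConjClasses.mk (conjNormalEquiv Q x⁻¹ q₂) = ConjClasses.mk q₁
    congr 1
    apply Subtype.ext
    show x⁻¹ * (q₂ : X) * x⁻¹⁻¹ = q₁
    rw [← hx]
    group
  · rintro ⟨C, hC⟩
    obtain ⟨n, rfl⟩ := ConjClasses.mk_surjective C
    have hn : n ∈ Q := hC n rfl
    exact ⟨Quotient.mk _ (ConjClasses.mk (⟨n, hn⟩ : Q)), rfl⟩

end Act

section Main

variable {X : Type u} [Group X] [Fintype X] {p : ℕ} [hp : Fact p.Prime] {M : Ideal AlgInt}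

theorem sval_fB_of_pprime (hM : IsPModular p M) (Q : Subgroup X) [Fintype Q] (hQp : ¬ p ∣ Nat.card Q)
    (A : Set (IrrCharacter Q)) : SVal hM.isPrime (fB A) := by
  classical
  have hPr := hM.isPrime
  intro y
  rw [coeff_fB, blockCoeff_eq]
  refine sum_mem fun θ _ => ?_
  by_cases hθ : θ ∈ A
  · rw [if_pos hθ, coeff_eChi, div_eq_mul_inv, mul_comm ((θ : Q → ℂ) 1), mul_assoc]
    refine mul_mem (natCast_inv_mem hM hQp) (mul_mem (char_mem hPr θ.2.isCharacter _) (conj_char_mem hPr θ.2.isCharacter _))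
  · rw [if_neg hθ]
    exact zero_mem _

/-- Constituents in the same block lie in the same orbit. -/
theorem orbit_of_sameBlock (hM : IsPModular p M) (Q : Subgroup X) [hQ : Q.Normal] [Fintype Q] (hQp : ¬ p ∣ Nat.card Q)
    {χ ψ : IrrCharacter X} (h : SameBlock M (χ : X → ℂ) (ψ : X → ℂ)) {τ τ' : IrrCharacter Q}
    (hτ : classInner (fun n : Q => (χ : X → ℂ) n) (τ : Q → ℂ) ≠ 0)
    (hτ' : classInner (fun n : Q => (ψ : X → ℂ) n) (τ' : Q → ℂ) ≠ 0) : ∃ g : X, τ' = conjIrr Q g τ := by
  classical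
  have hPr := hM.isPrime
  set A := orbitSet Q {τ} with hA
  have hst : IsStable Q A := isStable_orbitSet Q _
  have hs : SVal hPr (incl Q (fB A)) := sval_incl Q hPr (sval_fB_of_pprime hM Q hQp A)
  have h1 := om_sub_mem_of_sameBlock hPr χ.2 ψ.2 h (isCent_incl_fB Q hst) hs
  have hτA : τ ∈ A := subset_orbitSet Q {τ} (Set.mem_singleton τ)
  rw [om_incl_fB Q hst χ.2 hτ, om_incl_fB Q hst ψ.2 hτ', if_pos hτA] at h1
  by_cases h2 : τ' ∈ A
  · obtain ⟨g, θ, hθ, rfl⟩ := h2
    have hθ' : θ = τ := hθ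
    exact ⟨g, by rw [hθ']⟩
  · rw [if_neg h2, sub_zero] at h1
    exact absurd h1 (one_notMem_locI hPr)

theorem card_blocks_eq (hM : IsPModular p M) (Q : Subgroup X) [hQ : Q.Normal] [Fintype Q] (hQp : ¬ p ∣ Nat.card Q)
    (hS : ∀ B : Set (IrrCharacter X), IsPBlock M B → ∀ x, blockCoeff B x ≠ 0 → x ∈ Q) :
    Nat.card {b : Set (IrrCharacter X) // IsPBlock M b} = Nat.card {C : ConjClasses X // ∀ n, ConjClasses.mk n = C → n ∈ Q} := by
  classical
  have hPr := hM.isPrime
  rw [← card_orbits_classes Q, ← card_orbits_eq Q]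
  letI a₁ := irrAct Q
  have hne : ∀ b : {b : Set (IrrCharacter X) // IsPBlock M b}, ∃ χ : IrrCharacter X, χ ∈ b.1 :=
    fun b => IsPBlock.nonempty hPr b.2
  choose rep hrep using hne
  choose con hcon using fun χ : IrrCharacter X => exists_constituent_irr Q χ.2
  let Φ : {b : Set (IrrCharacter X) // IsPBlock M b} → MulAction.orbitRel.Quotient X (IrrCharacter Q) :=
    fun b => Quotient.mk _ (con (rep b))
  have hshare : ∀ (χ ψ : IrrCharacter X) (τ : IrrCharacter Q),
      classInner (fun n : Q => (χ : X → ℂ) n) (τ : Q → ℂ) ≠ 0 →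
      classInner (fun n : Q => (ψ : X → ℂ) n) (τ : Q → ℂ) ≠ 0 → SameBlock M (χ : X → ℂ) (ψ : X → ℂ) := by
    intro χ ψ τ h1 h2
    refine sameBlock_of_support hM (Q : Set X) (fun B hB x hx => hS B hB x hx) fun s hs => ?_
    have h3 := (constituent_iff_centralChar Q χ τ).1 h1 ⟨s, hs⟩
    have h4 := (constituent_iff_centralChar Q ψ τ).1 h2 ⟨s, hs⟩
    show centralChar (χ : X → ℂ) s - centralChar (ψ : X → ℂ) s ∈ locI hPr
    have h5 : centralChar (χ : X → ℂ) s = centralChar (ψ : X → ℂ) s := h3.trans h4.symm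
    rw [h5, sub_self]
    exact zero_mem _
  refine Nat.card_congr (Equiv.ofBijective Φ ⟨?_, ?_⟩)
  · intro b₁ b₂ h
    have h1 : MulAction.orbitRel X (IrrCharacter Q) |>.r (con (rep b₁)) (con (rep b₂)) := Quotient.exact h
    obtain ⟨x, hx⟩ := h1
    have h2 : conjIrr Q x⁻¹ (con (rep b₂)) = con (rep b₁) := hx
    have h3 : classInner (fun n : Q => ((rep b₂ : IrrCharacter X) : X → ℂ) n) ((con (rep b₁) : IrrCharacter Q) : Q → ℂ) ≠ 0 := by
      rw [← h2, classInner_conjIrr Q (rep b₂).2.isClassFunction]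
      exact hcon _
    have h4 := hshare (rep b₁) (rep b₂) _ (hcon _) h3
    apply Subtype.ext
    rw [blockOf_eq_of_mem hPr b₁.2 (hrep b₁), blockOf_eq_of_mem hPr b₂.2 (hrep b₂)]
    ext ξ
    constructor
    · intro hξ
      exact SameBlock.trans hPr (SameBlock.symm hPr h4) hξ
    · intro hξ
      exact SameBlock.trans hPr h4 hξ
  · intro ω
    obtain ⟨τ, rfl⟩ := Quotient.exists_rep ω
    obtain ⟨χ, hχ⟩ := exists_irr_above Q τ
    have hb : IsPBlock M (blockOf M (χ : X → ℂ)) := ⟨χ, rfl⟩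
    refine ⟨⟨_, hb⟩, ?_⟩
    apply Quotient.sound
    have hs : SameBlock M (χ : X → ℂ) ((rep ⟨_, hb⟩ : IrrCharacter X) : X → ℂ) := hrep ⟨_, hb⟩
    obtain ⟨g, hg⟩ := orbit_of_sameBlock hM Q hQp hs hχ (hcon _)
    refine ⟨g⁻¹, ?_⟩
    show conjIrr Q g⁻¹⁻¹ τ = con (rep ⟨_, hb⟩)
    rw [inv_inv, hg]

/-- The subgroup of regular elements of the centralizer of a normal Sylow subgroup. -/
theorem exists_regular_centralizer (P₀ : Sylow p X) (hP₀ : (P₀ : Subgroup X).Normal) :
    ∃ Q : Subgroup X, Q.Normal ∧ ¬ p ∣ Nat.card Q ∧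
      ∀ n, n ∈ Q ↔ ¬ p ∣ orderOf n ∧ n ∈ Subgroup.centralizer ((P₀ : Subgroup X) : Set X) := by
  classical
  set C := Subgroup.centralizer ((P₀ : Subgroup X) : Set X) with hC
  have hCn : C.Normal := by
    haveI := hP₀
    exact Subgroup.normal_centralizer
  set Z : Subgroup C := (P₀ : Subgroup X).subgroupOf C with hZ
  have hZn : Z.Normal := Subgroup.normal_subgroupOf
  have hZidx : ¬ p ∣ Z.index := by
    have h1 : Z.index ∣ (P₀ : Subgroup X).index := Subgroup.relIndex_dvd_index_of_normal _ _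
    exact fun h2 => Sylow.not_dvd_index P₀ (h2.trans h1)
  have hZp : IsPGroup p Z := P₀.2.comap_subtype
  have hcop : Nat.Coprime (Nat.card Z) Z.index := by
    obtain ⟨k, hk⟩ := IsPGroup.iff_card.1 hZp
    rw [hk]
    exact Nat.Coprime.pow_left _ ((Nat.Prime.coprime_iff_not_dvd hp.out).2 hZidx)
  obtain ⟨H, hH⟩ := Subgroup.exists_right_complement'_of_coprime hcop
  have hHcard : ¬ p ∣ Nat.card H := by
    rw [← hH.symm.index_eq_card]
    exact hZidx
  have hreg : ∀ h : H, ¬ p ∣ orderOf (((h : C) : X)) := by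
    intro h h1
    rw [Subgroup.orderOf_coe, Subgroup.orderOf_coe] at h1
    exact hHcard (h1.trans (orderOf_dvd_natCard h))
  have hmem : ∀ n : X, n ∈ H.map C.subtype ↔ ¬ p ∣ orderOf n ∧ n ∈ C := by
    intro n
    constructor
    · rintro ⟨h, hh, rfl⟩
      exact ⟨hreg ⟨h, hh⟩, h.2⟩
    · rintro ⟨h1, h2⟩
      -- write `n = z h`
      obtain ⟨⟨z, h⟩, hzh⟩ := hH.2 (⟨n, h2⟩ : C)
      have hzh' : (((z : C) : X)) * (((h : C) : X)) = n := congrArg Subtype.val hzh
      have hzP : (((z : C) : X)) ∈ (P₀ : Subgroup X) := z.2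
      have hcom : Commute (((h : C) : X)) (((z : C) : X)) := by
        have := (Subgroup.mem_centralizer_iff.1 (h : C).2) _ hzP
        exact this.symm
      obtain ⟨k, hk⟩ := P₀.2 ⟨_, hzP⟩
      have hk' : (((z : C) : X)) ^ p ^ k = 1 := by
        have := congrArg Subtype.val hk
        simpa using this
      have hwt : ¬ p ∣ orderOf (((h : C) : X) * ((z : C) : X)) := by
        rw [hcom.eq, hzh']
        exact h1
      have hz1 := eq_one_of_regular_mul hcom (hreg h) hwt hk'
      refine ⟨(h : C), h.2, ?_⟩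
      show ((h : C) : X) = n
      rw [← hzh', hz1, one_mul]
  refine ⟨H.map C.subtype, ?_, ?_, hmem⟩
  · refine ⟨fun n hn g => ?_⟩
    rw [hmem] at hn ⊢
    refine ⟨?_, hCn.conj_mem n hn.2 g⟩
    rw [orderOf_conj']
    exact hn.1
  · rw [Subgroup.card_map_of_injective C.subtype_injective]
    exact hHcard

/-- Blocks of a group with a normal Sylow subgroup. -/
theorem card_blocks_of_normal_sylow (hM : IsPModular p M) (P₀ : Sylow p X) (hP₀ : (P₀ : Subgroup X).Normal) :
    Nat.card {b : Set (IrrCharacter X) // IsPBlock M b} =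
      Nat.card {C : ConjClasses X // ∀ n, ConjClasses.mk n = C → ¬ p ∣ orderOf n ∧ n ∈ Subgroup.centralizer ((P₀ : Subgroup X) : Set X)} := by
  classical
  obtain ⟨Q, hQn, hQp, hQ⟩ := exists_regular_centralizer P₀ hP₀
  letI : Fintype Q := Fintype.ofFinite _
  have hS : ∀ B : Set (IrrCharacter X), IsPBlock M B → ∀ x, blockCoeff B x ≠ 0 → x ∈ Q := by
    intro B hB x hx
    rw [hQ]
    constructor
    · intro hxp
      exact hx (blockCoeff_singular hM hB hxp)
    · by_contra hxC
      exact hx (blockCoeff_eq_zero_of_not_centralizer hM (P₀ : Subgroup X) P₀.2 hB hxC)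
  rw [card_blocks_eq hM Q hQp hS]
  refine Nat.card_congr (Equiv.subtypeEquivRight fun C => ?_)
  simp only [hQ]

end Main

theorem s0953_main {G : Type u} [Group G] [Finite G] (p : ℕ) [hp : Fact p.Prime] (M : Ideal AlgInt) (hM : IsPModular p M)
    (P : Sylow p G) :
    Nat.card {B : Set (IrrCharacter G) // IsPBlock M B ∧ IsDefectGroup p M B (P : Subgroup G)} =
      Nat.card {C : ConjClasses (Subgroup.normalizer ((P : Subgroup G) : Set G)) //
        ∀ n : Subgroup.normalizer ((P : Subgroup G) : Set G), ConjClasses.mk n = C →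
          ¬ p ∣ orderOf n ∧ (n : G) ∈ Subgroup.centralizer ((P : Subgroup G) : Set G)} := by
  classical
  letI : Fintype G := Fintype.ofFinite G
  set N := Subgroup.normalizer ((P : Subgroup G) : Set G) with hN
  letI : Fintype N := Fintype.ofFinite _
  have hPN : (P : Subgroup G) ≤ N := Subgroup.le_normalizer
  let P₀ : Sylow p N := P.subtype hPN
  have hP₀c : (P₀ : Subgroup N) = (P : Subgroup G).subgroupOf N := Sylow.coe_subtype _ _
  have hP₀n : (P₀ : Subgroup N).Normal := by
    rw [hP₀c]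
    exact Subgroup.normal_in_normalizer
  have hdef : ∀ b : Set (IrrCharacter N), IsPBlock M b → IsDefectGroup p M b (P₀ : Subgroup N) := by
    intro b hb
    obtain ⟨E, hE⟩ := exists_defectGroup hM hb
    have hE' := hE
    obtain ⟨g, hg, D, hD⟩ := hE'
    have h1 : (P₀ : Subgroup N) ≤ E := by
      rw [hD]
      exact normal_le_of_defectClass hM hb hg D hP₀n P₀.2
    have hEp : IsPGroup p E := by
      rw [hD]
      exact isPGroup_map_sylow _ D
    have h2 : E = P₀ := P₀.is_maximal' hEp h1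
    rwa [← h2]
  have hPp : IsPGroup p (P : Subgroup G) := P.2
  have hLHS : Nat.card {B : Set (IrrCharacter G) // IsPBlock M B ∧ IsDefectGroup p M B (P : Subgroup G)} =
      Nat.card {b : Set (IrrCharacter N) // IsPBlock M b} := by
    have hex : ∀ b : {b : Set (IrrCharacter N) // IsPBlock M b},
        ∃ B : Set (IrrCharacter G), IsPBlock M B ∧ IsDefectGroup p M B (P : Subgroup G) ∧ IsInducedBlock M N b.1 B := by
      intro b
      have h1 := hdef b.1 b.2
      rw [hP₀c] at h1
      exact first_main_i hM hPp b.2 h1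
    choose F hF₁ hF₂ hF₃ using hex
    symm
    refine Nat.card_congr (Equiv.ofBijective (fun b => ⟨F b, hF₁ b, hF₂ b⟩) ⟨?_, ?_⟩)
    · intro b₁ b₂ h
      have h1 : F b₁ = F b₂ := congrArg Subtype.val h
      have h2 := hF₃ b₁
      have h3 := hF₃ b₂
      rw [← h1] at h3
      have h4 := hdef b₁.1 b₁.2
      rw [hP₀c] at h4
      exact Subtype.ext (first_main_unique hM hPp h2 h3 h4).symm
    · rintro ⟨B, hB, hD⟩
      obtain ⟨b, hind⟩ := exists_induced_of_le_defect hM hPp Subgroup.le_normalizer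
        (Subgroup.centralizer_le_normalizer _) le_rfl hB hD le_rfl
      refine ⟨⟨b, hind.1⟩, ?_⟩
      apply Subtype.ext
      exact induced_unique hM (hF₃ ⟨b, hind.1⟩) hind
  rw [hLHS, card_blocks_of_normal_sylow hM P₀ hP₀n]
  refine Nat.card_congr (Equiv.subtypeEquivRight fun C => ?_)
  refine forall_congr' fun n => imp_congr_right fun _ => and_congr_right fun _ => ?_
  rw [Subgroup.mem_centralizer_iff, Subgroup.mem_centralizer_iff, hP₀c]
  constructor
  · intro h y hy
    exact congrArg Subtype.val (h ⟨y, hPN hy⟩ hy)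
  · intro h y hy
    exact Subtype.ext (h (y : G) hy)

end CfsgLib.Char.BL
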