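import Mathlib
import Cfsg.Agent.Lib.Char.UniqueSing
import Cfsg.Agent.Lib.Solv.Core
import Cfsg.Prelude.Def_CaseTheorems

/-!
# Miscellaneous results VI
-/

set_option linter.unusedSectionVars false
set_option linter.style.haveILetI false
set_option linter.unusedSimpArgs false
set_option linter.unusedVariables false

namespace CfsgLib.Char

open Module Cfsg
open scoped ComplexConjugate

universe u

section Zeros

variable {G : Type u} [Group G] [Fintype G]

theorem zeros_not_perfect_iff (u : G) (hu : u ≠ 1) (c : ℂ)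
    (hyp : ∀ χ : IrrCharacter G, (χ : G → ℂ) ≠ (fun _ => (1 : ℂ)) →
      ((χ : G → ℂ) 1 - (χ : G → ℂ) u = c ∨ (χ : G → ℂ) u = 0)) :
    (commutator G ≠ ⊤ ↔ c = 2) ∧ (commutator G ≠ ⊤ →
      orderOf u = 2 ∧ Subgroup.zpowers u ⊔ Cfsg.oddCore G = ⊤ ∧
        Subgroup.centralizer ({u} : Set G) = Subgroup.zpowers u) := by
  classical
  let p₀ : IrrCharacter G := ⟨fun _ => 1, isIrrCharacter_one⟩
  have hp₀ : ∀ g : G, (p₀ : G → ℂ) g = 1 := fun g => rfl
  have hne : ∀ ψ : IrrCharacter G, ψ ≠ p₀ → (ψ : G → ℂ) ≠ fun _ => (1 : ℂ) :=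
    fun ψ h h2 => h (Subtype.ext h2)
  have hdeg : ∀ ψ : IrrCharacter G, ∃ d : ℕ, 0 < d ∧ (ψ : G → ℂ) 1 = d := fun ψ => ψ.2.map_one
  -- the column relation
  have hcol : ∑ ψ : IrrCharacter G, (ψ : G → ℂ) 1 * (ψ : G → ℂ) u = 0 := by
    have h1 := column_orthogonality (G := G) u 1
    rw [if_neg (fun h => hu (isConj_one_left.mp h))] at h1
    rw [← h1]
    refine Finset.sum_congr rfl fun ψ _ => ?_
    obtain ⟨d, _, hd⟩ := hdeg ψ
    rw [hd, Complex.conj_natCast, mul_comm]
  have hsum : 1 + ∑ ψ ∈ Finset.univ.erase p₀, (ψ : G → ℂ) 1 * (ψ : G → ℂ) u = 0 := by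
    rw [← Finset.add_sum_erase _ _ (Finset.mem_univ p₀)] at hcol
    have h2 : (p₀ : G → ℂ) 1 * (p₀ : G → ℂ) u = 1 := by simp [hp₀]
    rwa [h2] at hcol
  -- nonnegativity principle
  have hpos : ∀ s : Finset (IrrCharacter G), (∀ ψ ∈ s, 0 ≤ ((ψ : G → ℂ) 1 * (ψ : G → ℂ) u).re) →
      0 ≤ (∑ ψ ∈ s, (ψ : G → ℂ) 1 * (ψ : G → ℂ) u).re := by
    intro s hs
    rw [Complex.re_sum]
    exact Finset.sum_nonneg hs
  -- `c = 2` implies not perfect
  have hA : c = 2 → commutator G ≠ ⊤ := by
    intro hc htop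
    have hall : ∀ ψ : IrrCharacter G, ψ ≠ p₀ → (ψ : G → ℂ) 1 ≠ 1 := by
      intro ψ hψ h1
      apply hne ψ hψ
      funext g
      have := linear_trivial_on_commutator ψ h1 g (by rw [htop]; trivial)
      rw [this, h1]
    have h1 := hpos (Finset.univ.erase p₀) (by
      intro ψ hψ
      have hψ' : ψ ≠ p₀ := Finset.ne_of_mem_erase hψ
      obtain ⟨d, hd0, hd⟩ := hdeg ψ
      have hd2 : 2 ≤ d := by
        have := hall ψ hψ'
        rw [hd] at this
        have h3 : d ≠ 1 := fun h => this (by rw [h]; simp)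
        omega
      rcases hyp ψ (hne ψ hψ') with h | h
      · rw [hc] at h
        have h3 : (ψ : G → ℂ) u = ((d : ℝ) - 2 : ℝ) := by
          push_cast
          rw [← hd]
          linear_combination -h
        rw [hd, h3]
        have h4 : (2 : ℝ) ≤ d := by exact_mod_cast hd2
        have h5 : ((d : ℂ) * (((d : ℝ) - 2 : ℝ) : ℂ)).re = d * ((d : ℝ) - 2) := by
          rw [Complex.mul_re]
          simp
        rw [h5]
        exact mul_nonneg (by linarith) (by linarith)
      · rw [h]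
        simp)
    have h2 := congrArg Complex.re hsum
    simp only [Complex.add_re, Complex.one_re, Complex.zero_re] at h2
    linarith
  -- not perfect: homomorphisms
  have hhom : ∀ l : G →* ℂˣ, l ≠ 1 → (((l u : ℂˣ) : ℂ)) = 1 - c := by
    intro l hl
    have hirr := isIrr_of_hom l
    let ψ : IrrCharacter G := ⟨fun g => ((l g : ℂˣ) : ℂ), hirr⟩
    have hψ : ψ ≠ p₀ := by
      intro h
      apply hl
      ext g
      have := congrFun (congrArg Subtype.val h) g
      simpa [ψ, p₀] using this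
    rcases hyp ψ (hne ψ hψ) with h | h
    · have h1 : (ψ : G → ℂ) 1 = 1 := by simp [ψ]
      rw [h1] at h
      have h2 : (ψ : G → ℂ) u = ((l u : ℂˣ) : ℂ) := rfl
      rw [← h, h2]
      ring
    · have h2 : (ψ : G → ℂ) u = ((l u : ℂˣ) : ℂ) := rfl
      rw [h2] at h
      exact absurd h (Units.ne_zero _)
  have hnp : commutator G ≠ ⊤ → ∃ l : G →* ℂˣ, l ≠ 1 := by
    intro htop
    obtain ⟨g, hg⟩ : ∃ g, g ∉ commutator G := by
      by_contra hall
      push Not at hall
      exact htop (eq_top_iff.mpr fun g _ => hall g)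
    obtain ⟨l, hl⟩ := exists_hom_ne_of_not_mem_commutator hg
    refine ⟨l, fun h => hl ?_⟩
    rw [h]
    rfl
  have hB : commutator G ≠ ⊤ → c = 2 := by
    intro htop
    obtain ⟨l, hl⟩ := hnp htop
    have h1 := hhom l hl
    have hl' : l⁻¹ ≠ 1 := fun h => hl ((@inv_eq_one (G →* ℂˣ) _ l).mp h)
    have h2 := hhom l⁻¹ hl'
    have h3 : (((l⁻¹ u : ℂˣ) : ℂ)) = (((l u : ℂˣ) : ℂ))⁻¹ := by
      simp [MonoidHom.inv_apply]
    rw [h3, ← h1] at h2
    set z := (((l u : ℂˣ) : ℂ)) with hz
    have hz0 : z ≠ 0 := Units.ne_zero _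
    have h4 : z * z = 1 := by
      have : z⁻¹ * z = 1 := inv_mul_cancel₀ hz0
      rw [h2] at this
      exact this
    have h5 : (z - 1) * (z + 1) = 0 := by linear_combination h4
    rcases mul_eq_zero.mp h5 with h6 | h6
    · -- `c = 0` impossible
      exfalso
      have hc : c = 0 := by
        have : z = 1 := by linear_combination h6
        rw [this] at h1
        linear_combination h1
      have h7 := hpos (Finset.univ.erase p₀) (by
        intro ψ hψ
        have hψ' : ψ ≠ p₀ := Finset.ne_of_mem_erase hψ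
        obtain ⟨d, hd0, hd⟩ := hdeg ψ
        rcases hyp ψ (hne ψ hψ') with h | h
        · rw [hc, sub_eq_zero] at h
          rw [← h, hd, ← Nat.cast_mul, Complex.natCast_re]
          positivity
        · rw [h]
          simp)
      have h8 := congrArg Complex.re hsum
      simp only [Complex.add_re, Complex.one_re, Complex.zero_re] at h8
      linarith
    · have : z = -1 := by linear_combination h6
      rw [this] at h1
      linear_combination h1
  refine ⟨⟨hB, hA⟩, fun htop => ?_⟩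
  have hc := hB htop
  obtain ⟨l₀, hl₀⟩ := hnp htop
  have hval : ∀ l : G →* ℂˣ, l ≠ 1 → l u = -1 := by
    intro l hl
    apply Units.ext
    rw [hhom l hl, hc]
    push_cast
    norm_num
  have huniq : ∀ l : G →* ℂˣ, l ≠ 1 → l = l₀ := by
    intro l hl
    by_contra hne'
    have h1 : l * l₀⁻¹ ≠ 1 := fun h => hne' ((@mul_inv_eq_one (G →* ℂˣ) _ l l₀).mp h)
    have h2 := hval _ h1
    have h3 : (l * l₀⁻¹) u = l u * (l₀ u)⁻¹ := by
      simp [MonoidHom.mul_apply, MonoidHom.inv_apply]
    rw [h3, hval l hl, hval l₀ hl₀] at h2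
    have h4 := congrArg (fun x : ℂˣ => ((x : ℂˣ) : ℂ)) h2
    norm_num at h4
  let lam₀ : IrrCharacter G := ⟨fun g => ((l₀ g : ℂˣ) : ℂ), isIrr_of_hom l₀⟩
  have hlam₀ : ∀ g : G, (lam₀ : G → ℂ) g = ((l₀ g : ℂˣ) : ℂ) := fun g => rfl
  have hlam₀u : (lam₀ : G → ℂ) u = -1 := by
    rw [hlam₀, hval l₀ hl₀]
    simp
  have hlamne : lam₀ ≠ p₀ := by
    intro h
    apply hl₀
    ext g
    have := congrFun (congrArg Subtype.val h) g
    simpa [lam₀, p₀] using this
  -- all other characters vanish at `u`.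
  have hothers : ∀ ψ : IrrCharacter G, ψ ≠ p₀ → ψ ≠ lam₀ → (ψ : G → ℂ) u = 0 := by
    -- degrees at least 2
    have hdeg2 : ∀ ψ : IrrCharacter G, ψ ≠ p₀ → ψ ≠ lam₀ → ∃ d : ℕ, 2 ≤ d ∧ (ψ : G → ℂ) 1 = d := by
      intro ψ h1 h2
      obtain ⟨d, hd0, hd⟩ := hdeg ψ
      refine ⟨d, ?_, hd⟩
      by_contra hlt
      have hd1 : d = 1 := by omega
      have h3 : (ψ : G → ℂ) 1 = 1 := by rw [hd, hd1]; simp
      obtain ⟨l, hl⟩ := exists_hom_of_degree_one ψ.2.isCharacter h3
      by_cases hl1 : l = 1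
      · apply h1
        apply Subtype.ext
        rw [hl, hl1]
        funext g
        simp [p₀]
      · apply h2
        apply Subtype.ext
        rw [hl, huniq l hl1]
    have hE : ∑ ψ ∈ (Finset.univ.erase p₀).erase lam₀, (ψ : G → ℂ) 1 * (ψ : G → ℂ) u = 0 := by
      have hmem : lam₀ ∈ Finset.univ.erase p₀ := Finset.mem_erase.mpr ⟨hlamne, Finset.mem_univ _⟩
      rw [← Finset.add_sum_erase _ _ hmem] at hsum
      have h1 : (lam₀ : G → ℂ) 1 * (lam₀ : G → ℂ) u = -1 := by
        rw [hlam₀u, hlam₀]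
        simp
      rw [h1] at hsum
      linear_combination hsum
    have hre : ∀ ψ ∈ (Finset.univ.erase p₀).erase lam₀, 0 ≤ ((ψ : G → ℂ) 1 * (ψ : G → ℂ) u).re ∧
        (((ψ : G → ℂ) 1 * (ψ : G → ℂ) u).re = 0 → (ψ : G → ℂ) u = 0) := by
      intro ψ hψ
      have h1 : ψ ≠ lam₀ := Finset.ne_of_mem_erase hψ
      have h2 : ψ ≠ p₀ := Finset.ne_of_mem_erase (Finset.mem_of_mem_erase hψ)
      obtain ⟨d, hd2, hd⟩ := hdeg2 ψ h2 h1
      rcases hyp ψ (hne ψ h2) with h | h
      · rw [hc] at h
        have h3 : (ψ : G → ℂ) u = ((d : ℝ) - 2 : ℝ) := by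
          push_cast
          rw [← hd]
          linear_combination -h
        have h4 : (2 : ℝ) ≤ d := by exact_mod_cast hd2
        have h5 : ((d : ℂ) * (((d : ℝ) - 2 : ℝ) : ℂ)).re = d * ((d : ℝ) - 2) := by
          rw [Complex.mul_re]
          simp
        rw [hd, h3, h5]
        refine ⟨mul_nonneg (by linarith) (by linarith), fun h6 => ?_⟩
        have h7 : (d : ℝ) ≠ 0 := by positivity
        have h8 : (d : ℝ) - 2 = 0 := by
          rcases mul_eq_zero.mp h6 with h9 | h9
          · exact absurd h9 h7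
          · exact h9
        rw [h8]
        simp
      · rw [h]
        simp
    intro ψ h1 h2
    have hψ : ψ ∈ (Finset.univ.erase p₀).erase lam₀ :=
      Finset.mem_erase.mpr ⟨h2, Finset.mem_erase.mpr ⟨h1, Finset.mem_univ _⟩⟩
    refine (hre ψ hψ).2 ?_
    have h3 := congrArg Complex.re hE
    rw [Complex.re_sum, Complex.zero_re] at h3
    exact (Finset.sum_eq_zero_iff_of_nonneg (fun i hi => (hre i hi).1)).mp h3 ψ hψ
  -- the centralizer has order two
  have hcard : Nat.card (Subgroup.centralizer ({u} : Set G)) = 2 := by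
    have h1 := column_orthogonality (G := G) u u
    rw [if_pos (IsConj.refl u)] at h1
    have h2 : ∑ ψ : IrrCharacter G, (ψ : G → ℂ) u * conj ((ψ : G → ℂ) u) = 2 := by
      rw [← Finset.add_sum_erase _ _ (Finset.mem_univ p₀)]
      have hmem : lam₀ ∈ Finset.univ.erase p₀ := Finset.mem_erase.mpr ⟨hlamne, Finset.mem_univ _⟩
      rw [← Finset.add_sum_erase _ _ hmem]
      rw [Finset.sum_eq_zero (fun ψ hψ => by
        have h3 : ψ ≠ lam₀ := Finset.ne_of_mem_erase hψ
        have h4 : ψ ≠ p₀ := Finset.ne_of_mem_erase (Finset.mem_of_mem_erase hψ)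
        rw [hothers ψ h4 h3]
        simp)]
      rw [hlam₀u, hp₀]
      simp
      norm_num
    rw [h2] at h1
    have h3 : ((Nat.card (Subgroup.centralizer ({u} : Set G)) : ℕ) : ℂ) = ((2 : ℕ) : ℂ) := by
      rw [← h1]
      norm_num
    exact_mod_cast h3
  have hucent : u ∈ Subgroup.centralizer ({u} : Set G) := by
    rw [Subgroup.mem_centralizer_iff]
    intro g hg
    rw [Set.mem_singleton_iff] at hg
    rw [hg]
  have horder : orderOf u = 2 := by
    have h1 := Subgroup.orderOf_dvd_natCard _ hucent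
    rw [hcard] at h1
    rcases (Nat.dvd_prime Nat.prime_two).mp h1 with h | h
    · exact absurd (orderOf_eq_one_iff.mp h) hu
    · exact h
  have hcen : Subgroup.centralizer ({u} : Set G) = Subgroup.zpowers u := by
    symm
    apply Subgroup.eq_of_le_of_card_ge
    · rw [Subgroup.zpowers_le]
      exact hucent
    · rw [hcard, Nat.card_zpowers, horder]
  refine ⟨horder, ?_, hcen⟩
  -- the kernel
  have hsq : ∀ g : G, l₀ g = 1 ∨ l₀ g = -1 := by
    intro g
    have h1 : l₀ * l₀ = 1 := by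
      by_contra hne'
      have h2 := huniq _ hne'
      have h3 : l₀ = 1 := by
        ext g
        have h4 := DFunLike.congr_fun h2 g
        simp only [MonoidHom.mul_apply] at h4
        have h5 : l₀ g = 1 := by
          have h6 : l₀ g * l₀ g = l₀ g * 1 := by rw [h4, mul_one]
          exact mul_left_cancel h6
        rw [h5]
        rfl
      exact hl₀ h3
    have h2 := congrArg (fun f : G →* ℂˣ => f g) h1
    simp only [MonoidHom.mul_apply, MonoidHom.one_apply] at h2
    have h3 : (((l₀ g : ℂˣ) : ℂ)) * ((l₀ g : ℂˣ) : ℂ) = 1 := by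
      have := congrArg (fun x : ℂˣ => ((x : ℂˣ) : ℂ)) h2
      simpa using this
    have h4 : ((((l₀ g : ℂˣ) : ℂ)) - 1) * (((l₀ g : ℂˣ) : ℂ) + 1) = 0 := by linear_combination h3
    rcases mul_eq_zero.mp h4 with h5 | h5
    · left
      apply Units.ext
      simp only [Units.val_one]
      linear_combination h5
    · right
      apply Units.ext
      simp only [Units.val_neg, Units.val_one]
      linear_combination h5
  have hval1 : l₀ u = -1 := hval l₀ hl₀
  -- all Sylow 2-subgroups have order 2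
  haveI : Fact (Nat.Prime 2) := ⟨Nat.prime_two⟩
  have hu2 : IsPGroup 2 (Subgroup.zpowers u) := by
    apply IsPGroup.of_card (n := 1)
    rw [Nat.card_zpowers, horder]
    norm_num
  obtain ⟨P, hP⟩ := hu2.exists_le_sylow
  have huP : u ∈ (P : Subgroup G) := hP (Subgroup.mem_zpowers u)
  have hPcent : (P : Subgroup G) ≤ Subgroup.centralizer ({u} : Set G) := by
    -- a nontrivial central element of `P` must be `u`
    haveI : Finite P := inferInstance
    haveI : Nontrivial (P : Subgroup G) := by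
      refine ⟨⟨⟨u, huP⟩, 1, ?_⟩⟩
      intro h
      exact hu (congrArg Subtype.val h)
    haveI := P.isPGroup'.center_nontrivial
    obtain ⟨z, hz⟩ := exists_ne (1 : Subgroup.center (P : Subgroup G))
    have hzcomm : ∀ p : (P : Subgroup G), p * (z : (P : Subgroup G)) = (z : (P : Subgroup G)) * p := by
      intro p
      exact (Subgroup.mem_center_iff.mp z.2 p)
    have hzC : ((z : (P : Subgroup G)) : G) ∈ Subgroup.centralizer ({u} : Set G) := by
      rw [Subgroup.mem_centralizer_iff]
      intro g hg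
      rw [Set.mem_singleton_iff] at hg
      rw [hg]
      have := hzcomm ⟨u, huP⟩
      exact congrArg Subtype.val this
    rw [hcen] at hzC ⊢
    have hzu : ((z : (P : Subgroup G)) : G) = u := by
      obtain ⟨k, hk⟩ := Subgroup.mem_zpowers_iff.mp hzC
      have hu2' : u ^ 2 = 1 := by
        rw [← horder]
        exact pow_orderOf_eq_one u
      rcases Int.emod_two_eq_zero_or_one k with h | h
      · exfalso
        apply hz
        apply Subtype.ext
        apply Subtype.ext
        show ((z : (P : Subgroup G)) : G) = 1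
        rw [← hk]
        obtain ⟨m, hm⟩ : ∃ m, k = 2 * m := ⟨k / 2, by omega⟩
        rw [hm, zpow_mul]
        have : u ^ (2 : ℤ) = 1 := by exact_mod_cast hu2'
        rw [this, one_zpow]
      · rw [← hk]
        obtain ⟨m, hm⟩ : ∃ m, k = 2 * m + 1 := ⟨k / 2, by omega⟩
        rw [hm, zpow_add, zpow_mul, zpow_one]
        have : u ^ (2 : ℤ) = 1 := by exact_mod_cast hu2'
        rw [this, one_zpow, one_mul]
    intro p hp
    rw [← hcen, Subgroup.mem_centralizer_iff]
    intro g hg
    rw [Set.mem_singleton_iff] at hg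
    rw [hg, ← hzu]
    have := hzcomm ⟨p, hp⟩
    exact (congrArg Subtype.val this).symm
  have hPcard : Nat.card P = 2 := by
    have h1 := Subgroup.card_le_of_le hPcent
    rw [hcard] at h1
    have h2 := Subgroup.card_le_of_le hP
    rw [Nat.card_zpowers, horder] at h2
    exact le_antisymm h1 h2
  set K := l₀.ker with hK
  have hKodd : Nat.Coprime (Nat.card K) 2 := by
    rw [Nat.coprime_comm, Nat.Prime.coprime_iff_not_dvd Nat.prime_two]
    intro h2
    obtain ⟨t, ht⟩ := exists_prime_orderOf_dvd_card' 2 h2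
    have htK : (t : G) ∈ K := t.2
    have hto : orderOf (t : G) = 2 := by rw [← ht]; exact Subgroup.orderOf_coe t
    have ht2 : IsPGroup 2 (Subgroup.zpowers (t : G)) := by
      apply IsPGroup.of_card (n := 1)
      rw [Nat.card_zpowers, hto]
      norm_num
    obtain ⟨Q, hQ⟩ := ht2.exists_le_sylow
    obtain ⟨g, hg⟩ := MulAction.exists_smul_eq G P Q
    have hQcard : Nat.card Q = 2 := by
      rw [Sylow.card_eq_multiplicity Q, ← Sylow.card_eq_multiplicity P, hPcard]
    have hguQ : g * u * g⁻¹ ∈ (Q : Subgroup G) := by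
      rw [← hg]
      show g * u * g⁻¹ ∈ ((g • P : Sylow 2 G) : Subgroup G)
      rw [Sylow.coe_subgroup_smul]
      exact Subgroup.mem_pointwise_smul_iff_inv_smul_mem.mpr (by
        simp [MulAut.smul_def, huP, mul_assoc, MulAut.conj_inv_apply])
    have htQ : (t : G) ∈ (Q : Subgroup G) := hQ (Subgroup.mem_zpowers _)
    obtain ⟨y, -, hy⟩ := (Nat.card_eq_two_iff' (1 : (Q : Subgroup G))).mp hQcard
    have h1 : (⟨g * u * g⁻¹, hguQ⟩ : (Q : Subgroup G)) = y := hy _ (by
      intro h
      have h2 := congrArg Subtype.val h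
      apply hu
      simpa using h2)
    have h2 : (⟨t, htQ⟩ : (Q : Subgroup G)) = y := hy _ (by
      intro h
      have h2 := congrArg Subtype.val h
      have h3 : (t : G) = 1 := h2
      rw [h3, orderOf_one] at hto
      norm_num at hto)
    have h3 : g * u * g⁻¹ = t := congrArg Subtype.val (h1.trans h2.symm)
    have h4 : l₀ (t : G) = 1 := htK
    rw [← h3, map_mul, map_mul, map_inv, mul_comm (l₀ g), mul_inv_cancel_right, hval1] at h4
    have h5 := congrArg (fun x : ℂˣ => ((x : ℂˣ) : ℂ)) h4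
    norm_num at h5
  have hKO : K ≤ Cfsg.oddCore G := CfsgLib.Solv.le_pPrimeCore' K hKodd
  rw [eq_top_iff]
  intro g _
  rcases hsq g with h | h
  · exact Subgroup.mem_sup_right (hKO h)
  · have h1 : u⁻¹ * g ∈ K := by
      show l₀ (u⁻¹ * g) = 1
      rw [map_mul, map_inv, hval1, h]
      simp
    have := Subgroup.mul_mem_sup (Subgroup.mem_zpowers u) (hKO h1)
    simpa using this

/-- The converse implication. -/
theorem commutator_ne_top_of_odd_sup (u : G) (hu : orderOf u = 2)
    (hsup : Subgroup.zpowers u ⊔ Cfsg.oddCore G = ⊤) : commutator G ≠ ⊤ := by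
  classical
  intro htop
  haveI hO : (Cfsg.oddCore G).Normal := by
    unfold Cfsg.oddCore
    exact CfsgLib.Solv.pPrimeCore_normal' 2
  have hcomm : ∀ x y : G, x * y * x⁻¹ * y⁻¹ ∈ Cfsg.oddCore G := by
    intro x y
    have hx : x ∈ Subgroup.zpowers u ⊔ Cfsg.oddCore G := by rw [hsup]; trivial
    have hy : y ∈ Subgroup.zpowers u ⊔ Cfsg.oddCore G := by rw [hsup]; trivial
    rw [← SetLike.mem_coe, Subgroup.mul_normal] at hx hy
    obtain ⟨a, ha, b, hb, rfl⟩ := Set.mem_mul.mp hx
    obtain ⟨c, hc, d, hd, rfl⟩ := Set.mem_mul.mp hy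
    rw [← QuotientGroup.eq_one_iff]
    obtain ⟨m, rfl⟩ := Subgroup.mem_zpowers_iff.mp ha
    obtain ⟨n, rfl⟩ := Subgroup.mem_zpowers_iff.mp hc
    have hb' : (QuotientGroup.mk b : G ⧸ Cfsg.oddCore G) = 1 := (QuotientGroup.eq_one_iff b).mpr hb
    have hd' : (QuotientGroup.mk d : G ⧸ Cfsg.oddCore G) = 1 := (QuotientGroup.eq_one_iff d).mpr hd
    simp only [QuotientGroup.mk_mul, QuotientGroup.mk_inv, hb', hd', mul_one, inv_one, QuotientGroup.mk_zpow]
    rw [(Commute.refl (QuotientGroup.mk u : G ⧸ Cfsg.oddCore G)).zpow_zpow m n |>.eq]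
    group
  have hle : commutator G ≤ Cfsg.oddCore G := by
    rw [_root_.commutator_def, Subgroup.commutator_le]
    intro x _ y _
    exact hcomm x y
  rw [htop] at hle
  have hu1 : u ∈ Cfsg.oddCore G := hle (Subgroup.mem_top u)
  have h1 := Subgroup.orderOf_dvd_natCard _ hu1
  rw [hu] at h1
  have h2 : Nat.Coprime (Nat.card (Cfsg.oddCore G)) 2 := CfsgLib.Solv.pPrimeCore_coprime 2
  have h3 := Nat.eq_one_of_dvd_coprimes h2 h1 (dvd_refl 2)
  omega

end Zeros

end CfsgLib.Char
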