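import Mathlib
import Cfsg.Agent.Lib.Char.Misc6
import Cfsg.Agent.Lib.Char.RealChar

/-!
# Real orbits under odd-index overgroups.
-/

set_option linter.unusedSectionVars false
set_option linter.style.haveILetI false
set_option linter.unusedSimpArgs false
set_option linter.unusedVariables false

namespace CfsgLib.Char

open Module Cfsg
open scoped ComplexConjugate

universe u v

section Generic

variable {G : Type u} [Group G] {Ω : Type v}

/-- twisted fixed points. -/
theorem twisted_fixed_iff (K : Subgroup G) [K.Normal] (hodd : Odd K.index) (ϕ : G →* Equiv.Perm Ω)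
    (ι : Equiv.Perm Ω) (hι : ι * ι = 1) (hcomm : ∀ g, ι * ϕ g = ϕ g * ι)
    (hK : ∀ k ∈ K, ϕ k = 1) (g : G) (x : Ω) :
    (ι * ϕ g) x = x ↔ ι x = x ∧ ϕ g x = x := by
  constructor
  · intro h
    have hc : Commute ι (ϕ g) := hcomm g
    set m := K.index with hm
    have h1 : (ι * ϕ g) ^ m = ι := by
      rw [hc.mul_pow, ← map_pow, hK _ (Subgroup.pow_index_mem K g), mul_one]
      obtain ⟨n, hn⟩ := hodd
      rw [hn, pow_succ, pow_mul, pow_two, hι, one_pow, one_mul]
    have h2 : ∀ j : ℕ, ((ι * ϕ g) ^ j) x = x := by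
      intro j
      induction j with
      | zero => simp
      | succ j ih =>
        rw [pow_succ, Equiv.Perm.mul_apply, h, ih]
    have h3 := h2 m
    rw [h1] at h3
    refine ⟨h3, ?_⟩
    have h4 : (ι * ϕ g) x = ι (ϕ g x) := rfl
    rw [h4] at h
    have h5 : ι (ι (ϕ g x)) = ι x := by rw [h]
    have h6 : ι (ι (ϕ g x)) = ϕ g x := by
      have : (ι * ι) (ϕ g x) = ϕ g x := by rw [hι]; rfl
      exact this
    rw [h6, h3] at h5
    exact h5
  · rintro ⟨h1, h2⟩
    show ι (ϕ g x) = x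
    rw [h2, h1]

/-- The action on the fixed points. -/
def fixAction (ϕ : G →* Equiv.Perm Ω) (ι : Equiv.Perm Ω) (hcomm : ∀ g, ι * ϕ g = ϕ g * ι) :
    MulAction G {x : Ω // ι x = x} where
  smul g x := ⟨ϕ g x.1, by
    have h := congrArg (fun f : Equiv.Perm Ω => f x.1) (hcomm g)
    show ι (ϕ g x.1) = ϕ g x.1
    have h2 : ι (ϕ g x.1) = ϕ g (ι x.1) := h
    rw [h2, x.2]⟩
  one_smul x := by
    apply Subtype.ext
    show ϕ 1 x.1 = x.1
    rw [map_one]
    rfl
  mul_smul a b x := by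
    apply Subtype.ext
    show ϕ (a * b) x.1 = ϕ a (ϕ b x.1)
    rw [map_mul]
    rfl

/-- Number of orbits on fixed points from twisted fixed-point counts. -/
theorem card_quot_eq_of_twisted {Ω₁ Ω₂ : Type v} [Finite G] [Finite Ω₁] [Finite Ω₂] (K : Subgroup G) [K.Normal]
    (hodd : Odd K.index) (ϕ₁ : G →* Equiv.Perm Ω₁) (ϕ₂ : G →* Equiv.Perm Ω₂)
    (ι₁ : Equiv.Perm Ω₁) (ι₂ : Equiv.Perm Ω₂) (h₁ : ι₁ * ι₁ = 1) (h₂ : ι₂ * ι₂ = 1)
    (c₁ : ∀ g, ι₁ * ϕ₁ g = ϕ₁ g * ι₁) (c₂ : ∀ g, ι₂ * ϕ₂ g = ϕ₂ g * ι₂)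
    (k₁ : ∀ k ∈ K, ϕ₁ k = 1) (k₂ : ∀ k ∈ K, ϕ₂ k = 1)
    (hfix : ∀ g, Nat.card {x // (ι₁ * ϕ₁ g) x = x} = Nat.card {x // (ι₂ * ϕ₂ g) x = x}) :
    Nat.card (Quot (fun a b : {x : Ω₁ // ι₁ x = x} => ∃ g, ϕ₁ g a.1 = b.1)) =
      Nat.card (Quot (fun a b : {x : Ω₂ // ι₂ x = x} => ∃ g, ϕ₂ g a.1 = b.1)) := by
  classical
  cases nonempty_fintype G
  letI A₁ := fixAction ϕ₁ ι₁ c₁
  letI A₂ := fixAction ϕ₂ ι₂ c₂
  have hq₁ : Nat.card (Quot (fun a b : {x : Ω₁ // ι₁ x = x} => ∃ g, ϕ₁ g a.1 = b.1)) =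
      Nat.card (MulAction.orbitRel.Quotient G {x : Ω₁ // ι₁ x = x}) := by
    apply Nat.card_congr
    refine Quot.congr (Equiv.refl _) ?_
    intro a b
    simp only [Equiv.refl_apply]
    rw [show (MulAction.orbitRel G {x : Ω₁ // ι₁ x = x}).r a b ↔ a ∈ MulAction.orbit G b from Iff.rfl]
    constructor
    · rintro ⟨g, hg⟩
      refine ⟨g⁻¹, ?_⟩
      apply Subtype.ext
      show ϕ₁ g⁻¹ b.1 = a.1
      rw [← hg, map_inv]
      simp
    · rintro ⟨g, hg⟩
      refine ⟨g⁻¹, ?_⟩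
      have h3 : ϕ₁ g b.1 = a.1 := congrArg Subtype.val hg
      rw [← h3, map_inv]
      simp
  have hq₂ : Nat.card (Quot (fun a b : {x : Ω₂ // ι₂ x = x} => ∃ g, ϕ₂ g a.1 = b.1)) =
      Nat.card (MulAction.orbitRel.Quotient G {x : Ω₂ // ι₂ x = x}) := by
    apply Nat.card_congr
    refine Quot.congr (Equiv.refl _) ?_
    intro a b
    simp only [Equiv.refl_apply]
    rw [show (MulAction.orbitRel G {x : Ω₂ // ι₂ x = x}).r a b ↔ a ∈ MulAction.orbit G b from Iff.rfl]
    constructor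
    · rintro ⟨g, hg⟩
      refine ⟨g⁻¹, ?_⟩
      apply Subtype.ext
      show ϕ₂ g⁻¹ b.1 = a.1
      rw [← hg, map_inv]
      simp
    · rintro ⟨g, hg⟩
      refine ⟨g⁻¹, ?_⟩
      have h3 : ϕ₂ g b.1 = a.1 := congrArg Subtype.val hg
      rw [← h3, map_inv]
      simp
  rw [hq₁, hq₂]
  letI := Fintype.ofFinite {x : Ω₁ // ι₁ x = x}
  letI := Fintype.ofFinite {x : Ω₂ // ι₂ x = x}
  letI := Fintype.ofFinite (MulAction.orbitRel.Quotient G {x : Ω₁ // ι₁ x = x})
  letI := Fintype.ofFinite (MulAction.orbitRel.Quotient G {x : Ω₂ // ι₂ x = x})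
  have hb₁ := MulAction.sum_card_fixedBy_eq_card_orbits_mul_card_group G {x : Ω₁ // ι₁ x = x}
  have hb₂ := MulAction.sum_card_fixedBy_eq_card_orbits_mul_card_group G {x : Ω₂ // ι₂ x = x}
  have hfix' : ∀ g : G, Fintype.card (MulAction.fixedBy {x : Ω₁ // ι₁ x = x} g) =
      Fintype.card (MulAction.fixedBy {x : Ω₂ // ι₂ x = x} g) := by
    intro g
    rw [← Nat.card_eq_fintype_card, ← Nat.card_eq_fintype_card]
    have e₁ : Nat.card (MulAction.fixedBy {x : Ω₁ // ι₁ x = x} g) = Nat.card {x // (ι₁ * ϕ₁ g) x = x} := by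
      apply Nat.card_congr
      refine ⟨fun y => ⟨y.1.1, ?_⟩, fun y => ⟨⟨y.1, ((twisted_fixed_iff K hodd ϕ₁ ι₁ h₁ c₁ k₁ g y.1).mp y.2).1⟩, ?_⟩, ?_, ?_⟩
      · have h3 : ϕ₁ g y.1.1 = y.1.1 := congrArg Subtype.val y.2
        exact (twisted_fixed_iff K hodd ϕ₁ ι₁ h₁ c₁ k₁ g y.1.1).mpr ⟨y.1.2, h3⟩
      · apply Subtype.ext
        exact ((twisted_fixed_iff K hodd ϕ₁ ι₁ h₁ c₁ k₁ g y.1).mp y.2).2
      · intro y; rfl
      · intro y; rfl
    have e₂ : Nat.card (MulAction.fixedBy {x : Ω₂ // ι₂ x = x} g) = Nat.card {x // (ι₂ * ϕ₂ g) x = x} := by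
      apply Nat.card_congr
      refine ⟨fun y => ⟨y.1.1, ?_⟩, fun y => ⟨⟨y.1, ((twisted_fixed_iff K hodd ϕ₂ ι₂ h₂ c₂ k₂ g y.1).mp y.2).1⟩, ?_⟩, ?_, ?_⟩
      · have h3 : ϕ₂ g y.1.1 = y.1.1 := congrArg Subtype.val y.2
        exact (twisted_fixed_iff K hodd ϕ₂ ι₂ h₂ c₂ k₂ g y.1.1).mpr ⟨y.1.2, h3⟩
      · apply Subtype.ext
        exact ((twisted_fixed_iff K hodd ϕ₂ ι₂ h₂ c₂ k₂ g y.1).mp y.2).2
      · intro y; rfl
      · intro y; rfl
    rw [e₁, e₂, hfix]
  rw [Finset.sum_congr rfl (fun g _ => hfix' g)] at hb₁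
  rw [hb₂] at hb₁
  have hG : 0 < Fintype.card G := Fintype.card_pos
  have := Nat.eq_of_mul_eq_mul_right hG hb₁
  rw [Nat.card_eq_fintype_card, Nat.card_eq_fintype_card]
  exact this.symm

end Generic

section Real

variable {G : Type u} [Group G] [Finite G] (K : Subgroup G) [hK : K.Normal]

/-- The permutation of the irreducible characters of `K`. -/
noncomputable def conjIrr : G →* Equiv.Perm (IrrCharacter K) where
  toFun g :=
    { toFun := fun θ => ⟨conjOn K g⁻¹ θ, isIrr_conjOn K _ θ.2⟩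
      invFun := fun θ => ⟨conjOn K g θ, isIrr_conjOn K _ θ.2⟩
      left_inv := fun θ => by
        apply Subtype.ext
        show conjOn K g (conjOn K g⁻¹ θ.1) = θ.1
        rw [← conjOn_mul, inv_mul_cancel, conjOn_one]
      right_inv := fun θ => by
        apply Subtype.ext
        show conjOn K g⁻¹ (conjOn K g θ.1) = θ.1
        rw [← conjOn_mul, mul_inv_cancel, conjOn_one] }
  map_one' := by
    ext θ
    show conjOn K (1 : G)⁻¹ θ.1 _ = _
    rw [inv_one, conjOn_one]
    rfl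
  map_mul' x y := by
    ext θ
    show conjOn K (x * y)⁻¹ θ.1 _ = conjOn K x⁻¹ (conjOn K y⁻¹ θ.1) _
    rw [mul_inv_rev, conjOn_mul]

theorem conjIrr_apply (g : G) (θ : IrrCharacter K) (n : K) :
    ((conjIrr K g θ : IrrCharacter K) : K → ℂ) n = (θ : K → ℂ) ⟨g⁻¹ * n * g, by simpa using hK.conj_mem n n.2 g⁻¹⟩ := by
  show conjOn K g⁻¹ θ.1 n = _
  rw [conjOn_apply]
  congr 2
  simp

/-- Complex conjugation of irreducible characters. -/
noncomputable def conjIrrC : Equiv.Perm (IrrCharacter K) where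
  toFun θ := ⟨fun g => conj (θ.1 g), θ.2.conj⟩
  invFun θ := ⟨fun g => conj (θ.1 g), θ.2.conj⟩
  left_inv θ := by
    apply Subtype.ext
    funext g
    simp
  right_inv θ := by
    apply Subtype.ext
    funext g
    simp

/-- The permutation of the classes of `K`. -/
noncomputable def conjCl : G →* Equiv.Perm (ConjClasses K) where
  toFun g :=
    { toFun := ConjClasses.map (MulAut.conjNormal g : K ≃* K).toMonoidHom
      invFun := ConjClasses.map (MulAut.conjNormal g⁻¹ : K ≃* K).toMonoidHom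
      left_inv := fun C => by
        obtain ⟨n, rfl⟩ := ConjClasses.mk_surjective C
        show ConjClasses.mk _ = _
        congr 1
        apply Subtype.ext
        simp [MulAut.conjNormal_apply]
      right_inv := fun C => by
        obtain ⟨n, rfl⟩ := ConjClasses.mk_surjective C
        show ConjClasses.mk _ = _
        congr 1
        apply Subtype.ext
        simp [MulAut.conjNormal_apply] }
  map_one' := by
    ext C
    obtain ⟨n, rfl⟩ := ConjClasses.mk_surjective C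
    show ConjClasses.mk _ = _
    congr 1
    apply Subtype.ext
    simp [MulAut.conjNormal_apply]
  map_mul' x y := by
    ext C
    obtain ⟨n, rfl⟩ := ConjClasses.mk_surjective C
    show ConjClasses.mk _ = ConjClasses.mk _
    congr 1
    apply Subtype.ext
    simp [MulAut.conjNormal_apply, mul_assoc]

theorem conjCl_mk (g : G) (n : K) :
    conjCl K g (ConjClasses.mk n) = ConjClasses.mk (⟨g * n * g⁻¹, hK.conj_mem n n.2 g⟩ : K) := by
  show ConjClasses.mk _ = _
  congr 1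

theorem real_orbits_eq (hodd : Odd K.index) :
    Nat.card (Quot (fun θ η : {θ : IrrCharacter K // (∀ k : K, ((θ : K → ℂ) k).im = 0)} =>
      ∃ g : G, ∀ k k' : K, (k' : G) = g * (k : G) * g⁻¹ → (η.1 : K → ℂ) k' = (θ.1 : K → ℂ) k)) =
    Nat.card (Quot (fun x y : {x : K // IsConj x x⁻¹} => ∃ g : G, (y.1 : G) = g * x.1 * g⁻¹)) := by
  classical
  have hιιs : conjIrrC K * conjIrrC K = 1 := by
    ext θ
    apply congrFun
    apply congrArg Subtype.val
    exact (conjIrrC K).left_inv θ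
  have hι₂ : (invClass (G := K)) * invClass = 1 := by
    ext C
    obtain ⟨n, rfl⟩ := ConjClasses.mk_surjective C
    show invClass (invClass (ConjClasses.mk n)) = ConjClasses.mk n
    rw [invClass_mk, invClass_mk, inv_inv]
  have hc₁ : ∀ g, conjIrrC K * conjIrr K g = conjIrr K g * conjIrrC K := by
    intro g
    ext θ n
    show conj ((conjIrr K g θ : IrrCharacter K).1 n) = (conjIrr K g (conjIrrC K θ)).1 n
    rw [conjIrr_apply, conjIrr_apply]
    rfl
  have hc₂ : ∀ g, invClass (G := K) * conjCl K g = conjCl K g * invClass := by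
    intro g
    ext C
    obtain ⟨n, rfl⟩ := ConjClasses.mk_surjective C
    show invClass (conjCl K g (ConjClasses.mk n)) = conjCl K g (invClass (ConjClasses.mk n))
    rw [invClass_mk, conjCl_mk, conjCl_mk, invClass_mk]
    congr 1
    apply Subtype.ext
    simp
    group
  have hk₁ : ∀ k ∈ K, conjIrr K k = 1 := by
    intro k hk'
    ext θ n
    show (conjIrr K k θ).1 n = θ.1 n
    rw [conjIrr_apply]
    have := θ.2.isClassFunction n ⟨k⁻¹, K.inv_mem hk'⟩
    rw [← this]
    refine congrArg (θ.1 : K → ℂ) (Subtype.ext ?_)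
    show k⁻¹ * (n : G) * k = k⁻¹ * n * (k⁻¹)⁻¹
    simp
  have hk₂ : ∀ k ∈ K, conjCl K k = 1 := by
    intro k hk'
    ext C
    obtain ⟨n, rfl⟩ := ConjClasses.mk_surjective C
    show conjCl K k (ConjClasses.mk n) = ConjClasses.mk n
    rw [conjCl_mk, ConjClasses.mk_eq_mk_iff_isConj, isConj_iff]
    refine ⟨⟨k⁻¹, K.inv_mem hk'⟩, ?_⟩
    apply Subtype.ext
    show k⁻¹ * (k * n * k⁻¹) * (k⁻¹)⁻¹ = n
    group
  have hfix : ∀ g, Nat.card {x // (conjIrrC K * conjIrr K g) x = x} =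
      Nat.card {x // (invClass (G := K) * conjCl K g) x = x} := by
    intro g
    apply card_fixed_irr_eq_card_fixed_classes
    intro χ C
    obtain ⟨n, rfl⟩ := ConjClasses.mk_surjective C
    have hσ : (invClass (G := K) * conjCl K g) (ConjClasses.mk n) = ConjClasses.mk (⟨g * n * g⁻¹, hK.conj_mem n n.2 g⟩ : K)⁻¹ := by
      show invClass (conjCl K g (ConjClasses.mk n)) = _
      rw [conjCl_mk, invClass_mk]
    rw [hσ, classVal_mk ((conjIrrC K * conjIrr K g) χ).2.isClassFunction, classVal_mk χ.2.isClassFunction]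
    show conj ((conjIrr K g χ : IrrCharacter K).1 _) = _
    rw [conjIrr_apply, ← χ.2.map_inv]
    refine congrArg (χ : K → ℂ) (Subtype.ext ?_)
    simp
  have hmain := card_quot_eq_of_twisted K hodd (conjIrr K) (conjCl K) (conjIrrC K) invClass hιιs hι₂ hc₁ hc₂ hk₁ hk₂ hfix
  have hL : Nat.card (Quot (fun θ η : {θ : IrrCharacter K // (∀ k : K, ((θ : K → ℂ) k).im = 0)} =>
      ∃ g : G, ∀ k k' : K, (k' : G) = g * (k : G) * g⁻¹ → (η.1 : K → ℂ) k' = (θ.1 : K → ℂ) k)) =
      Nat.card (Quot (fun a b : {x : IrrCharacter K // conjIrrC K x = x} => ∃ g, conjIrr K g a.1 = b.1)) := by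
    apply Nat.card_congr
    refine Quot.congr (Equiv.subtypeEquivRight fun θ => ?_) ?_
    · constructor
      · intro h
        apply Subtype.ext
        funext k
        exact Complex.conj_eq_iff_im.mpr (h k)
      · intro h k
        have := congrFun (congrArg Subtype.val h) k
        exact Complex.conj_eq_iff_im.mp this
    · intro a b
      simp only [Equiv.subtypeEquivRight_apply_coe]
      constructor
      · rintro ⟨g, hg⟩
        refine ⟨g, ?_⟩
        apply Subtype.ext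
        funext n
        rw [conjIrr_apply]
        exact (hg _ n (by simp [mul_assoc])).symm
      · rintro ⟨g, hg⟩
        refine ⟨g, fun k k' hk' => ?_⟩
        rw [← hg, conjIrr_apply]
        refine congrArg (a.1 : K → ℂ) (Subtype.ext ?_)
        simp only [hk']
        group
  have hR : Nat.card (Quot (fun x y : {x : K // IsConj x x⁻¹} => ∃ g : G, (y.1 : G) = g * x.1 * g⁻¹)) =
      Nat.card (Quot (fun a b : {x : ConjClasses K // invClass x = x} => ∃ g, conjCl K g a.1 = b.1)) := by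
    have hequiv : Equivalence (fun a b : {x : ConjClasses K // invClass x = x} => ∃ g, conjCl K g a.1 = b.1) := by
      refine ⟨fun a => ⟨1, by simp⟩, ?_, ?_⟩
      · rintro a b ⟨g, hg⟩
        refine ⟨g⁻¹, ?_⟩
        rw [← hg, map_inv]
        simp
      · rintro a b c ⟨g, hg⟩ ⟨h, hh⟩
        refine ⟨h * g, ?_⟩
        rw [map_mul, Equiv.Perm.mul_apply, hg, hh]
    let f : {x : K // IsConj x x⁻¹} → {x : ConjClasses K // invClass x = x} := fun x =>
      ⟨ConjClasses.mk x.1, by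
        rw [invClass_mk, ConjClasses.mk_eq_mk_iff_isConj]
        exact x.2.symm⟩
    have hf : ∀ a b : {x : K // IsConj x x⁻¹}, (∃ g : G, (b.1 : G) = g * a.1 * g⁻¹) →
        Quot.mk (fun a b : {x : ConjClasses K // invClass x = x} => ∃ g, conjCl K g a.1 = b.1) (f a) = Quot.mk _ (f b) := by
      rintro a b ⟨g, hg⟩
      apply Quot.sound
      refine ⟨g, ?_⟩
      show conjCl K g (ConjClasses.mk a.1) = ConjClasses.mk b.1
      rw [conjCl_mk]
      congr 1
      apply Subtype.ext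
      exact hg.symm
    let F : Quot (fun x y : {x : K // IsConj x x⁻¹} => ∃ g : G, (y.1 : G) = g * x.1 * g⁻¹) →
        Quot (fun a b : {x : ConjClasses K // invClass x = x} => ∃ g, conjCl K g a.1 = b.1) :=
      Quot.lift (fun a => Quot.mk _ (f a)) hf
    apply Nat.card_congr
    refine Equiv.ofBijective F ⟨?_, ?_⟩
    · intro A B
      obtain ⟨a, rfl⟩ := Quot.exists_rep A
      obtain ⟨b, rfl⟩ := Quot.exists_rep B
      intro h
      have h1 : Quot.mk (fun a b : {x : ConjClasses K // invClass x = x} => ∃ g, conjCl K g a.1 = b.1) (f a) = Quot.mk _ (f b) := h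
      have h2 := (hequiv.quot_mk_eq_iff _ _).mp h1
      obtain ⟨g, hg⟩ := h2
      have hg' : conjCl K g (ConjClasses.mk a.1) = ConjClasses.mk b.1 := hg
      rw [conjCl_mk, ConjClasses.mk_eq_mk_iff_isConj, isConj_iff] at hg'
      obtain ⟨c, hc⟩ := hg'
      apply Quot.sound
      refine ⟨c * g, ?_⟩
      have := congrArg Subtype.val hc
      simp only [Subgroup.coe_mul, InvMemClass.coe_inv] at this
      rw [← this]
      group
    · intro B
      obtain ⟨⟨C, hC⟩, rfl⟩ := Quot.exists_rep B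
      obtain ⟨n, rfl⟩ := ConjClasses.mk_surjective C
      refine ⟨Quot.mk _ ⟨n, ?_⟩, ?_⟩
      · rw [invClass_mk, ConjClasses.mk_eq_mk_iff_isConj] at hC
        exact hC.symm
      · rfl
  rw [hL, hR]
  exact hmain

end Real

end CfsgLib.Char
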