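import Mathlib
import Cfsg.Agent.Lib.Char.FS2
import Cfsg.Agent.Lib.Char.RealOrbits

/-!
# Unique invariant constituents over odd-index normal subgroups.
-/

set_option linter.unusedSectionVars false
set_option linter.style.haveILetI false
set_option linter.unusedSimpArgs false
set_option linter.unusedVariables false

namespace CfsgLib.Char

open Module Cfsg
open scoped ComplexConjugate

universe u

section Twist

variable {G : Type u} [Group G] [Fintype G] (N : Subgroup G) [hN : N.Normal] [Fintype N]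

/-- The sum of a `G`-invariant function on a normal subgroup acts as a scalar. -/
theorem twist_sum_scalar (f : N → ℂ)
    (hf : ∀ (h : G) (n : N), f ⟨h * n * h⁻¹, hN.conj_mem n n.2 h⟩ = f n) {χ : G → ℂ}
    (hχ : IsIrrCharacter G χ) (g : G) :
    χ 1 * ∑ n : N, f n * χ (g * n) = (∑ n : N, f n * χ n) * χ g := by
  classical
  obtain ⟨d, ρ, hρ, rfl⟩ := hχ
  haveI := hρ
  let A : (Fin d → ℂ) →ₗ[ℂ] (Fin d → ℂ) := ∑ n : N, f n • ρ (n : G)
  have hA : ∀ h v, A (ρ h v) = ρ h (A v) := by
    intro h v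
    simp only [A, LinearMap.sum_apply, LinearMap.smul_apply, map_sum, map_smul]
    refine Fintype.sum_equiv (conjNormalEquiv N h⁻¹).toEquiv _ _ fun n => ?_
    have h1 : f ((conjNormalEquiv N h⁻¹) n) = f n := hf h⁻¹ n
    show f n • ρ n (ρ h v) = f ((conjNormalEquiv N h⁻¹) n) • ρ h (ρ ((conjNormalEquiv N h⁻¹) n : N) v)
    rw [h1]
    congr 1
    have h2 : (((conjNormalEquiv N h⁻¹) n : N) : G) = h⁻¹ * n * h⁻¹⁻¹ := rfl
    rw [h2]
    show (ρ n * ρ h) v = (ρ h * ρ (h⁻¹ * n * h⁻¹⁻¹)) v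
    rw [← map_mul, ← map_mul]
    congr 2
    group
  obtain ⟨c, hc⟩ := schur_scalar ρ A hA
  have htr : ∀ x : G, ∑ n : N, f n * ρ.character (x * n) = c * ρ.character x := by
    intro x
    have h1 : (ρ x) * A = c • ρ x := by
      rw [hc]
      ext v
      simp
    have h2 := congrArg (LinearMap.trace ℂ (Fin d → ℂ)) h1
    have h3 : (ρ x) * A = ∑ n : N, f n • ρ (x * n) := by
      ext v
      simp [A, map_sum, map_smul]
    rw [h3, map_sum, map_smul] at h2
    simp only [map_smul, smul_eq_mul] at h2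
    exact h2
  have h1 := htr 1
  simp only [one_mul, map_one] at h1
  rw [htr g]
  have h2 : ρ.character 1 = ρ.character 1 := rfl
  have h3 : ∑ n : N, f n * ρ.character (n : G) = c * ρ.character 1 := h1
  rw [h3]
  ring

/-- The key counting statement. -/
theorem sum_over_twist {φ : N → ℂ} (hφ : IsIrrCharacter N φ) (s : G → G)
    (hs1 : ∀ (g : G) (n : N), IsConj (s g * n) g → g ∈ N)
    (hsN : ∀ n : N, s n ∈ N)
    (hsφ : ∀ n : N, φ ⟨s n, hsN n⟩ = φ n)
    (hseq : ∀ (h : G) (n : G), s (h * n * h⁻¹) = h * s n * h⁻¹) :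
    ∑ χ ∈ Finset.univ.filter (fun χ : IrrCharacter G => classInner (fun n : N => (χ : G → ℂ) n) φ ≠ 0),
      classInner (fun g => (χ : G → ℂ) (s g)) (χ : G → ℂ) = 1 := by
  classical
  set Ov := Finset.univ.filter (fun χ : IrrCharacter G => classInner (fun n : N => (χ : G → ℂ) n) φ ≠ 0) with hOv
  set Ψ : N → ℂ := ∑ x : G, conjOn N x φ with hΨ
  have hΨapp : ∀ n, Ψ n = ∑ x : G, conjOn N x φ n := fun n => by simp [hΨ]
  set c : ℂ := (Nat.card {g : G // conjOn N g φ = φ} : ℂ) with hc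
  have hc0 : c ≠ 0 := by
    rw [hc]
    have : 0 < Nat.card {g : G // conjOn N g φ = φ} := by
      haveI : Nonempty {g : G // conjOn N g φ = φ} := ⟨⟨1, conjOn_one N φ⟩⟩
      exact Nat.card_pos
    exact_mod_cast this.ne'
  have hG0 : (Nat.card G : ℂ) ≠ 0 := card_ne_zero_C G
  have hN0 : (Nat.card N : ℂ) ≠ 0 := card_ne_zero_C N
  obtain ⟨d, hd0, hd⟩ := hφ.map_one
  have hd' : (d : ℂ) ≠ 0 := by exact_mod_cast hd0.ne'
  -- invariance
  have hinv : ∀ (h : G), conjOn N h Ψ = Ψ := by
    intro h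
    rw [hΨ]
    funext n
    simp only [conjOn_apply, Finset.sum_apply]
    refine Fintype.sum_equiv (Equiv.mulRight h) _ _ fun x => ?_
    simp only [Equiv.coe_mulRight, conjOn_apply]
    refine congrArg φ (Subtype.ext ?_)
    simp only
    group
  have hinv' : ∀ (h : G) (n : N), Ψ ⟨h * n * h⁻¹, hN.conj_mem n n.2 h⟩ = Ψ n := by
    intro h n
    exact congrFun (hinv h) n
  have hΨc : ∀ χ : IrrCharacter G, classInner (fun n : N => (χ : G → ℂ) n) Ψ =
      (Nat.card G : ℂ) * classInner (fun n : N => (χ : G → ℂ) n) φ := by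
    intro χ
    rw [hΨ, classInner_sum_right]
    rw [Finset.sum_congr rfl fun x _ => classInner_res_conjOn N χ.2.isClassFunction x φ]
    rw [Finset.sum_const, Finset.card_univ, nsmul_eq_mul, Nat.card_eq_fintype_card]
  -- `Ψ` against `φ`
  have hφΨ : classInner φ Ψ = c := by
    rw [hΨ, classInner_sum_right, hc]
    have h1 : ∀ x : G, classInner φ (conjOn N x φ) = if conjOn N x φ = φ then 1 else 0 := by
      intro x
      by_cases h : conjOn N x φ = φ
      · rw [if_pos h, h, classInner_irr_self hφ]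
      · rw [if_neg h]
        exact classInner_irr_ne hφ (isIrr_conjOn N x hφ) (Ne.symm h)
    rw [Finset.sum_congr rfl fun x _ => h1 x, Finset.sum_boole, Nat.card_eq_fintype_card, Fintype.card_subtype]
  have hΨΨ : classInner Ψ Ψ = (Nat.card G : ℂ) * c := by
    conv_lhs => rw [show Ψ = ∑ x : G, conjOn N x φ from hΨ]
    rw [classInner_sum_left]
    have h1 : ∀ x : G, classInner (conjOn N x φ) Ψ = c := by
      intro x
      conv_lhs => rw [← hinv x]
      rw [classInner_conjOn, hφΨ]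
    rw [Finset.sum_congr rfl fun x _ => h1 x, Finset.sum_const, Finset.card_univ, nsmul_eq_mul,
      Nat.card_eq_fintype_card]
  -- restriction of `χ ∈ Ov`
  have hres : ∀ χ ∈ Ov, ∀ n : N, c * (χ : G → ℂ) n =
      classInner (fun n : N => (χ : G → ℂ) n) φ * Ψ n := by
    intro χ hχ n
    have hχ' := (Finset.mem_filter.mp hχ).2
    have h1 := congrFun (clifford N χ.2 hφ hχ') n
    have h2 := congrFun (sum_conjOn_eq N φ) n
    simp only [Pi.smul_apply, smul_eq_mul, Finset.sum_apply] at h1 h2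
    rw [h1]
    rw [hΨapp, h2]
    ring
  have hΨ1 : Ψ 1 = (Nat.card G : ℂ) * d := by
    rw [hΨapp]
    have h1 : ∀ x : G, conjOn N x φ 1 = d := by
      intro x
      simp only [conjOn_apply]
      rw [← hd]
      refine congrArg φ (Subtype.ext ?_)
      simp
    rw [Finset.sum_congr rfl fun x _ => h1 x, Finset.sum_const, Finset.card_univ, nsmul_eq_mul,
      Nat.card_eq_fintype_card]
  set κ : ℂ := (Nat.card N : ℂ) * c / d with hκ
  have hκ0 : κ ≠ 0 := div_ne_zero (mul_ne_zero hN0 hc0) hd'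
  -- twist sums
  have hfconj : ∀ (h : G) (n : N), conj (Ψ ⟨h * n * h⁻¹, hN.conj_mem n n.2 h⟩) = conj (Ψ n) := by
    intro h n
    rw [hinv' h n]
  have hsumχ : ∀ (χ : IrrCharacter G) (g : G), ∑ n : N, conj (Ψ n) * (χ : G → ℂ) (g * n) =
      (if χ ∈ Ov then κ else 0) * (χ : G → ℂ) g := by
    intro χ g
    have h1 := twist_sum_scalar N (fun n => conj (Ψ n)) hfconj χ.2 g
    have h2 : ∑ n : N, conj (Ψ n) * (χ : G → ℂ) n =
        (Nat.card N : ℂ) * classInner (fun n : N => (χ : G → ℂ) n) Ψ := by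
      rw [classInner_def, ← mul_assoc, mul_inv_cancel₀ hN0, one_mul]
      exact Finset.sum_congr rfl fun n _ => mul_comm _ _
    rw [h2, hΨc] at h1
    have hχ1 : (χ : G → ℂ) 1 ≠ 0 := χ.2.map_one_ne_zero
    by_cases hχ' : χ ∈ Ov
    · rw [if_pos hχ']
      have h3 := hres χ hχ' 1
      have h3' : c * (χ : G → ℂ) 1 = classInner (fun n : N => (χ : G → ℂ) n) φ * Ψ 1 := h3
      rw [hΨ1] at h3'
      have he := (Finset.mem_filter.mp hχ').2
      have h4 : (χ : G → ℂ) 1 * ∑ n : N, conj (Ψ n) * (χ : G → ℂ) (g * n) =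
          (χ : G → ℂ) 1 * (κ * (χ : G → ℂ) g) := by
        rw [h1, hκ]
        have h5 : (χ : G → ℂ) 1 * ((Nat.card N : ℂ) * c / d * (χ : G → ℂ) g) =
            (c * (χ : G → ℂ) 1) * ((Nat.card N : ℂ) / d * (χ : G → ℂ) g) := by ring
        rw [h5, h3']
        field_simp
      exact mul_left_cancel₀ hχ1 h4
    · rw [if_neg hχ', zero_mul]
      have he : classInner (fun n : N => (χ : G → ℂ) n) φ = 0 := by
        by_contra h
        exact hχ' (Finset.mem_filter.mpr ⟨Finset.mem_univ _, h⟩)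
      rw [he] at h1
      simp only [mul_zero, zero_mul] at h1
      exact (mul_eq_zero.mp h1).resolve_left hχ1
  -- the partial column sum
  have hB : ∀ a b : G, κ * ∑ χ ∈ Ov, (χ : G → ℂ) a * conj ((χ : G → ℂ) b) =
      ∑ n : N, conj (Ψ n) * (if IsConj (a * n) b then (Nat.card (Subgroup.centralizer ({b} : Set G)) : ℂ) else 0) := by
    intro a b
    simp_rw [← column_orthogonality]
    simp_rw [Finset.mul_sum]
    rw [Finset.sum_comm]
    rw [hOv, Finset.sum_filter]
    refine Finset.sum_congr rfl fun χ _ => ?_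
    have h1 := hsumχ χ a
    have h2 : ∑ n : N, conj (Ψ n) * ((χ : G → ℂ) (a * n) * conj ((χ : G → ℂ) b)) =
        (∑ n : N, conj (Ψ n) * (χ : G → ℂ) (a * n)) * conj ((χ : G → ℂ) b) := by
      rw [Finset.sum_mul]
      exact Finset.sum_congr rfl fun n _ => by ring
    rw [h2, h1]
    by_cases hχ' : classInner (fun n : N => (χ : G → ℂ) n) φ ≠ 0
    · have hm : χ ∈ Ov := Finset.mem_filter.mpr ⟨Finset.mem_univ _, hχ'⟩
      rw [if_pos hχ', if_pos hm]
      ring
    · have hm : χ ∉ Ov := fun h => hχ' (Finset.mem_filter.mp h).2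
      rw [if_neg hχ', if_neg hm]
      ring
  -- evaluation at `1`
  set E : ℂ := ∑ χ ∈ Ov, classInner (fun n : N => (χ : G → ℂ) n) φ * classInner (fun n : N => (χ : G → ℂ) n) φ with hE
  have hereal : ∀ χ : IrrCharacter G, conj (classInner (fun n : N => (χ : G → ℂ) n) φ) =
      classInner (fun n : N => (χ : G → ℂ) n) φ := by
    intro χ
    obtain ⟨e, he⟩ := (χ.2.isCharacter.restrict N).classInner_nat hφ
    rw [he]
    simp
  have hE1 : (Nat.card N : ℂ) * E = c := by
    have h1 := hB 1 1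
    have h2 : ∑ n : N, conj (Ψ n) * (if IsConj ((1 : G) * n) 1 then (Nat.card (Subgroup.centralizer ({(1 : G)} : Set G)) : ℂ) else 0) =
        conj (Ψ 1) * (Nat.card G : ℂ) := by
      rw [Finset.sum_eq_single 1]
      · simp only [OneMemClass.coe_one, mul_one, IsConj.refl, if_true]
        congr 1
        have : Subgroup.centralizer ({(1 : G)} : Set G) = ⊤ := by
          ext x
          simp [Subgroup.mem_centralizer_iff]
        rw [this]
        exact_mod_cast Nat.card_congr (Subgroup.topEquiv.toEquiv)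
      · intro n _ hn
        rw [if_neg, mul_zero]
        rw [one_mul, isConj_one_left]
        intro h
        exact hn (Subtype.ext h)
      · intro h
        exact absurd (Finset.mem_univ _) h
    rw [h2, hΨ1] at h1
    simp only [map_mul, Complex.conj_natCast] at h1
    have h3 : ∀ χ ∈ Ov, c * c * ((χ : G → ℂ) 1 * conj ((χ : G → ℂ) 1)) =
        classInner (fun n : N => (χ : G → ℂ) n) φ * classInner (fun n : N => (χ : G → ℂ) n) φ *
          (((Nat.card G : ℂ) * d) * ((Nat.card G : ℂ) * d)) := by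
      intro χ hχ
      have h4 := hres χ hχ 1
      rw [hΨ1] at h4
      have h4' : c * (χ : G → ℂ) 1 = classInner (fun n : N => (χ : G → ℂ) n) φ * ((Nat.card G : ℂ) * d) := h4
      have h5 := congrArg conj h4'
      simp only [map_mul, Complex.conj_natCast, hereal] at h5
      have hc' : conj c = c := by
        rw [hc]
        simp
      rw [hc'] at h5
      calc c * c * ((χ : G → ℂ) 1 * conj ((χ : G → ℂ) 1)) = (c * (χ : G → ℂ) 1) * (c * conj ((χ : G → ℂ) 1)) := by ring
        _ = _ := by rw [h4', h5]; ring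
    have h6 : c * c * ∑ χ ∈ Ov, (χ : G → ℂ) 1 * conj ((χ : G → ℂ) 1) =
        E * (((Nat.card G : ℂ) * d) * ((Nat.card G : ℂ) * d)) := by
      rw [Finset.mul_sum, hE, Finset.sum_mul]
      exact Finset.sum_congr rfl h3
    have h7 : κ * (c * c * ∑ χ ∈ Ov, (χ : G → ℂ) 1 * conj ((χ : G → ℂ) 1)) =
        c * c * ((Nat.card G : ℂ) * d * (Nat.card G : ℂ)) := by
      rw [mul_left_comm, h1]
    rw [h6, hκ] at h7
    field_simp at h7
    have h8 : (Nat.card G : ℂ) ^ 2 * d ≠ 0 := by
      apply mul_ne_zero (pow_ne_zero _ hG0) hd'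
    linear_combination h7
  -- the main count
  have hmain : ∀ g : G, g ∉ N → ∑ χ ∈ Ov, (χ : G → ℂ) (s g) * conj ((χ : G → ℂ) g) = 0 := by
    intro g hg
    have h1 := hB (s g) g
    have h2 : ∑ n : N, conj (Ψ n) * (if IsConj (s g * n) g then (Nat.card (Subgroup.centralizer ({g} : Set G)) : ℂ) else 0) = 0 := by
      refine Finset.sum_eq_zero fun n _ => ?_
      rw [if_neg (fun h => hg (hs1 g n h)), mul_zero]
    rw [h2] at h1
    exact (mul_eq_zero.mp h1).resolve_left hκ0
  have hΨs : ∀ n : N, Ψ ⟨s n, hsN n⟩ = Ψ n := by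
    intro n
    rw [hΨapp, hΨapp]
    refine Finset.sum_congr rfl fun x _ => ?_
    simp only [conjOn_apply]
    have h1 := hsφ ⟨x * n * x⁻¹, hN.conj_mem n n.2 x⟩
    rw [← h1]
    refine congrArg φ (Subtype.ext ?_)
    simp only
    rw [hseq]
  have hN' : ∀ n : N, ∑ χ ∈ Ov, (χ : G → ℂ) (s n) * conj ((χ : G → ℂ) n) =
      E / (c * c) * (Ψ n * conj (Ψ n)) := by
    intro n
    have h1 : ∀ χ ∈ Ov, (χ : G → ℂ) (s n) * conj ((χ : G → ℂ) n) =
        classInner (fun n : N => (χ : G → ℂ) n) φ * classInner (fun n : N => (χ : G → ℂ) n) φ * (Ψ n * conj (Ψ n)) / (c * c) := by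
      intro χ hχ
      have h2 := hres χ hχ ⟨s n, hsN n⟩
      have h2' : c * (χ : G → ℂ) (s n) = classInner (fun n : N => (χ : G → ℂ) n) φ * Ψ ⟨s n, hsN n⟩ := h2
      rw [hΨs] at h2'
      have h3 := hres χ hχ n
      have h4 := congrArg conj h3
      simp only [map_mul, hereal] at h4
      have hc' : conj c = c := by
        rw [hc]
        simp
      rw [hc'] at h4
      rw [eq_div_iff (mul_ne_zero hc0 hc0)]
      calc (χ : G → ℂ) (s n) * conj ((χ : G → ℂ) n) * (c * c) = (c * (χ : G → ℂ) (s n)) * (c * conj ((χ : G → ℂ) n)) := by ring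
        _ = _ := by rw [h2', h4]; ring
    rw [Finset.sum_congr rfl h1, hE]
    rw [div_mul_eq_mul_div, Finset.sum_mul, Finset.sum_div]
  have htotal : ∑ χ ∈ Ov, classInner (fun g => (χ : G → ℂ) (s g)) (χ : G → ℂ) =
      (Nat.card G : ℂ)⁻¹ * ∑ g : G, ∑ χ ∈ Ov, (χ : G → ℂ) (s g) * conj ((χ : G → ℂ) g) := by
    simp only [classInner_def]
    rw [← Finset.mul_sum]
    congr 1
    rw [Finset.sum_comm]
  rw [htotal]
  have h1 : ∑ g : G, ∑ χ ∈ Ov, (χ : G → ℂ) (s g) * conj ((χ : G → ℂ) g) =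
      ∑ n : N, ∑ χ ∈ Ov, (χ : G → ℂ) (s n) * conj ((χ : G → ℂ) n) := by
    rw [sum_eq_sum_subgroup N]
    intro g hg
    exact hmain g hg
  rw [h1, Finset.sum_congr rfl fun n _ => hN' n, ← Finset.mul_sum]
  have h2 : ∑ n : N, Ψ n * conj (Ψ n) = (Nat.card N : ℂ) * ((Nat.card G : ℂ) * c) := by
    rw [← hΨΨ, classInner_def, ← mul_assoc, mul_inv_cancel₀ hN0, one_mul]
  rw [h2]
  have h3 : E = c / (Nat.card N : ℂ) := by
    rw [eq_div_iff hN0, mul_comm]
    exact hE1
  rw [h3]
  field_simp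

end Twist

section OddIndex

variable {G : Type u} [Group G] [Fintype G] (N : Subgroup G) [hN : N.Normal] [Fintype N]

/-- Odd quotient: nothing outside `N` is conjugate modulo `N` to its inverse. -/
theorem mem_of_isConj_inv_mul (hodd : Odd N.index) (g : G) (n : N) (h : IsConj (g⁻¹ * n) g) : g ∈ N := by
  classical
  have hq : Odd (Nat.card (G ⧸ N)) := hodd
  have h1 : IsConj (QuotientGroup.mk g : G ⧸ N) (QuotientGroup.mk g)⁻¹ := by
    obtain ⟨c, hc⟩ := isConj_iff.mp h
    rw [isConj_iff]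
    refine ⟨(QuotientGroup.mk c)⁻¹, ?_⟩
    have h2 : (QuotientGroup.mk (c * (g⁻¹ * n) * c⁻¹) : G ⧸ N) = QuotientGroup.mk g := by rw [hc]
    have hn1 : (QuotientGroup.mk (n : G) : G ⧸ N) = 1 := (QuotientGroup.eq_one_iff _).mpr n.2
    simp only [QuotientGroup.mk_mul, QuotientGroup.mk_inv, hn1, mul_one] at h2
    conv_lhs => rw [← h2]
    group
  have h2 := eq_one_of_isConj_inv hq h1
  exact (QuotientGroup.eq_one_iff g).mp h2

/-- **Exactly one real constituent** over a real character, for odd index. -/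
theorem exists_unique_real_over (hodd : Odd N.index) {φ : N → ℂ} (hφ : IsIrrCharacter N φ)
    (hreal : ∀ n, (φ n).im = 0) :
    ∃! χ : IrrCharacter G, classInner (fun n : N => (χ : G → ℂ) n) φ ≠ 0 ∧ ∀ g, ((χ : G → ℂ) g).im = 0 := by
  classical
  have hmain := sum_over_twist N hφ (fun g => g⁻¹) (fun g n h => mem_of_isConj_inv_mul N hodd g n h)
    (fun n => N.inv_mem n.2)
    (fun n => by
      have h1 := hφ.map_inv n
      have h2 : conj (φ n) = φ n := Complex.conj_eq_iff_im.mpr (hreal n)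
      rw [h2] at h1
      exact h1)
    (fun h n => by group)
  have hterm : ∀ χ : IrrCharacter G, classInner (fun g => (χ : G → ℂ) g⁻¹) (χ : G → ℂ) =
      if ∀ g, ((χ : G → ℂ) g).im = 0 then 1 else 0 := by
    intro χ
    have hconj : (fun g => (χ : G → ℂ) g⁻¹) = fun g => conj ((χ : G → ℂ) g) := by
      funext g
      exact χ.2.map_inv g
    rw [hconj]
    by_cases hr : ∀ g, ((χ : G → ℂ) g).im = 0
    · rw [if_pos hr]
      have : (fun g => conj ((χ : G → ℂ) g)) = (χ : G → ℂ) := by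
        funext g
        exact Complex.conj_eq_iff_im.mpr (hr g)
      rw [this, classInner_irr_self χ.2]
    · rw [if_neg hr]
      apply classInner_irr_ne χ.2.conj χ.2
      intro h
      apply hr
      intro g
      exact Complex.conj_eq_iff_im.mp (congrFun h g)
  rw [Finset.sum_congr rfl fun χ _ => hterm χ, Finset.sum_boole] at hmain
  have hcard : ((Finset.univ.filter (fun χ : IrrCharacter G => classInner (fun n : N => (χ : G → ℂ) n) φ ≠ 0)).filter
      (fun χ : IrrCharacter G => ∀ g, ((χ : G → ℂ) g).im = 0)).card = 1 := by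
    exact_mod_cast hmain
  obtain ⟨χ₀, hχ₀⟩ := Finset.card_eq_one.mp hcard
  have hmem : ∀ χ : IrrCharacter G, (classInner (fun n : N => (χ : G → ℂ) n) φ ≠ 0 ∧ ∀ g, ((χ : G → ℂ) g).im = 0) ↔ χ = χ₀ := by
    intro χ
    have := Finset.ext_iff.mp hχ₀ χ
    simp only [Finset.mem_filter, Finset.mem_univ, true_and, Finset.mem_singleton] at this
    exact this
  exact ⟨χ₀, (hmem χ₀).mpr rfl, fun χ h => (hmem χ).mp h⟩

/-- Square roots of elements of an odd-index normal subgroup lie in it. -/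
theorem mem_of_mul_self_mem (hodd : Odd N.index) (u : G) (h : u * u ∈ N) : u ∈ N := by
  have hq : Odd (Nat.card (G ⧸ N)) := hodd
  have h1 : (QuotientGroup.mk u : G ⧸ N) ^ 2 = 1 := by
    rw [pow_two, ← QuotientGroup.mk_mul]
    exact (QuotientGroup.eq_one_iff _).mpr h
  have h2 := orderOf_dvd_of_pow_eq_one h1
  have h3 : orderOf (QuotientGroup.mk u : G ⧸ N) ∣ Nat.card (G ⧸ N) := orderOf_dvd_natCard _
  have h4 : Nat.Coprime 2 (Nat.card (G ⧸ N)) := Nat.coprime_two_left.mpr hq
  have h5 := Nat.eq_one_of_dvd_coprimes h4 h2 h3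
  rw [orderOf_eq_one_iff] at h5
  exact (QuotientGroup.eq_one_iff _).mp h5

theorem sqRoots_restrict (hodd : Odd N.index) (n : N) :
    sqRoots (n : G) = sqRoots (G := N) n := by
  classical
  unfold sqRoots
  congr 1
  symm
  refine Finset.card_bij (fun v _ => (v : G)) ?_ ?_ ?_
  · intro v hv
    simp only [Finset.mem_filter, Finset.mem_univ, true_and] at hv ⊢
    exact congrArg Subtype.val hv
  · intro a _ b _ hab
    exact Subtype.ext hab
  · intro u hu
    simp only [Finset.mem_filter, Finset.mem_univ, true_and] at hu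
    have hm : u ∈ N := mem_of_mul_self_mem N hodd u (by rw [hu]; exact n.2)
    refine ⟨⟨u, hm⟩, ?_, rfl⟩
    simp only [Finset.mem_filter, Finset.mem_univ, true_and]
    exact Subtype.ext hu

/-- The indicator formula for odd index. -/
theorem indicator_sum_odd (hodd : Odd N.index) (φ : N → ℂ) :
    (Nat.card N : ℂ)⁻¹ * ∑ s : N, φ (s * s) =
      ∑ ψ : IrrCharacter G, ((Nat.card G : ℂ)⁻¹ * ∑ s : G, (ψ : G → ℂ) (s * s)) * classInner φ (fun n : N => (ψ : G → ℂ) n) := by
  classical
  have h1 := classInner_sqRoots_right (G := G) (indFun N φ)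
  have h2 : classInner (indFun N φ) (sqRoots (G := G)) = classInner φ (sqRoots (G := N)) := by
    rw [frobenius N φ sqRoots_class]
    congr 1
    funext n
    exact sqRoots_restrict N hodd n
  have h3 : classInner φ (sqRoots (G := N)) = (Nat.card N : ℂ)⁻¹ * ∑ s : N, φ (s * s) := by
    rw [← conj_classInner, classInner_sqRoots, Complex.conj_conj]
  rw [← h3, ← h2, h1]
  refine Finset.sum_congr rfl fun ψ _ => ?_
  rw [frobenius N φ ψ.2.isClassFunction]

/-- **Unique constituent with indicator one** for odd index. -/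
theorem exists_unique_indicator_one (hodd : Odd N.index) {φ : N → ℂ} (hφ : IsIrrCharacter N φ)
    (hν : (Nat.card N : ℂ)⁻¹ * ∑ s : N, φ (s * s) = 1) :
    ∃! χ : IrrCharacter G, (Nat.card G : ℂ)⁻¹ * ∑ s : G, (χ : G → ℂ) (s * s) = 1 ∧
      classInner (fun n : N => (χ : G → ℂ) n) φ ≠ 0 := by
  classical
  have hreal : ∀ n, (φ n).im = 0 := by
    by_contra hcon
    push Not at hcon
    have := (fs_trichotomy hφ).2.mpr hcon
    rw [hν] at this
    exact one_ne_zero this
  obtain ⟨χ₀, ⟨h0a, h0b⟩, h0u⟩ := exists_unique_real_over N hodd hφ hreal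
  have hf := indicator_sum_odd N hodd φ
  rw [hν] at hf
  have hterm : ∀ ψ ∈ (Finset.univ : Finset (IrrCharacter G)), ψ ≠ χ₀ →
      ((Nat.card G : ℂ)⁻¹ * ∑ s : G, (ψ : G → ℂ) (s * s)) * classInner φ (fun n : N => (ψ : G → ℂ) n) = 0 := by
    intro ψ _ hψ
    by_cases hr : ∀ g, ((ψ : G → ℂ) g).im = 0
    · have h1 : classInner (fun n : N => (ψ : G → ℂ) n) φ = 0 := by
        by_contra h
        exact hψ (h0u ψ ⟨h, hr⟩)
      rw [← conj_classInner, h1]
      simp
    · push Not at hr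
      rw [(fs_trichotomy ψ.2).2.mpr hr, zero_mul]
  rw [Finset.sum_eq_single χ₀ hterm (fun h => absurd (Finset.mem_univ _) h)] at hf
  obtain ⟨e, he⟩ := (χ₀.2.isCharacter.restrict N).classInner_nat hφ
  have he' : classInner φ (fun n : N => (χ₀ : G → ℂ) n) = e := by
    rw [← conj_classInner, he]
    simp
  rw [he'] at hf
  have hν₀ : (Nat.card G : ℂ)⁻¹ * ∑ s : G, (χ₀ : G → ℂ) (s * s) = 1 := by
    rcases (fs_trichotomy χ₀.2).1 with h | h | h
    · rw [h, zero_mul] at hf
      exact absurd hf one_ne_zero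
    · exact h
    · exfalso
      rw [h] at hf
      have h2 : ((e : ℂ)) = -1 := by linear_combination hf
      have h3 := congrArg Complex.re h2
      simp at h3
      have h4 : (0 : ℝ) ≤ e := by positivity
      linarith
  refine ⟨χ₀, ⟨hν₀, h0a⟩, ?_⟩
  rintro χ ⟨h1, h2⟩
  refine h0u χ ⟨h2, ?_⟩
  by_contra hcon
  push Not at hcon
  rw [(fs_trichotomy χ.2).2.mpr hcon] at h1
  exact zero_ne_one h1

end OddIndex

end CfsgLib.Char
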