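import Mathlib
import Cfsg.Agent.Lib.Char.RealOver

/-!
# Galois-fixed constituents over odd-index normal subgroups.
-/

set_option linter.unusedSectionVars false
set_option linter.style.haveILetI false
set_option linter.unusedSimpArgs false
set_option linter.unusedVariables false

namespace CfsgLib.Char

open Module Cfsg
open scoped ComplexConjugate

universe u

section Basic

variable {G : Type u} [Group G] [Fintype G] (N : Subgroup G) [hN : N.Normal] [Fintype N]

theorem mul_pow_mem_of_inv (hodd : Odd N.index) (k : ℕ)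
    (hk₂ : ∀ g : G, Odd (orderOf g) → g ^ k = g⁻¹) (g : G) :
    g * g ^ k ∈ N := by
  classical
  obtain ⟨a, c, hc, hnc⟩ := Nat.exists_eq_two_pow_mul_odd (orderOf_pos g).ne'
  have hco : Nat.Coprime N.index (2 ^ a) := Nat.Coprime.pow_right _ (Nat.coprime_two_right.mpr hodd)
  obtain ⟨x, hx1, hx2⟩ := Nat.chineseRemainder hco 1 0
  have h1 : (g ^ x) ^ c = 1 := by
    rw [← pow_mul]
    apply orderOf_dvd_iff_pow_eq_one.mp
    rw [hnc]
    have : 2 ^ a ∣ x := (Nat.modEq_zero_iff_dvd).mp hx2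
    exact Nat.mul_dvd_mul this dvd_rfl
  have h2 : Odd (orderOf (g ^ x)) := Odd.of_dvd_nat hc (orderOf_dvd_of_pow_eq_one h1)
  have h3 := hk₂ _ h2
  have h4 : (QuotientGroup.mk (g ^ x) : G ⧸ N) = QuotientGroup.mk g := by
    rw [QuotientGroup.mk_pow]
    have h5 : orderOf (QuotientGroup.mk g : G ⧸ N) ∣ N.index := orderOf_dvd_natCard _
    have h6 := pow_eq_pow_iff_modEq.mpr (hx1.of_dvd h5)
    rwa [pow_one] at h6
  have h7 : (QuotientGroup.mk (g ^ k) : G ⧸ N) = (QuotientGroup.mk g)⁻¹ := by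
    have h8 : (QuotientGroup.mk ((g ^ x) ^ k) : G ⧸ N) = (QuotientGroup.mk g) ^ k := by
      rw [QuotientGroup.mk_pow, h4]
    rw [h3, QuotientGroup.mk_inv, h4] at h8
    rw [QuotientGroup.mk_pow, ← h8]
  rw [← QuotientGroup.eq_one_iff, QuotientGroup.mk_mul, h7, mul_inv_cancel]

theorem mem_of_isConj_pow_mul (hodd : Odd N.index) (k : ℕ)
    (hk₂ : ∀ g : G, Odd (orderOf g) → g ^ k = g⁻¹) (g : G) (n : N) (h : IsConj (g ^ k * n) g) : g ∈ N := by
  apply mem_of_isConj_inv_mul N hodd g ⟨g * g ^ k * n, N.mul_mem (mul_pow_mem_of_inv N hodd k hk₂ g) n.2⟩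
  have h1 : g⁻¹ * (g * g ^ k * n) = g ^ k * n := by group
  simpa only [h1] using h

/-- **Exactly one `k`-fixed constituent** over a `k`-fixed character, for odd index. -/
theorem exists_unique_pow_fixed_over (hodd : Odd N.index) (k : ℕ) (hk : k.Coprime (Nat.card G))
    (hk₂ : ∀ g : G, Odd (orderOf g) → g ^ k = g⁻¹) {φ : N → ℂ} (hφ : IsIrrCharacter N φ)
    (hfix : ∀ n : N, φ (n ^ k) = φ n) :
    ∃! χ : IrrCharacter G, classInner (fun n : N => (χ : G → ℂ) n) φ ≠ 0 ∧ ∀ g, (χ : G → ℂ) (g ^ k) = (χ : G → ℂ) g := by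
  classical
  have hmain := sum_over_twist N hφ (fun g => g ^ k) (fun g n h => mem_of_isConj_pow_mul N hodd k hk₂ g n h)
    (fun n => N.pow_mem n.2 k)
    (fun n => by
      have h1 := hfix n
      exact h1)
    (fun h n => by simp only [conj_pow])
  have hterm : ∀ χ : IrrCharacter G, classInner (fun g => (χ : G → ℂ) (g ^ k)) (χ : G → ℂ) =
      if ∀ g, (χ : G → ℂ) (g ^ k) = (χ : G → ℂ) g then 1 else 0 := by
    intro χ
    by_cases hr : ∀ g, (χ : G → ℂ) (g ^ k) = (χ : G → ℂ) g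
    · rw [if_pos hr]
      have : (fun g => (χ : G → ℂ) (g ^ k)) = (χ : G → ℂ) := by
        funext g
        exact hr g
      rw [this, classInner_irr_self χ.2]
    · rw [if_neg hr]
      apply classInner_irr_ne (powFun_isIrr χ.2 hk) χ.2
      intro h
      apply hr
      intro g
      exact congrFun h g
  rw [Finset.sum_congr rfl fun χ _ => hterm χ, Finset.sum_boole] at hmain
  have hcard : ((Finset.univ.filter (fun χ : IrrCharacter G => classInner (fun n : N => (χ : G → ℂ) n) φ ≠ 0)).filter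
      (fun χ : IrrCharacter G => ∀ g, (χ : G → ℂ) (g ^ k) = (χ : G → ℂ) g)).card = 1 := by
    exact_mod_cast hmain
  obtain ⟨χ₀, hχ₀⟩ := Finset.card_eq_one.mp hcard
  have hmem : ∀ χ : IrrCharacter G, (classInner (fun n : N => (χ : G → ℂ) n) φ ≠ 0 ∧ ∀ g, (χ : G → ℂ) (g ^ k) = (χ : G → ℂ) g) ↔ χ = χ₀ := by
    intro χ
    have := Finset.ext_iff.mp hχ₀ χ
    simp only [Finset.mem_filter, Finset.mem_univ, true_and, Finset.mem_singleton] at this
    exact this
  exact ⟨χ₀, (hmem χ₀).mpr rfl, fun χ h => (hmem χ).mp h⟩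

/-- Gallagher: two extensions differ by a linear character of the quotient. -/
theorem twist_of_extensions {θ : N → ℂ} (hθ : IsIrrCharacter N θ)
    (hinv : ∀ (g : G) (n : N), θ ⟨g * n * g⁻¹, hN.conj_mem (n : G) n.2 g⟩ = θ n)
    {χ₁ ψ : G → ℂ} (hχ₁ : IsIrrCharacter G χ₁) (hψ : IsIrrCharacter G ψ)
    (h1 : ∀ n : N, χ₁ n = θ n) (h2 : ∀ n : N, ψ n = θ n) :
    ∃ l : G →* ℂˣ, (∀ n ∈ N, l n = 1) ∧ ψ = (fun g => ((l g : ℂˣ) : ℂ)) * χ₁ := by
  classical
  have hone : IsIrrCharacter N (fun _ => (1 : ℂ)) := isIrrCharacter_one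
  have hmul : (fun _ : N => (1 : ℂ)) * θ = θ := by
    funext n
    simp
  have hbij := mult_bijOn N hone hθ (fun _ _ => rfl) hinv (by rw [hmul]; exact hθ) hχ₁ h1
  rw [hmul] at hbij
  have hψmem : ψ ∈ {ψ : G → ℂ | IsIrrCharacter G ψ ∧ classInner (indFun N θ) ψ ≠ 0} := by
    refine ⟨hψ, ?_⟩
    rw [frobenius N _ hψ.isClassFunction]
    have : (fun n : N => ψ n) = θ := funext h2
    rw [this, classInner_irr_self hθ]
    exact one_ne_zero
  obtain ⟨β, ⟨hβ, hb⟩, hβeq⟩ := hbij.surjOn hψmem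
  have hker := irr_inner_quot_one N β hβ hb
  have hψ1 : ψ 1 = β 1 * χ₁ 1 := by
    rw [← hβeq]
    rfl
  have h11 : χ₁ 1 = θ 1 := h1 1
  have h12 : ψ 1 = θ 1 := h2 1
  have hne : θ 1 ≠ 0 := hθ.map_one_ne_zero
  have hβ1 : β 1 = 1 := by
    rw [h11, h12] at hψ1
    have : (β 1 - 1) * θ 1 = 0 := by rw [sub_mul, ← hψ1]; ring
    rcases mul_eq_zero.mp this with h | h
    · exact sub_eq_zero.mp h
    · exact absurd h hne
  obtain ⟨l, hl⟩ := exists_hom_of_degree_one hβ.isCharacter hβ1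
  refine ⟨l, ?_, ?_⟩
  · intro n hn
    have h3 := hker n hn 1
    rw [mul_one, hβ1, hl] at h3
    exact Units.ext h3
  · rw [← hβeq, hl]

/-- Over an invariant extendible character with abelian quotient, every constituent is an extension. -/
theorem restrict_eq_of_cyclic_quot (hcyc : IsCyclic (G ⧸ N)) {θ : N → ℂ} (hθ : IsIrrCharacter N θ)
    (hinv : ∀ (g : G) (n : N), θ ⟨g * n * g⁻¹, hN.conj_mem (n : G) n.2 g⟩ = θ n)
    {χ : G → ℂ} (hχ : IsIrrCharacter G χ) (hover : classInner (fun n : N => χ n) θ ≠ 0) :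
    ∀ n : N, χ n = θ n := by
  classical
  obtain ⟨χ₁, hχ₁, hext⟩ := extends_of_cyclic_quotient N hcyc θ hθ hinv
  have hone : IsIrrCharacter N (fun _ => (1 : ℂ)) := isIrrCharacter_one
  have hmul : (fun _ : N => (1 : ℂ)) * θ = θ := by
    funext n
    simp
  have hbij := mult_bijOn N hone hθ (fun _ _ => rfl) hinv (by rw [hmul]; exact hθ) hχ₁ hext
  rw [hmul] at hbij
  have hψmem : χ ∈ {ψ : G → ℂ | IsIrrCharacter G ψ ∧ classInner (indFun N θ) ψ ≠ 0} := by
    refine ⟨hχ, ?_⟩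
    rw [frobenius N _ hχ.isClassFunction]
    intro h0
    apply hover
    rw [← conj_classInner, h0, map_zero]
  obtain ⟨β, ⟨hβ, hb⟩, hβeq⟩ := hbij.surjOn hψmem
  have hker := irr_inner_quot_one N β hβ hb
  haveI : IsMulCommutative (G ⧸ N) := by
    obtain ⟨g, hg⟩ := hcyc.exists_generator
    exact ⟨⟨fun a b => by
      obtain ⟨i, hi⟩ := Subgroup.mem_zpowers_iff.mp (hg a)
      obtain ⟨j, hj⟩ := Subgroup.mem_zpowers_iff.mp (hg b)
      rw [← hi, ← hj, zpow_mul_comm]⟩⟩
  have hab : ∀ x y : G, x * y * x⁻¹ * y⁻¹ ∈ N := by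
    intro x y
    rw [← QuotientGroup.eq_one_iff]
    simp only [QuotientGroup.mk_mul, QuotientGroup.mk_inv]
    have hc : (QuotientGroup.mk x : G ⧸ N) * QuotientGroup.mk y = QuotientGroup.mk y * QuotientGroup.mk x :=
      mul_comm' _ _
    rw [hc]
    group
  have hβ1 : β 1 = 1 := degree_one_of_abelian_quot N hβ (fun n hn => by
    have := hker n hn 1
    rwa [mul_one] at this) hab
  intro n
  rw [← hβeq, ← hext n]
  have h3 := hker n n.2 1
  rw [mul_one, hβ1] at h3
  show β n * χ₁ n = χ₁ n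
  rw [h3, one_mul]

end Basic

section Main

/-- The hypothesis on the power map, inherited by subgroups. -/
theorem powInv_subgroup {G : Type u} [Group G] [Fintype G] (M : Subgroup G) (k : ℕ)
    (hk₂ : ∀ g : G, Odd (orderOf g) → g ^ k = g⁻¹) : ∀ g : M, Odd (orderOf g) → g ^ k = g⁻¹ := by
  intro g hg
  apply Subtype.ext
  have : orderOf (g : G) = orderOf g := Subgroup.orderOf_coe g
  rw [Subgroup.coe_pow, Subgroup.coe_inv]
  exact hk₂ _ (by rw [this]; exact hg)

theorem coprime_subgroup {G : Type u} [Group G] [Fintype G] (M : Subgroup G) {k : ℕ}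
    (hk : k.Coprime (Nat.card G)) : k.Coprime (Nat.card M) :=
  Nat.Coprime.coprime_dvd_right (Subgroup.card_subgroup_dvd_card M) hk

/-- The `k`-fixed constituent over an invariant `k`-fixed character is an extension, when the
index of `N` is a power of a prime (and odd). -/
theorem pow_fixed_restrict_ppow (p : ℕ) [hp : Fact p.Prime] (k : ℕ) :
    ∀ (a : ℕ) (G : Type u) [Group G] [Fintype G] (N : Subgroup G) [hN : N.Normal] [Fintype N],
      N.index = p ^ a → Odd N.index → k.Coprime (Nat.card G) →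
      (∀ g : G, Odd (orderOf g) → g ^ k = g⁻¹) →
      ∀ θ : N → ℂ, IsIrrCharacter N θ → (∀ n : N, θ (n ^ k) = θ n) →
      (∀ (g : G) (n : N), θ ⟨g * n * g⁻¹, hN.conj_mem (n : G) n.2 g⟩ = θ n) →
      ∀ χ : G → ℂ, IsIrrCharacter G χ → classInner (fun n : N => χ n) θ ≠ 0 →
      (∀ g, χ (g ^ k) = χ g) → ∀ n : N, χ n = θ n := by
  intro a
  induction a with
  | zero =>
    intro G _ _ N hN _ hidx hodd hk hk₂ θ hθ hfix hinv χ hχ hover hχfix
    have hcyc : IsCyclic (G ⧸ N) := by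
      have h1 : Nat.card (G ⧸ N) = 1 := by
        have : N.index = 1 := by simpa using hidx
        exact this
      haveI : Subsingleton (G ⧸ N) := (Nat.card_eq_one_iff_unique.mp h1).1
      infer_instance
    exact restrict_eq_of_cyclic_quot N hcyc hθ hinv hχ hover
  | succ a ih =>
    intro G _ _ N hN _ hidx hodd hk hk₂ θ hθ hfix hinv χ hχ hover hχfix
    classical
    -- the normal subgroup of index `p` above `N`
    have hcardQ : Nat.card (G ⧸ N) = p ^ (a + 1) := hidx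
    obtain ⟨K, hK⟩ := Sylow.exists_subgroup_card_pow_prime (G := G ⧸ N) p (n := a)
      (by rw [hcardQ]; exact pow_dvd_pow p (Nat.le_succ a))
    have hKidx : K.index = p := by
      have h1 := K.card_mul_index
      rw [hK, hcardQ, pow_succ] at h1
      exact Nat.eq_of_mul_eq_mul_left (pow_pos hp.out.pos a) h1
    have hKn : K.Normal := by
      apply Subgroup.normal_of_index_eq_minFac_card
      rw [hKidx, hcardQ, Nat.Prime.pow_minFac hp.out (Nat.succ_ne_zero a)]
    let M : Subgroup G := K.comap (QuotientGroup.mk' N)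
    have hMn : M.Normal := hKn.comap _
    haveI := hMn
    have hMidx : M.index = p := by
      have : M.index = K.index := Subgroup.index_comap_of_surjective K (QuotientGroup.mk'_surjective N)
      rw [this, hKidx]
    have hNM : N ≤ M := by
      intro n hn
      show QuotientGroup.mk' N n ∈ K
      rw [QuotientGroup.mk'_apply, (QuotientGroup.eq_one_iff n).mpr hn]
      exact K.one_mem
    have hrel : N.relIndex M * M.index = N.index := Subgroup.relIndex_mul_index hNM
    have hrel' : N.relIndex M = p ^ a := by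
      rw [hMidx, hidx, pow_succ] at hrel
      exact Nat.eq_of_mul_eq_mul_right hp.out.pos hrel
    have hMcop : Odd M.index := Odd.of_dvd_nat hodd ⟨N.relIndex M, by rw [← hrel, mul_comm]⟩
    -- the data on `M`
    letI : Fintype M := Fintype.ofFinite _
    haveI hN' : (N.subgroupOf M).Normal := inferInstance
    letI : Fintype (N.subgroupOf M) := Fintype.ofFinite _
    have hoddN' : Odd (N.subgroupOf M).index := Odd.of_dvd_nat hodd ⟨M.index, hrel.symm⟩
    let e : N.subgroupOf M ≃* N := Subgroup.subgroupOfEquivOfLe hNM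
    have he : ∀ n : N.subgroupOf M, ((e n : N) : G) = (n : M) := fun n => rfl
    let θ' : N.subgroupOf M → ℂ := fun n => θ (e n)
    have hθ' : IsIrrCharacter (N.subgroupOf M) θ' := hθ.comp_surjective e.toMonoidHom e.surjective
    have hfix' : ∀ n : N.subgroupOf M, θ' (n ^ k) = θ' n := by
      intro n
      simp only [θ', map_pow]
      exact hfix _
    have hinv' : ∀ (g : M) (n : N.subgroupOf M), θ' ⟨g * n * g⁻¹, hN'.conj_mem (n : M) n.2 g⟩ = θ' n := by
      intro g n
      have h1 := hinv g (e n)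
      refine Eq.trans (congrArg θ (Subtype.ext ?_)) h1
      rfl
    have hkM := coprime_subgroup M hk
    have hk₂M := powInv_subgroup M k hk₂
    obtain ⟨η₀, ⟨hη₀1, hη₀2⟩, hη₀u⟩ := exists_unique_pow_fixed_over (N.subgroupOf M) hoddN' k hkM hk₂M hθ' hfix'
    have hη₀res : ∀ n : N.subgroupOf M, (η₀ : M → ℂ) n = θ' n :=
      ih M (N.subgroupOf M) hrel' hoddN' hkM hk₂M θ' hθ' hfix' hinv' η₀ η₀.2 hη₀1 hη₀2
    -- `η₀` is `G`-invariant
    have hη₀inv : ∀ (g : G) (n : M), (η₀ : M → ℂ) ⟨g * n * g⁻¹, hMn.conj_mem (n : G) n.2 g⟩ = (η₀ : M → ℂ) n := by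
      intro g
      let η₁ : IrrCharacter M := ⟨conjOn M g (η₀ : M → ℂ), isIrr_conjOn M g η₀.2⟩
      have h1 : η₁ = η₀ := by
        apply hη₀u
        refine ⟨?_, ?_⟩
        · have h2 : (fun n : N.subgroupOf M => (η₁ : M → ℂ) n) = θ' := by
            funext n
            show (η₀ : M → ℂ) ⟨g * ((n : M) : G) * g⁻¹, _⟩ = θ' n
            have h3 : g * (((n : M) : G)) * g⁻¹ ∈ N := hN.conj_mem _ n.2 g
            have h4 := hη₀res ⟨⟨g * ((n : M) : G) * g⁻¹, hNM h3⟩, h3⟩
            refine Eq.trans h4 ?_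
            exact hinv g (e n)
          rw [h2, classInner_irr_self hθ']
          exact one_ne_zero
        · intro x
          show (η₀ : M → ℂ) ⟨g * ((x ^ k : M) : G) * g⁻¹, _⟩ = (η₀ : M → ℂ) ⟨g * (x : G) * g⁻¹, _⟩
          have h5 := hη₀2 ⟨g * (x : G) * g⁻¹, hMn.conj_mem (x : G) x.2 g⟩
          refine Eq.trans (congrArg (η₀ : M → ℂ) (Subtype.ext ?_)) h5
          simp only [Subgroup.coe_pow, conj_pow]
      intro n
      have h6 := congrFun (congrArg (fun ζ : IrrCharacter M => (ζ : M → ℂ)) h1) n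
      exact h6
    -- the `k`-fixed constituent over `η₀`
    obtain ⟨χ₂, ⟨hχ₂1, hχ₂2⟩, -⟩ := exists_unique_pow_fixed_over M hMcop k hk hk₂ η₀.2
      (fun n => hη₀2 n)
    -- it lies over `θ`
    have hχ₂res := clifford_invariant M χ₂.2 η₀.2 (fun g => by
      funext n
      exact hη₀inv g n) hχ₂1
    have hχ₂θ : classInner (fun n : N => (χ₂ : G → ℂ) n) θ ≠ 0 := by
      set c : ℂ := classInner (fun n : M => (χ₂ : G → ℂ) n) (η₀ : M → ℂ) with hc
      have h1 : (fun n : N => (χ₂ : G → ℂ) n) = c • θ := by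
        funext n
        have h2 := congrFun hχ₂res ⟨n, hNM n.2⟩
        have h3 := hη₀res (e.symm n)
        have h4 : e (e.symm n) = n := e.apply_symm_apply n
        have h5 : θ' (e.symm n) = θ n := by simp only [θ', h4]
        simp only [Pi.smul_apply, smul_eq_mul] at h2 ⊢
        rw [h5] at h3
        rw [h2, ← h3]
        congr 2
      rw [h1, classInner_smul_left, classInner_irr_self hθ, mul_one]
      exact hχ₂1
    -- uniqueness over `θ` at the level of `G`
    obtain ⟨χ₃, -, hχ₃u⟩ := exists_unique_pow_fixed_over N hodd k hk hk₂ hθ hfix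
    have h1 : χ₂ = χ₃ := hχ₃u χ₂ ⟨hχ₂θ, hχ₂2⟩
    have h2 : (⟨χ, hχ⟩ : IrrCharacter G) = χ₃ := hχ₃u ⟨χ, hχ⟩ ⟨hover, hχfix⟩
    have h3 : χ = χ₂ := by
      have := h2.trans h1.symm
      exact congrArg Subtype.val this
    subst h3
    have hcyc : IsCyclic (G ⧸ M) := by
      haveI : Fact (Nat.card (G ⧸ M)).Prime := ⟨by
        have : Nat.card (G ⧸ M) = p := hMidx
        rw [this]
        exact hp.out⟩
      exact isCyclic_of_prime_card rfl
    have hres := restrict_eq_of_cyclic_quot M hcyc η₀.2 hη₀inv hχ hχ₂1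
    intro n
    have h4 := hres ⟨n, hNM n.2⟩
    have h5 := hη₀res (e.symm n)
    have h6 : e (e.symm n) = n := e.apply_symm_apply n
    have h7 : θ' (e.symm n) = θ n := by simp only [θ', h6]
    rw [h7] at h5
    rw [← h5]
    exact h4

/-- **The invariant case**: the `k`-fixed constituent over an invariant `k`-fixed character of an
odd-index normal subgroup is an extension. -/
theorem pow_fixed_restrict {G : Type u} [Group G] [Fintype G] (N : Subgroup G) [hN : N.Normal] [Fintype N]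
    (hodd : Odd N.index) (k : ℕ) (hk : k.Coprime (Nat.card G))
    (hk₂ : ∀ g : G, Odd (orderOf g) → g ^ k = g⁻¹) {θ : N → ℂ} (hθ : IsIrrCharacter N θ)
    (hfix : ∀ n : N, θ (n ^ k) = θ n)
    (hinv : ∀ (g : G) (n : N), θ ⟨g * n * g⁻¹, hN.conj_mem (n : G) n.2 g⟩ = θ n)
    {χ : G → ℂ} (hχ : IsIrrCharacter G χ) (hover : classInner (fun n : N => χ n) θ ≠ 0)
    (hχfix : ∀ g, χ (g ^ k) = χ g) : ∀ n : N, χ n = θ n := by
  classical
  -- `θ` extends to `G`
  obtain ⟨χ₁, hχ₁, hext⟩ := extends_of_sylow_extensions N θ hθ hinv (by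
    intro p hpp
    haveI : Fact p.Prime := ⟨hpp⟩
    obtain ⟨S⟩ : Nonempty (Sylow p (G ⧸ N)) := inferInstance
    let P : Subgroup G := (S : Subgroup (G ⧸ N)).comap (QuotientGroup.mk' N)
    have hNP : N ≤ P := by
      intro n hn
      show QuotientGroup.mk' N n ∈ (S : Subgroup (G ⧸ N))
      rw [QuotientGroup.mk'_apply, (QuotientGroup.eq_one_iff n).mpr hn]
      exact Subgroup.one_mem _
    have hPidx : P.index = (S : Subgroup (G ⧸ N)).index :=
      Subgroup.index_comap_of_surjective _ (QuotientGroup.mk'_surjective N)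
    have hrel : N.relIndex P * P.index = N.index := Subgroup.relIndex_mul_index hNP
    have hcop : Nat.Coprime P.index p := by
      rw [hPidx]
      exact ((Nat.Prime.coprime_iff_not_dvd hpp).mpr (Sylow.not_dvd_index S)).symm
    have hrel2 : ∃ a, N.relIndex P = p ^ a := by
      obtain ⟨a, ha⟩ := IsPGroup.iff_card.mp S.isPGroup'
      refine ⟨a, ?_⟩
      have h1 := (S : Subgroup (G ⧸ N)).card_mul_index
      have h2 : Nat.card (G ⧸ N) = N.index := rfl
      rw [h2, ← hrel, hPidx] at h1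
      have hpos : 0 < (S : Subgroup (G ⧸ N)).index := Nat.pos_of_ne_zero (Subgroup.index_ne_zero_of_finite)
      rw [← ha]
      exact (Nat.eq_of_mul_eq_mul_right hpos h1).symm
    letI : Fintype P := Fintype.ofFinite _
    haveI hN' : (N.subgroupOf P).Normal := inferInstance
    letI : Fintype (N.subgroupOf P) := Fintype.ofFinite _
    have hoddN' : Odd (N.subgroupOf P).index := Odd.of_dvd_nat hodd ⟨P.index, hrel.symm⟩
    let e : N.subgroupOf P ≃* N := Subgroup.subgroupOfEquivOfLe hNP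
    let θ' : N.subgroupOf P → ℂ := fun n => θ (e n)
    have hθ' : IsIrrCharacter (N.subgroupOf P) θ' := hθ.comp_surjective e.toMonoidHom e.surjective
    have hfix' : ∀ n : N.subgroupOf P, θ' (n ^ k) = θ' n := by
      intro n
      simp only [θ', map_pow]
      exact hfix _
    have hinv' : ∀ (g : P) (n : N.subgroupOf P), θ' ⟨g * n * g⁻¹, hN'.conj_mem (n : P) n.2 g⟩ = θ' n := by
      intro g n
      have h1 := hinv g (e n)
      refine Eq.trans (congrArg θ (Subtype.ext ?_)) h1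
      rfl
    have hkP := coprime_subgroup P hk
    have hk₂P := powInv_subgroup P k hk₂
    obtain ⟨η₀, ⟨hη₀1, hη₀2⟩, -⟩ := exists_unique_pow_fixed_over (N.subgroupOf P) hoddN' k hkP hk₂P hθ' hfix'
    obtain ⟨a, ha⟩ := hrel2
    have hη₀res : ∀ n : N.subgroupOf P, (η₀ : P → ℂ) n = θ' n :=
      pow_fixed_restrict_ppow p k a P (N.subgroupOf P) ha hoddN' hkP hk₂P θ' hθ' hfix' hinv' η₀ η₀.2 hη₀1 hη₀2
    refine ⟨P, hNP, η₀, hcop, ⟨a, ha⟩, η₀.2, ?_⟩
    intro n
    have h5 := hη₀res (e.symm n)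
    have h6 : e (e.symm n) = n := e.apply_symm_apply n
    have h7 : θ' (e.symm n) = θ n := by simp only [θ', h6]
    rw [h7] at h5
    exact h5)
  -- the twist of `χ₁` by `k`
  have hχσ : IsIrrCharacter G (fun g => χ₁ (g ^ k)) := powFun_isIrr hχ₁ hk
  obtain ⟨l, hl1, hl2⟩ := twist_of_extensions N hθ hinv hχ₁ hχσ hext (fun n => by
    have h1 := hext (n ^ k)
    rw [hfix n] at h1
    exact h1)
  -- the square root of `l`
  set o := N.index with ho
  obtain ⟨r, hr⟩ := hodd
  have hlo : ∀ g, l g ^ (2 * r + 1) = 1 := by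
    intro g
    rw [← hr, ← map_pow]
    exact hl1 _ (Subgroup.pow_index_mem N g)
  let μ : G →* ℂˣ := l ^ (r + 1)
  have hμ : ∀ g, μ g = l g ^ (r + 1) := fun g => rfl
  have hμN : ∀ n ∈ N, μ n = 1 := fun n hn => by rw [hμ, hl1 n hn, one_pow]
  have hμ2 : ∀ g, μ g * μ g = l g := by
    intro g
    rw [hμ, ← pow_add]
    have : r + 1 + (r + 1) = (2 * r + 1) + 1 := by ring
    rw [this, pow_succ, hlo, one_mul]
  have hμk : ∀ g, μ (g ^ k) = (μ g)⁻¹ := by
    intro g
    have h1 := hμN _ (mul_pow_mem_of_inv N ⟨r, hr⟩ k hk₂ g)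
    rw [map_mul] at h1
    exact eq_inv_of_mul_eq_one_right h1
  let χ₂ : G → ℂ := (fun g => ((μ g : ℂˣ) : ℂ)) * χ₁
  have hχ₂ : IsIrrCharacter G χ₂ := isIrr_hom_mul μ hχ₁
  have hχ₂fix : ∀ g, χ₂ (g ^ k) = χ₂ g := by
    intro g
    have h1 : χ₁ (g ^ k) = ((l g : ℂˣ) : ℂ) * χ₁ g := congrFun hl2 g
    show ((μ (g ^ k) : ℂˣ) : ℂ) * χ₁ (g ^ k) = ((μ g : ℂˣ) : ℂ) * χ₁ g
    rw [h1, hμk, ← hμ2 g]
    simp only [Units.val_inv_eq_inv_val, Units.val_mul]
    have h0 : ((μ g : ℂˣ) : ℂ) ≠ 0 := Units.ne_zero _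
    field_simp
  have hχ₂res : ∀ n : N, χ₂ n = θ n := by
    intro n
    show ((μ n : ℂˣ) : ℂ) * χ₁ n = θ n
    rw [hμN _ n.2, hext n]
    simp
  have hχ₂over : classInner (fun n : N => χ₂ n) θ ≠ 0 := by
    have : (fun n : N => χ₂ n) = θ := funext hχ₂res
    rw [this, classInner_irr_self hθ]
    exact one_ne_zero
  obtain ⟨χ₃, -, hχ₃u⟩ := exists_unique_pow_fixed_over N ⟨r, hr⟩ k hk hk₂ hθ hfix
  have h1 : (⟨χ₂, hχ₂⟩ : IrrCharacter G) = χ₃ := hχ₃u ⟨χ₂, hχ₂⟩ ⟨hχ₂over, hχ₂fix⟩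
  have h2 : (⟨χ, hχ⟩ : IrrCharacter G) = χ₃ := hχ₃u ⟨χ, hχ⟩ ⟨hover, hχfix⟩
  have h3 : χ = χ₂ := congrArg Subtype.val (h2.trans h1.symm)
  rw [h3]
  exact hχ₂res

end Main

end CfsgLib.Char
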