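import Mathlib
import Cfsg.Agent.Lib.Char.GalOdd

/-!
# Linear characters and induced characters over a nonabelian minimal normal subgroup.
-/

set_option linter.unusedSectionVars false
set_option linter.style.haveILetI false
set_option linter.unusedSimpArgs false
set_option linter.unusedVariables false

namespace CfsgLib.Char

open Module Cfsg
open scoped ComplexConjugate commutatorElement

universe u

section

variable {G : Type u} [Group G] [Fintype G]

theorem hom_trivial_of_minimal {N : Subgroup G} (hN : N.Normal)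
    (hmin : ∀ M : Subgroup G, M.Normal → M ≤ N → M = ⊥ ∨ M = N) (hna : ¬ IsMulCommutative N)
    (l : G →* ℂˣ) : ∀ n ∈ N, l n = 1 := by
  rcases hmin (N ⊓ l.ker) (by haveI := hN; exact inferInstance) inf_le_left with h | h
  · exfalso
    apply hna
    refine ⟨⟨fun a b => ?_⟩⟩
    apply Subtype.ext
    have h1 : ⁅(a : G), (b : G)⁆ ∈ N ⊓ l.ker := by
      refine Subgroup.mem_inf.mpr ⟨?_, ?_⟩
      · rw [commutatorElement_def]
        exact N.mul_mem (N.mul_mem (N.mul_mem a.2 b.2) (N.inv_mem a.2)) (N.inv_mem b.2)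
      · rw [MonoidHom.mem_ker, commutatorElement_def]
        simp only [map_mul, map_inv]
        rw [mul_comm (l a) (l b)]
        simp
    rw [h, Subgroup.mem_bot] at h1
    exact commutatorElement_eq_one_iff_mul_comm.mp h1
  · intro n hn
    have : n ∈ N ⊓ l.ker := by rw [h]; exact hn
    exact this.2

/-- Gallagher: the multiplication by a nontrivial linear character of the quotient moves an
extension. -/
theorem hom_eq_one_of_mul_eq {A : Type u} [Group A] [Fintype A] (N : Subgroup A) [hN : N.Normal]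
    [Fintype N] {φ : N → ℂ} (hφ : IsIrrCharacter N φ) {ψ : A → ℂ} (hψ : IsIrrCharacter A ψ)
    (hext : ∀ n : N, ψ n = φ n) (ν : A →* ℂˣ) (hν : ∀ n ∈ N, ν n = 1)
    (heq : (fun g => ((ν g : ℂˣ) : ℂ)) * ψ = ψ) : ν = 1 := by
  classical
  have hinv : ∀ (g : A) (n : N), φ ⟨g * n * g⁻¹, hN.conj_mem (n : A) n.2 g⟩ = φ n := by
    intro g n
    rw [← hext, ← hext]
    simpa using hψ.isClassFunction (n : A) g
  have hone : IsIrrCharacter N (fun _ => (1 : ℂ)) := isIrrCharacter_one
  have hmul : (fun _ : N => (1 : ℂ)) * φ = φ := by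
    funext n
    simp
  have hbij := mult_bijOn N hone hφ (fun _ _ => rfl) hinv (by rw [hmul]; exact hφ) hψ hext
  have hmem1 : (fun g => ((ν g : ℂˣ) : ℂ)) ∈ {β : A → ℂ | IsIrrCharacter A β ∧ classInner (indFun N (fun _ => (1 : ℂ))) β ≠ 0} := by
    refine ⟨isIrr_of_hom ν, ?_⟩
    rw [frobenius N _ (isIrr_of_hom ν).isClassFunction]
    have : (fun n : N => ((ν n : ℂˣ) : ℂ)) = fun _ => 1 := by
      funext n
      rw [hν n n.2]
      rfl
    rw [this, classInner_irr_self hone]
    exact one_ne_zero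
  have hmem2 : (fun _ : A => (1 : ℂ)) ∈ {β : A → ℂ | IsIrrCharacter A β ∧ classInner (indFun N (fun _ => (1 : ℂ))) β ≠ 0} := by
    refine ⟨isIrrCharacter_one, ?_⟩
    rw [frobenius N _ (isIrrCharacter_one).isClassFunction, classInner_irr_self hone]
    exact one_ne_zero
  have h1 := hbij.injOn hmem1 hmem2 (by
    show (fun g => ((ν g : ℂˣ) : ℂ)) * ψ = (fun _ : A => (1 : ℂ)) * ψ
    rw [heq]
    funext g
    simp)
  ext g
  have h2 := congrFun h1 g
  simpa using h2

open scoped Classical in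
/-- Number of irreducible characters trivial on a subgroup is at most its index. -/
theorem card_trivial_on_le_index (I : Subgroup G) [Fintype I] :
    (Finset.univ.filter (fun ψ : IrrCharacter G => ∀ i ∈ I, (ψ : G → ℂ) i = 1)).card ≤ I.index := by
  classical
  have hτ : IsCharacter G (indFun I (fun _ => (1 : ℂ))) :=
    isCharacter_indFun I (isCharacter_one (G := I))
  have h1 := classFunction_apply hτ.isClassFunction 1
  rw [indFun_one] at h1
  have hc : ∀ ψ : IrrCharacter G, ∃ c : ℕ, classInner (indFun I (fun _ => (1 : ℂ))) (ψ : G → ℂ) = c :=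
    fun ψ => hτ.classInner_nat ψ.2
  choose c hc using hc
  have hd : ∀ ψ : IrrCharacter G, ∃ d : ℕ, 0 < d ∧ (ψ : G → ℂ) 1 = d := fun ψ => ψ.2.map_one
  choose d hd0 hd using hd
  have h2 : I.index = ∑ ψ : IrrCharacter G, c ψ * d ψ := by
    have : ((I.index : ℕ) : ℂ) = ((∑ ψ : IrrCharacter G, c ψ * d ψ : ℕ) : ℂ) := by
      push_cast
      rw [mul_one] at h1
      rw [h1]
      refine Finset.sum_congr rfl fun ψ _ => ?_
      rw [hc, hd]
    exact_mod_cast this
  rw [h2, Finset.card_eq_sum_ones]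
  calc ∑ ψ ∈ Finset.univ.filter (fun ψ : IrrCharacter G => ∀ i ∈ I, (ψ : G → ℂ) i = 1), 1
      ≤ ∑ ψ ∈ Finset.univ.filter (fun ψ : IrrCharacter G => ∀ i ∈ I, (ψ : G → ℂ) i = 1), c ψ * d ψ := by
        refine Finset.sum_le_sum fun ψ hψ => ?_
        have hψ' := (Finset.mem_filter.mp hψ).2
        have h3 : c ψ ≠ 0 := by
          intro h0
          have h4 := hc ψ
          rw [h0, frobenius I _ ψ.2.isClassFunction] at h4
          have h5 : (fun n : I => (ψ : G → ℂ) n) = fun _ => 1 := by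
            funext n
            exact hψ' n n.2
          rw [h5, classInner_irr_self isIrrCharacter_one] at h4
          simp at h4
        exact Nat.mul_pos (Nat.pos_of_ne_zero h3) (hd0 ψ)
    _ ≤ _ := Finset.sum_le_sum_of_subset_of_nonneg (Finset.filter_subset _ _) (fun _ _ _ => Nat.zero_le _)

/-- The counting core. -/
theorem linear_count_gen (N : Subgroup G) [hN : N.Normal] [Fintype N] (φ : IrrCharacter N)
    (I : Subgroup G) [Fintype I] (hI : ∀ g : G, g ∈ I ↔ conjOn N g φ = φ) (hNI : N ≤ I)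
    (ψ : IrrCharacter I) (hext : ∀ n : N, (ψ : I → ℂ) (Subgroup.inclusion hNI n) = (φ : N → ℂ) n)
    (hl : ∀ l : G →* ℂˣ, ∀ n ∈ N, l n = 1)
    (P Q : IrrCharacter G → Prop)
    (hPQ : ∀ (l : G →* ℂˣ), P ⟨fun g => ((l g : ℂˣ) : ℂ), isIrr_of_hom l⟩ →
      ∀ h, Q ⟨indFun I ((fun i : I => ((l i : ℂˣ) : ℂ)) * (ψ : I → ℂ)), h⟩) :
    Nat.card {χ : IrrCharacter G // charDegree (χ : G → ℂ) = 1 ∧ P χ} ≤
      I.index * Nat.card {χ : IrrCharacter G // charDegree (χ : G → ℂ) = charDegree (φ : N → ℂ) * I.index ∧ Q χ} := by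
  classical
  set Θ : (G →* ℂˣ) → I → ℂ := fun l => (fun i : I => ((l i : ℂˣ) : ℂ)) * (ψ : I → ℂ) with hΘ
  have hΘirr : ∀ l, IsIrrCharacter I (Θ l) := fun l => isIrr_hom_mul (l.comp I.subtype) ψ.2
  have hres : ∀ l, resTo N I hNI (Θ l) = φ := by
    intro l
    funext n
    show ((l n : ℂˣ) : ℂ) * (ψ : I → ℂ) ⟨n, hNI n.2⟩ = (φ : N → ℂ) n
    rw [hl l n n.2]
    have := hext n
    simp only [Units.val_one, one_mul]
    exact this
  have hc : ∀ l, classInner (resTo N I hNI (Θ l)) φ ≠ 0 := by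
    intro l
    rw [hres, classInner_irr_self φ.2]
    exact one_ne_zero
  have hind : ∀ l, IsIrrCharacter G (indFun I (Θ l)) := fun l =>
    (isIrr_indFun_of_inertia N I φ φ.2 hI hNI (hΘirr l) (hc l)).1
  have hψ1 : (ψ : I → ℂ) 1 = (φ : N → ℂ) 1 := by
    have := hext 1
    simpa using this
  have hdeg : ∀ l, charDegree (indFun I (Θ l)) = charDegree (φ : N → ℂ) * I.index := by
    intro l
    apply charDegree_eq
    rw [indFun_one]
    show (I.index : ℂ) * (((l (1 : I) : ℂˣ) : ℂ) * (ψ : I → ℂ) 1) = _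
    have h2 : (φ : N → ℂ) 1 = charDegree (φ : N → ℂ) := irr_one_eq_charDegree φ
    rw [hψ1, h2]
    simp
    ring
  -- choice of the homomorphism
  have hhom : ∀ χ : {χ : IrrCharacter G // charDegree (χ : G → ℂ) = 1 ∧ P χ},
      ∃ l : G →* ℂˣ, ((χ.1 : IrrCharacter G) : G → ℂ) = fun g => ((l g : ℂˣ) : ℂ) := by
    intro χ
    apply exists_hom_of_degree_one χ.1.2.isCharacter
    have h2 := irr_one_eq_charDegree χ.1
    rw [h2, χ.2.1]
    simp
  choose L hL using hhom
  have hPl : ∀ χ, P ⟨fun g => ((L χ g : ℂˣ) : ℂ), isIrr_of_hom (L χ)⟩ := by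
    intro χ
    have h3 := χ.2.2
    have h4 : χ.1 = ⟨fun g => ((L χ g : ℂˣ) : ℂ), isIrr_of_hom (L χ)⟩ := Subtype.ext (hL χ)
    rw [← h4]
    exact h3
  let F : {χ : IrrCharacter G // charDegree (χ : G → ℂ) = 1 ∧ P χ} →
      {χ : IrrCharacter G // charDegree (χ : G → ℂ) = charDegree (φ : N → ℂ) * I.index ∧ Q χ} :=
    fun χ => ⟨⟨indFun I (Θ (L χ)), hind _⟩, hdeg _, hPQ _ (hPl χ) _⟩
  -- the fibres
  have hfib : ∀ y ∈ (Finset.univ : Finset _).image F,
      (Finset.univ.filter (fun x => F x = y)).card ≤ I.index := by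
    intro y hy
    obtain ⟨x₀, -, rfl⟩ := Finset.mem_image.mp hy
    refine le_trans ?_ (card_trivial_on_le_index I)
    apply Finset.card_le_card_of_injOn
      (fun x => (⟨fun g => (((L x * (L x₀)⁻¹) g : ℂˣ) : ℂ), isIrr_of_hom _⟩ : IrrCharacter G))
    · intro x hx
      have hx' : F x = F x₀ := by simpa using hx
      have h1 : indFun I (Θ (L x)) = indFun I (Θ (L x₀)) := by
        have := congrArg (fun z => ((z.1 : IrrCharacter G) : G → ℂ)) hx'
        exact this
      have h2 : Θ (L x) = Θ (L x₀) :=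
        indFun_injective_of_inertia N I φ φ.2 hI hNI (hΘirr _) (hΘirr _) (hc _) (hc _) h1
      -- the quotient is trivial on `I`
      let ν : I →* ℂˣ := (L x * (L x₀)⁻¹).comp I.subtype
      have hνN : ∀ n ∈ N.subgroupOf I, ν n = 1 := by
        intro n hn
        show (L x * (L x₀)⁻¹) (n : G) = 1
        have hn' : ((n : I) : G) ∈ N := Subgroup.mem_subgroupOf.mp hn
        rw [MonoidHom.mul_apply, MonoidHom.inv_apply, hl _ _ hn', hl _ _ hn']
        simp
      letI : Fintype (N.subgroupOf I) := Fintype.ofFinite _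
      let e : N.subgroupOf I ≃* N := Subgroup.subgroupOfEquivOfLe hNI
      have hφ' : IsIrrCharacter (N.subgroupOf I) ((φ : N → ℂ) ∘ e) := isIrr_comp_equiv e φ.2
      have hext' : ∀ n : N.subgroupOf I, (ψ : I → ℂ) n = ((φ : N → ℂ) ∘ e) n := by
        intro n
        have := hext (e n)
        exact this
      have hν1 : ν = 1 := hom_eq_one_of_mul_eq (N.subgroupOf I) hφ' ψ.2 hext' ν hνN (by
        funext i
        have h3 := congrFun h2 i
        show (((L x * (L x₀)⁻¹) (i : G) : ℂˣ) : ℂ) * (ψ : I → ℂ) i = (ψ : I → ℂ) i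
        have h4 : ((L x (i : G) : ℂˣ) : ℂ) * (ψ : I → ℂ) i = ((L x₀ (i : G) : ℂˣ) : ℂ) * (ψ : I → ℂ) i := h3
        rw [MonoidHom.mul_apply, MonoidHom.inv_apply, Units.val_mul, mul_comm (((L x) (i : G) : ℂˣ) : ℂ), mul_assoc, h4,
          ← mul_assoc, ← Units.val_mul, inv_mul_cancel]
        simp)
      simp only [Finset.coe_filter, Finset.mem_univ, true_and, Set.mem_setOf_eq]
      intro i hi
      have h5 := congrArg (fun m : I →* ℂˣ => ((m ⟨i, hi⟩ : ℂˣ) : ℂ)) hν1
      exact h5
    · intro x hx x' hx' hxx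
      have h1 := congrArg (fun z : IrrCharacter G => (z : G → ℂ)) hxx
      have h2 : L x = L x' := by
        ext g
        have h3 := congrFun h1 g
        simp only [MonoidHom.mul_apply, MonoidHom.inv_apply, Units.val_mul] at h3
        exact mul_right_cancel₀ (Units.ne_zero _) h3
      apply Subtype.ext
      apply Subtype.ext
      rw [hL x, hL x', h2]
  have h1 := Finset.card_le_mul_card_image (Finset.univ : Finset {χ : IrrCharacter G // charDegree (χ : G → ℂ) = 1 ∧ P χ}) I.index hfib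
  rw [Nat.card_eq_fintype_card, Nat.card_eq_fintype_card]
  refine le_trans h1 (Nat.mul_le_mul_left _ ?_)
  exact Finset.card_le_univ _

end

end CfsgLib.Char
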