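import Mathlib
import Cfsg.Agent.Lib.Char.MinNormal

/-!
# The Frobenius–Schur indicator of a character induced from an inertia group.
-/

set_option linter.unusedSectionVars false
set_option linter.style.haveILetI false
set_option linter.unusedSimpArgs false
set_option linter.unusedVariables false

namespace CfsgLib.Char

open Module Cfsg Matrix
open scoped ComplexConjugate Kronecker

universe u

section

/-- Two matrix representations with zero "pairing" have vanishing mixed products. -/
theorem sum_trace_mul_eq_zero {N : Type*} [Group N] [Fintype N] {m : ℕ}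
    (B' B : N → Matrix (Fin m) (Fin m) ℂ)
    (h'mul : ∀ x y, B' (x * y) = B' x * B' y) (hmul : ∀ x y, B (x * y) = B x * B y)
    (hzero : ∑ n, Matrix.trace (B' n) * Matrix.trace (B n) = 0) (A : Matrix (Fin m) (Fin m) ℂ) :
    ∑ n, Matrix.trace (A * B' n * B n) = 0 := by
  classical
  let K : N → Matrix (Fin m × Fin m) (Fin m × Fin m) ℂ := fun n => B' n ⊗ₖ B n
  have hK : ∀ x y, K (x * y) = K x * K y := by
    intro x y
    simp only [K, h'mul, hmul]
    exact Matrix.mul_kronecker_mul _ _ _ _
  have hcard : (Nat.card N : ℂ) ≠ 0 := by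
    have : 0 < Nat.card N := Nat.card_pos
    exact_mod_cast this.ne'
  let E : Matrix (Fin m × Fin m) (Fin m × Fin m) ℂ := (Nat.card N : ℂ)⁻¹ • ∑ n, K n
  have hE : E * E = E := by
    have hKE : ∀ g, K g * E = E := by
      intro g
      simp only [E]
      rw [Matrix.mul_smul, Finset.mul_sum]
      congr 1
      simp only [← hK]
      exact Fintype.sum_equiv (Equiv.mulLeft g) _ _ fun x => rfl
    have h : E * E = (Nat.card N : ℂ)⁻¹ • ∑ g, (K g * E) := by
      nth_rewrite 1 [show E = (Nat.card N : ℂ)⁻¹ • ∑ n, K n from rfl]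
      rw [Matrix.smul_mul, Finset.sum_mul]
    rw [h]
    simp only [hKE]
    rw [Finset.sum_const, Finset.card_univ, ← Nat.card_eq_fintype_card, ← Nat.cast_smul_eq_nsmul ℂ, smul_smul,
      inv_mul_cancel₀ hcard, one_smul]
  have htr : Matrix.trace E = 0 := by
    simp only [E]
    rw [Matrix.trace_smul, Matrix.trace_sum]
    simp only [K, Matrix.trace_kronecker]
    rw [hzero, smul_zero]
  have hE0 : E = 0 := (idempotent_analysis E 1 hE (by simp) (by simp)).1 htr
  have hsum : ∑ n, K n = 0 := by
    have := congrArg (fun M => (Nat.card N : ℂ) • M) hE0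
    simpa [E, smul_smul, mul_inv_cancel₀ hcard] using this
  have hentry : ∀ j k i, ∑ n, B' n j k * B n k i = 0 := by
    intro j k i
    have h1 := congrFun (congrFun hsum (j, k)) (k, i)
    simpa [K, Matrix.sum_apply, Matrix.kroneckerMap_apply] using h1
  have h2 : ∀ n, Matrix.trace (A * B' n * B n) = ∑ i, ∑ j, ∑ k, A i j * (B' n j k * B n k i) := by
    intro n
    simp only [Matrix.trace, Matrix.diag_apply, Matrix.mul_apply, Finset.sum_mul]
    refine Finset.sum_congr rfl fun i _ => ?_
    rw [Finset.sum_comm]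
    refine Finset.sum_congr rfl fun j _ => ?_
    refine Finset.sum_congr rfl fun k _ => ?_
    ring
  simp only [h2]
  rw [Finset.sum_comm]
  refine Finset.sum_eq_zero fun i _ => ?_
  rw [Finset.sum_comm]
  refine Finset.sum_eq_zero fun j _ => ?_
  rw [Finset.sum_comm]
  refine Finset.sum_eq_zero fun k _ => ?_
  have := hentry j k i
  simp only [← Finset.mul_sum]
  rw [this, mul_zero]

variable {G : Type u} [Group G] [Fintype G]

/-- The coset sum vanishes outside the inertia group of a real irreducible character. -/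
theorem sum_sq_coset_eq_zero (N : Subgroup G) [hN : N.Normal] [Fintype N] (I : Subgroup G) [Fintype I]
    (hNI : N ≤ I) {φ : N → ℂ} (hφ : IsIrrCharacter N φ) (hreal : ∀ n, (φ n).im = 0)
    (hI : ∀ g, g ∉ I → conjOn N g φ ≠ φ) {θ : I → ℂ} (hθ : IsCharacter I θ)
    (hext : ∀ n : N, θ ⟨n, hNI n.2⟩ = φ n) (g : G) (hg : g ∉ I) :
    ∑ n : N, extendByZero I θ ((g * n) * (g * n)) = 0 := by
  classical
  have hexp : ∀ n : N, (g * n) * (g * n) = (g * g) * (g⁻¹ * n * g) * n := by
    intro n
    group
  have hconj : ∀ n : N, g⁻¹ * n * g ∈ N := by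
    intro n
    have := hN.conj_mem n n.2 g⁻¹
    simpa using this
  by_cases hgg : g * g ∈ I
  · -- main case
    obtain ⟨m, ρ, rfl⟩ := hθ
    let M := matA ρ
    let B' : N → Matrix (Fin m) (Fin m) ℂ := fun n => M ⟨g⁻¹ * n * g, hNI (hconj n)⟩
    let B : N → Matrix (Fin m) (Fin m) ℂ := fun n => M ⟨n, hNI n.2⟩
    have h'mul : ∀ x y, B' (x * y) = B' x * B' y := by
      intro x y
      simp only [B', M]
      rw [← matA_mul]
      congr 1
      apply Subtype.ext
      simp only [Subgroup.coe_mul]
      group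
    have hmul : ∀ x y, B (x * y) = B x * B y := by
      intro x y
      simp only [B, M]
      rw [← matA_mul]
      congr 1
    have hzero : ∑ n, Matrix.trace (B' n) * Matrix.trace (B n) = 0 := by
      have hne : conjOn N g⁻¹ φ ≠ φ := hI g⁻¹ (fun h => hg (by simpa using I.inv_mem h))
      have h1 := classInner_irr_ne (isIrr_conjOn N g⁻¹ hφ) hφ hne
      rw [classInner_def] at h1
      have hc : (Nat.card N : ℂ)⁻¹ ≠ 0 := inv_ne_zero (card_subgroup_ne_zero N)
      have h2 := (mul_eq_zero.mp h1).resolve_left hc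
      rw [← h2]
      refine Finset.sum_congr rfl fun n _ => ?_
      simp only [B', B, M, trace_matA]
      have h3 := hext n
      have h4 := hext ⟨g⁻¹ * n * g, hconj n⟩
      rw [h3, conjOn_apply]
      have h5 : conj (φ n) = φ n := Complex.conj_eq_iff_im.mpr (hreal n)
      rw [h5]
      congr 1
      refine Eq.trans h4 (congrArg φ (Subtype.ext ?_))
      simp
    have h1 := sum_trace_mul_eq_zero B' B h'mul hmul hzero (M ⟨g * g, hgg⟩)
    rw [← h1]
    refine Finset.sum_congr rfl fun n _ => ?_
    have hmem : (g * n) * (g * n) ∈ I := by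
      rw [hexp]
      exact I.mul_mem (I.mul_mem hgg (hNI (hconj n))) (hNI n.2)
    rw [extendByZero_of_mem I _ hmem]
    simp only [B', B, M]
    rw [← matA_mul, ← matA_mul, trace_matA]
    congr 1
    apply Subtype.ext
    simp only [Subgroup.coe_mul]
    group
  · refine Finset.sum_eq_zero fun n _ => ?_
    apply extendByZero_of_not_mem
    intro hmem
    apply hgg
    rw [hexp] at hmem
    have h1 := I.mul_mem hmem (I.inv_mem (hNI n.2))
    have h2 := I.mul_mem h1 (I.inv_mem (hNI (hconj n)))
    have h6 : g * g * (g⁻¹ * n * g) * n * (n : G)⁻¹ * (g⁻¹ * n * g)⁻¹ = g * g := by group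
    rwa [h6] at h2

/-- `ν(Ind θ) = ν(θ)` when `θ` lies over a real irreducible character `φ` of a normal subgroup
with inertia group the domain of `θ`. -/
theorem indicator_indFun (N : Subgroup G) [hN : N.Normal] [Fintype N] (I : Subgroup G) [Fintype I]
    (hNI : N ≤ I) {φ : N → ℂ} (hφ : IsIrrCharacter N φ) (hreal : ∀ n, (φ n).im = 0)
    (hI : ∀ g, g ∉ I → conjOn N g φ ≠ φ) {θ : I → ℂ} (hθ : IsCharacter I θ)
    (hext : ∀ n : N, θ ⟨n, hNI n.2⟩ = φ n) :
    (Nat.card G : ℂ)⁻¹ * ∑ g : G, indFun I θ (g * g) = (Nat.card I : ℂ)⁻¹ * ∑ i : I, θ (i * i) := by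
  classical
  set E : G → ℂ := extendByZero I θ with hE
  have hG0 : (Nat.card G : ℂ) ≠ 0 := by
    have : 0 < Nat.card G := Nat.card_pos
    exact_mod_cast this.ne'
  have hI0 : (Nat.card I : ℂ) ≠ 0 := card_subgroup_ne_zero I
  have hN0 : (Nat.card N : ℂ) ≠ 0 := card_subgroup_ne_zero N
  -- removing the conjugation
  have h1 : ∑ g : G, indFun I θ (g * g) = (Nat.card I : ℂ)⁻¹ * ((Nat.card G : ℂ) * ∑ g : G, E (g * g)) := by
    simp only [indFun_def]
    rw [← Finset.mul_sum, Finset.sum_comm]
    congr 1
    have h2 : ∀ x : G, ∑ g : G, extendByZero I θ (x⁻¹ * (g * g) * x) = ∑ g : G, E (g * g) := by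
      intro x
      refine Fintype.sum_equiv (MulAut.conj x⁻¹).toEquiv _ _ fun g => ?_
      simp only [MulEquiv.toEquiv_eq_coe, MulEquiv.coe_toEquiv, MulAut.conj_apply, hE]
      congr 1
      group
    simp only [h2, Finset.sum_const, Finset.card_univ, nsmul_eq_mul]
    rw [Nat.card_eq_fintype_card]
  -- the part outside `I` vanishes
  let f : G → ℂ := fun g => if g ∈ I then 0 else E (g * g)
  have hf0 : ∑ g : G, f g = 0 := by
    have h2 : ∀ n : N, ∑ g : G, f g = ∑ g : G, f (g * n) := by
      intro n
      exact (Fintype.sum_equiv (Equiv.mulRight (n : G)) _ _ fun g => rfl).symm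
    have h3 : (Nat.card N : ℂ) * ∑ g : G, f g = ∑ n : N, ∑ g : G, f (g * n) := by
      simp only [← h2, Finset.sum_const, Finset.card_univ, nsmul_eq_mul]
      rw [Nat.card_eq_fintype_card]
    have h4 : ∑ n : N, ∑ g : G, f (g * n) = 0 := by
      rw [Finset.sum_comm]
      refine Finset.sum_eq_zero fun g _ => ?_
      by_cases hg : g ∈ I
      · refine Finset.sum_eq_zero fun n _ => ?_
        simp only [f]
        rw [if_pos (I.mul_mem hg (hNI n.2))]
      · have h5 : ∀ n : N, f (g * n) = E ((g * n) * (g * n)) := by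
          intro n
          simp only [f]
          rw [if_neg]
          intro h
          apply hg
          have := I.mul_mem h (I.inv_mem (hNI n.2))
          simpa using this
        simp only [h5]
        exact sum_sq_coset_eq_zero N I hNI hφ hreal hI hθ hext g hg
    rw [h4] at h3
    exact (mul_eq_zero.mp h3).resolve_left hN0
  have h2 : ∑ g : G, E (g * g) = ∑ i : I, θ (i * i) := by
    have h3 : ∀ g, E (g * g) = (if g ∈ I then E (g * g) else 0) + f g := by
      intro g
      simp only [f]
      split_ifs <;> simp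
    rw [Finset.sum_congr rfl fun g _ => h3 g, Finset.sum_add_distrib, hf0, add_zero]
    rw [sum_eq_sum_subgroup I (fun g => if g ∈ I then E (g * g) else 0) (fun g hg => if_neg hg)]
    refine Finset.sum_congr rfl fun i _ => ?_
    simp only [i.2, if_true]
    rw [hE]
    have := extendByZero_coe I θ (i * i)
    simpa using this
  rw [h1, h2]
  field_simp

end

end CfsgLib.Char
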