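import Mathlib
import Cfsg.Agent.Lib.Char.IndFS

/-!
# Irreducible products of characters: the commutant identity, and the Fitting subgroup.
-/

set_option linter.unusedSectionVars false
set_option linter.style.haveILetI false
set_option linter.unusedSimpArgs false
set_option linter.unusedVariables false

namespace CfsgLib.Char

open Module Cfsg Matrix
open scoped ComplexConjugate Kronecker

universe u

section

variable {G : Type u} [Group G] [Fintype G]

/-- Operators commuting with a representation of irreducible character are scalars. -/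
theorem commuting_scalar_of_irr_character {V : Type*} [AddCommGroup V] [Module ℂ V] [FiniteDimensional ℂ V]
    (τ : Representation ℂ G V) (hψ : IsIrrCharacter G τ.character) (T : V →ₗ[ℂ] V)
    (hT : ∀ g v, T (τ g v) = τ g (T v)) : ∃ c : ℂ, T = c • LinearMap.id := by
  classical
  obtain ⟨m, σ, hσ, hc⟩ := hψ
  haveI := hσ
  obtain ⟨e⟩ := equiv_of_character_eq _ V (Fin m → ℂ) τ σ rfl hc.symm
  obtain ⟨E, hE⟩ : ∃ E : V ≃ₗ[ℂ] (Fin m → ℂ), ∀ g v, E (τ g v) = σ g (E v) :=
    ⟨e.toLinearEquiv, fun g v => LinearMap.congr_fun (e.isIntertwining' g) v⟩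
  have hE' : ∀ g v, E.symm (σ g v) = τ g (E.symm v) := by
    intro g v
    apply E.injective
    rw [hE, LinearEquiv.apply_symm_apply, LinearEquiv.apply_symm_apply]
  obtain ⟨c, hc'⟩ := schur_scalar σ (E.toLinearMap ∘ₗ T ∘ₗ E.symm.toLinearMap)
    (fun g v => by
      simp only [LinearMap.comp_apply, LinearEquiv.coe_coe]
      rw [hE', hT, hE])
  refine ⟨c, ?_⟩
  apply LinearMap.ext
  intro v
  have h1 := LinearMap.congr_fun hc' (E v)
  simp only [LinearMap.comp_apply, LinearEquiv.coe_coe, LinearEquiv.symm_apply_apply, LinearMap.smul_apply,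
    LinearMap.id_coe, id_eq] at h1
  apply E.injective
  rw [h1]
  simp

/-- The commutant identity for a product of two characters which is irreducible. -/
theorem tensor_identity {χ χ' : G → ℂ} (hχ : IsCharacter G χ) (hχ' : IsCharacter G χ')
    (hirr : IsIrrCharacter G (fun g => χ g * χ' g)) (N : Subgroup G) [hN : N.Normal] [Fintype N]
    (s : G → G) (hs : ∀ g v, s (g * v * g⁻¹) = g * s v * g⁻¹) :
    ∃ c : ℂ, ∀ x y, ∑ v : N, χ (v * x) * χ' (s v * y) = c * (χ x * χ' y) := by
  classical
  obtain ⟨n, ρ, rfl⟩ := hχ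
  obtain ⟨n', ρ', rfl⟩ := hχ'
  let A := matA ρ
  let A' := matA ρ'
  let Kr : G → G → Matrix (Fin n × Fin n') (Fin n × Fin n') ℂ := fun x y => A x ⊗ₖ A' y
  have hKr : ∀ x y x' y', Kr x y * Kr x' y' = Kr (x * x') (y * y') := by
    intro x y x' y'
    simp only [Kr, A, A', matA_mul]
    exact (Matrix.mul_kronecker_mul _ _ _ _).symm
  have hKr1 : Kr 1 1 = 1 := by
    simp only [Kr, A, A', matA_one]
    exact Matrix.one_kronecker_one
  have hKrtr : ∀ x y, Matrix.trace (Kr x y) = ρ.character x * ρ'.character y := by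
    intro x y
    simp only [Kr, A, A', Matrix.trace_kronecker, trace_matA]
  let τ : Representation ℂ G (Fin n × Fin n' → ℂ) :=
    { toFun := fun g => Matrix.toLin' (Kr g g)
      map_one' := by rw [hKr1]; exact Matrix.toLin'_one
      map_mul' := fun x y => by
        rw [← hKr, Matrix.toLin'_mul]
        rfl }
  have hτ : τ.character = fun g => ρ.character g * ρ'.character g := by
    funext g
    show LinearMap.trace ℂ _ (Matrix.toLin' (Kr g g)) = _
    rw [Matrix.trace_toLin'_eq, hKrtr]
  let T : Matrix (Fin n × Fin n') (Fin n × Fin n') ℂ := ∑ v : N, Kr v (s v)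
  have hcomm : ∀ g, Kr g g * T = T * Kr g g := by
    intro g
    simp only [T]
    rw [Finset.mul_sum, Finset.sum_mul]
    refine Fintype.sum_equiv (conjNormalEquiv N g).toEquiv _ _ fun v => ?_
    have h1 : (((conjNormalEquiv N g).toEquiv v : N) : G) = g * v * g⁻¹ := rfl
    rw [h1, hs, hKr, hKr]
    congr 1 <;> group
  obtain ⟨c, hc⟩ := commuting_scalar_of_irr_character τ (by rw [hτ]; exact hirr) (Matrix.toLin' T) (by
    intro g v
    show Matrix.toLin' T (Matrix.toLin' (Kr g g) v) = Matrix.toLin' (Kr g g) (Matrix.toLin' T v)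
    simp only [Matrix.toLin'_apply, Matrix.mulVec_mulVec, hcomm])
  have hT : T = c • (1 : Matrix (Fin n × Fin n') (Fin n × Fin n') ℂ) := by
    apply Matrix.toLin'.injective
    rw [hc, map_smul, Matrix.toLin'_one]
  refine ⟨c, fun x y => ?_⟩
  have h1 : Matrix.trace (T * Kr x y) = ∑ v : N, ρ.character (v * x) * ρ'.character (s v * y) := by
    simp only [T]
    rw [Finset.sum_mul, Matrix.trace_sum]
    refine Finset.sum_congr rfl fun v _ => ?_
    rw [hKr, hKrtr]
  rw [← h1, hT, Matrix.smul_mul, one_mul, Matrix.trace_smul, hKrtr, smul_eq_mul]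

/-- A faithful irreducible character of full absolute value forces centrality. -/
theorem mem_center_of_norm_eq {χ : G → ℂ} (hχ : IsIrrCharacter G χ) (hfaith : ∀ g, χ g = χ 1 → g = 1)
    {u : G} (hu : ‖χ u‖ = ‖χ 1‖) : u ∈ Subgroup.center G := by
  classical
  obtain ⟨n, ρ, hρ, rfl⟩ := hχ
  have h1 : ρ.character (1 : G) = (finrank ℂ (Fin n → ℂ) : ℂ) := by
    show LinearMap.trace ℂ _ (ρ 1) = _
    rw [map_one]
    exact LinearMap.trace_one ..
  have h2 : ‖ρ.character u‖ = (finrank ℂ (Fin n → ℂ) : ℝ) := by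
    rw [hu, h1]
    simp
  obtain ⟨ω, hω⟩ := (norm_character_eq_iff ρ u).mp h2
  rw [Subgroup.mem_center_iff]
  intro g
  have h3 : ρ (g * u) = ρ (u * g) := by
    rw [map_mul, map_mul, hω]
    apply LinearMap.ext
    intro v
    simp
  have h4 : ρ (g * u * (u * g)⁻¹) = 1 := by
    rw [map_mul, h3, ← map_mul, mul_inv_cancel, map_one]
  have h5 : ρ.character (g * u * (u * g)⁻¹) = ρ.character 1 := by
    show LinearMap.trace ℂ _ (ρ _) = LinearMap.trace ℂ _ (ρ 1)
    rw [h4, (map_one ρ : ρ 1 = 1)]
  have h6 := hfaith _ h5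
  exact mul_inv_eq_one.mp h6

/-- **Fitting = centre** for a faithful character with irreducible twisted square. -/
theorem fitting_eq_center_of_irr_twist (χ : IrrCharacter G) (hfaith : ∀ g : G, (χ : G → ℂ) g = (χ : G → ℂ) 1 → g = 1)
    (k : ℕ) (hk : Nat.Coprime k (Nat.card G))
    (hirr : IsIrrCharacter G (fun g => (χ : G → ℂ) g * (χ : G → ℂ) (g ^ k))) :
    fittingSubgroup G = Subgroup.center G := by
  classical
  obtain ⟨χ, hχ⟩ := χ
  have hχ' : IsIrrCharacter G (fun g => χ (g ^ k)) := powFun_isIrr hχ hk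
  -- the inverse power
  obtain ⟨m, hm⟩ : ∃ m : ℕ, ∀ z : G, (z ^ m) ^ k = z⁻¹ := by
    obtain ⟨a, b, hab⟩ : ∃ a b : ℕ, a * k = b * Nat.card G + (Nat.card G - 1) := by
      have hc : Nat.Coprime (Nat.card G) k := hk.symm
      by_cases h1 : Nat.card G = 1
      · exact ⟨0, 0, by simp only [zero_mul, h1]; rfl⟩
      have h2 : 1 < Nat.card G := by
        have : 0 < Nat.card G := Nat.card_pos
        omega
      obtain ⟨t, -, ht⟩ := Nat.exists_mul_mod_eq_one_of_coprime hk h2
      refine ⟨t * (Nat.card G - 1), (k * t / Nat.card G) * (Nat.card G - 1), ?_⟩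
      have h3 : k * t = (k * t / Nat.card G) * Nat.card G + 1 := by
        have := Nat.div_add_mod (k * t) (Nat.card G)
        rw [ht] at this
        rw [mul_comm (k * t / Nat.card G)]
        exact this.symm
      calc t * (Nat.card G - 1) * k = (k * t) * (Nat.card G - 1) := by ring
        _ = ((k * t / Nat.card G) * Nat.card G + 1) * (Nat.card G - 1) := by rw [← h3]
        _ = _ := by ring
    refine ⟨a, fun z => ?_⟩
    rw [← pow_mul, hab, pow_add, pow_mul' z, pow_card_eq_one', one_pow, one_mul]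
    have h1 : 0 < Nat.card G := Nat.card_pos
    apply eq_inv_of_mul_eq_one_left
    rw [← pow_succ, Nat.sub_add_cancel h1, pow_card_eq_one']
  have hval : ∀ z : G, χ ((z ^ m) ^ k) = conj (χ z) := by
    intro z
    rw [hm]
    exact hχ.map_inv z
  have hs : ∀ g v : G, (g * v * g⁻¹) ^ m = g * v ^ m * g⁻¹ := fun g v => conj_pow
  have hone : χ 1 ≠ 0 := hχ.map_one_ne_zero
  have hn1 : 0 < ‖χ 1‖ := norm_pos_iff.mpr hone
  -- abelian normal subgroups are central
  have hab : ∀ (N : Subgroup G) [hN : N.Normal], (∀ a ∈ N, ∀ b ∈ N, a * b = b * a) → N ≤ Subgroup.center G := by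
    intro N hN hcomm u hu
    letI : Fintype N := Fintype.ofFinite _
    obtain ⟨c, hc⟩ := tensor_identity hχ.isCharacter hχ'.isCharacter hirr N (fun v => v ^ m) hs
    set S : ℂ := ∑ v : N, χ v * conj (χ v) with hS
    have hS' : S = ((∑ v : N, ‖χ v‖ ^ 2 : ℝ) : ℂ) := by
      rw [hS]
      push_cast
      refine Finset.sum_congr rfl fun v _ => ?_
      rw [Complex.mul_conj']
    have hSpos : (0 : ℝ) < ∑ v : N, ‖χ v‖ ^ 2 := by
      apply Finset.sum_pos' (fun v _ => by positivity)
      refine ⟨1, Finset.mem_univ _, ?_⟩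
      have : 0 < ‖χ ((1 : N) : G)‖ := by simpa using hn1
      positivity
    have hS0 : S ≠ 0 := by
      rw [hS']
      exact_mod_cast hSpos.ne'
    have key : ∀ w : N, S = c * ((‖χ w‖ ^ 2 : ℝ) : ℂ) := by
      intro w
      have h1 := hc w ((w : G) ^ m)
      have h2 : ∑ v : N, χ (v * w) * χ (((v : G) ^ m * (w : G) ^ m) ^ k) = S := by
        rw [hS]
        refine Fintype.sum_equiv (Equiv.mulRight w) _ _ fun v => ?_
        simp only [Equiv.coe_mulRight, Subgroup.coe_mul]
        have h3 : Commute (v : G) (w : G) := hcomm _ v.2 _ w.2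
        rw [← h3.mul_pow, hval]
      refine h2.symm.trans (h1.trans ?_)
      rw [hval]
      congr 1
      push_cast
      rw [Complex.mul_conj']
    have h1 := key ⟨u, hu⟩
    have h2 := key 1
    have hc0 : c ≠ 0 := by
      intro h
      rw [h, zero_mul] at h2
      exact hS0 h2
    have h3 : ((‖χ u‖ ^ 2 : ℝ) : ℂ) = ((‖χ 1‖ ^ 2 : ℝ) : ℂ) := by
      have h4 := h1.symm.trans h2
      have h5 := mul_left_cancel₀ hc0 h4
      simpa using h5
    have h4 : ‖χ u‖ ^ 2 = ‖χ 1‖ ^ 2 := by exact_mod_cast h3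
    have h5 : ‖χ u‖ = ‖χ 1‖ := by
      have h6 := (sq_eq_sq₀ (norm_nonneg _) (norm_nonneg _)).mp h4
      exact h6
    exact mem_center_of_norm_eq hχ hfaith h5
  -- the Fitting subgroup
  set F := fittingSubgroup G with hF
  haveI hFn : F.Normal := CfsgLib.Solv.fittingSubgroup_normal'
  haveI hFnil : Group.IsNilpotent F := CfsgLib.Solv.fitting_nilpotent
  let A : Subgroup G := F ⊓ Subgroup.centralizer (F : Set G)
  haveI hAn : A.Normal := by
    haveI : (Subgroup.centralizer (F : Set G)).Normal := inferInstance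
    exact inferInstance
  have hAcent : A ≤ Subgroup.center G := hab A (by
    intro a ha b hb
    exact ((Subgroup.mem_centralizer_iff.mp ha.2) b (hb.1)).symm)
  let F' : Subgroup (G ⧸ A) := F.map (QuotientGroup.mk' A)
  haveI hF'n : F'.Normal := hFn.map _ (QuotientGroup.mk'_surjective A)
  let N : Subgroup G := F ⊓ (Subgroup.centralizer (F' : Set (G ⧸ A))).comap (QuotientGroup.mk' A)
  haveI hNn : N.Normal := by
    haveI : (Subgroup.centralizer (F' : Set (G ⧸ A))).Normal := inferInstance
    haveI : ((Subgroup.centralizer (F' : Set (G ⧸ A))).comap (QuotientGroup.mk' A)).Normal := inferInstance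
    exact inferInstance
  have hvanish : ∀ u ∈ N, u ∉ A → χ u = 0 := by
    intro u hu huA
    have hnot : u ∉ Subgroup.centralizer (F : Set G) := fun h => huA ⟨hu.1, h⟩
    rw [Subgroup.mem_centralizer_iff] at hnot
    push Not at hnot
    obtain ⟨t, ht, htu⟩ := hnot
    let c : G := t * u * t⁻¹ * u⁻¹
    have hcA : c ∈ A := by
      rw [← QuotientGroup.eq_one_iff]
      have h1 : (QuotientGroup.mk t : G ⧸ A) ∈ F' := ⟨t, ht, rfl⟩
      have h2 : (QuotientGroup.mk u : G ⧸ A) ∈ Subgroup.centralizer (F' : Set (G ⧸ A)) := hu.2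
      have h3 := (Subgroup.mem_centralizer_iff.mp h2) _ h1
      simp only [c, QuotientGroup.mk_mul, QuotientGroup.mk_inv]
      rw [h3]
      group
    have hc1 : c ≠ 1 := by
      intro h
      apply htu
      have h2 : t * u * t⁻¹ * u⁻¹ = 1 := h
      have h3 : t * u * t⁻¹ = u := by
        rw [mul_inv_eq_one] at h2
        exact h2
      rw [mul_inv_eq_iff_eq_mul] at h3
      exact h3
    have h1 : χ u = χ (c * u) := by
      have h2 : c * u = t * u * t⁻¹ := by
        simp only [c]
        group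
      rw [h2]
      exact (hχ.isClassFunction u t).symm
    have h2 := central_mul hχ (hAcent hcA) u
    rw [← h1] at h2
    have h3 : χ u * (χ 1 - χ c) = 0 := by
      rw [mul_sub, h2]
      ring
    rcases mul_eq_zero.mp h3 with h | h
    · exact h
    · exact absurd (hfaith c (sub_eq_zero.mp h).symm) hc1
  have hNA : N ≤ A := by
    intro w hwN
    by_contra hwA
    letI : Fintype N := Fintype.ofFinite _
    obtain ⟨c, hc⟩ := tensor_identity hχ.isCharacter hχ'.isCharacter hirr N (fun v => v ^ m) hs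
    have h1 := hc w⁻¹ ((w ^ m)⁻¹)
    have h2 : χ w⁻¹ = 0 := hvanish _ (N.inv_mem hwN) (fun h => hwA (by simpa using A.inv_mem h))
    rw [h2, zero_mul, mul_zero] at h1
    have h3 : ∑ v : N, χ (v * w⁻¹) * χ (((v : G) ^ m * (w ^ m)⁻¹) ^ k) =
        ((∑ z : N, ‖χ z‖ ^ 2 : ℝ) : ℂ) := by
      push_cast
      refine Fintype.sum_equiv (Equiv.mulRight (⟨w, hwN⟩ : N)⁻¹) _ _ fun v => ?_
      simp only [Equiv.coe_mulRight, Subgroup.coe_mul, Subgroup.coe_inv]
      by_cases hzA : (v : G) * w⁻¹ ∈ A
      · have hz := hAcent hzA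
        set z : G := (v : G) * w⁻¹ with hzdef
        have hv : (v : G) = z * w := by simp [hzdef]
        have hcomm : Commute z w := (Subgroup.mem_center_iff.mp hz w).symm
        have h4 : (v : G) ^ m * (w ^ m)⁻¹ = z ^ m := by
          rw [hv, hcomm.mul_pow]
          group
        rw [h4, hval, Complex.mul_conj']
      · rw [hvanish _ (N.mul_mem v.2 (N.inv_mem hwN)) hzA]
        simp
    rw [h3] at h1
    have h5 : (0 : ℝ) < ∑ z : N, ‖χ z‖ ^ 2 := by
      apply Finset.sum_pos' (fun v _ => by positivity)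
      refine ⟨1, Finset.mem_univ _, ?_⟩
      have : 0 < ‖χ ((1 : N) : G)‖ := by simpa using hn1
      positivity
    have h6 : ((∑ z : N, ‖χ z‖ ^ 2 : ℝ) : ℂ) ≠ 0 := by exact_mod_cast h5.ne'
    exact h6 h1
  -- nilpotency finishes
  have hFA : F ≤ A := by
    by_contra hne
    have hF'ne : (⊤ : Subgroup F') ≠ ⊥ := by
      intro h
      apply hne
      intro f hf
      have h1 : (⟨QuotientGroup.mk f, ⟨f, hf, rfl⟩⟩ : F') ∈ (⊥ : Subgroup F') := by
        rw [← h]
        exact Subgroup.mem_top _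
      rw [Subgroup.mem_bot] at h1
      have h2 : (QuotientGroup.mk f : G ⧸ A) = 1 := congrArg Subtype.val h1
      exact (QuotientGroup.eq_one_iff f).mp h2
    letI : Fintype F' := Fintype.ofFinite _
    haveI hF'nil : Group.IsNilpotent F' :=
      Group.nilpotent_of_surjective ((QuotientGroup.mk' A).subgroupMap F) ((QuotientGroup.mk' A).subgroupMap_surjective F)
    obtain ⟨z, -, hz1, hzc⟩ := exists_central_of_normal (⊤ : Subgroup F') hF'ne
    obtain ⟨⟨u, huF, hu⟩, hzu⟩ : ∃ p : {u : G // u ∈ F ∧ (QuotientGroup.mk' A) u = (z : G ⧸ A)}, True := by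
      obtain ⟨u, huF, hu⟩ := z.2
      exact ⟨⟨u, huF, hu⟩, trivial⟩
    have huN : u ∈ N := by
      refine ⟨huF, ?_⟩
      show QuotientGroup.mk' A u ∈ Subgroup.centralizer (F' : Set (G ⧸ A))
      rw [hu, Subgroup.mem_centralizer_iff]
      intro y hy
      have h1 := (Subgroup.mem_center_iff.mp hzc) ⟨y, hy⟩
      exact congrArg Subtype.val h1
    have huA := hNA huN
    apply hz1
    apply Subtype.ext
    show (z : G ⧸ A) = 1
    rw [← hu]
    exact (QuotientGroup.eq_one_iff u).mpr huA
  apply le_antisymm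
  · exact hFA.trans hAcent
  · apply CfsgLib.Solv.le_fittingSubgroup'
    letI : CommGroup (Subgroup.center G) :=
      { (inferInstance : Group (Subgroup.center G)) with
        mul_comm := fun a b => Subtype.ext ((Subgroup.mem_center_iff.mp a.2) b).symm }
    exact CommGroup.isNilpotent

end

end CfsgLib.Char
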