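import Mathlib
import Cfsg.Agent.Lib.Block.Infl2
import Cfsg.Agent.Lib.Block.Rank
import Cfsg.Agent.Lib.Char.TensorIrr

/-!
# The principal block: Galois stability, and the quotient by `O_{p'}(G)`.
-/

set_option linter.unusedSectionVars false
set_option linter.style.haveILetI false
set_option linter.unusedSimpArgs false
set_option linter.unusedVariables false

namespace CfsgLib.Char

open Module Cfsg
open CfsgLib.Block
open scoped ComplexConjugate

universe u

section

variable {G : Type u} [Group G] [Fintype G]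

theorem centralizer_pow_eq {s : ℕ} (hs : s.Coprime (Nat.card G)) (g : G) :
    Subgroup.centralizer ({g ^ s} : Set G) = Subgroup.centralizer ({g} : Set G) := by
  ext x
  rw [Subgroup.mem_centralizer_singleton_iff, Subgroup.mem_centralizer_singleton_iff]
  constructor
  · intro h
    have h1 : g ^ s ∈ Subgroup.centralizer ({x} : Set G) := by
      rw [Subgroup.mem_centralizer_singleton_iff]
      exact h.symm
    have h2 := mem_of_pow_mem_coprime (Subgroup.centralizer ({x} : Set G)) hs h1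
    rw [Subgroup.mem_centralizer_singleton_iff] at h2
    exact h2.symm
  · intro h
    have hc : Commute x g := h
    exact (hc.pow_right s)

theorem centralChar_powFun {s : ℕ} (hs : s.Coprime (Nat.card G)) (χ : G → ℂ) (g : G) :
    centralChar (fun g => χ (g ^ s)) g = centralChar χ (g ^ s) := by
  rw [centralChar, centralChar, centralizer_pow_eq hs g]
  simp

/-- The Galois action on the irreducible characters. -/
noncomputable def powIrr {s : ℕ} (hs : s.Coprime (Nat.card G)) (χ : IrrCharacter G) : IrrCharacter G :=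
  ⟨fun g => (χ : G → ℂ) (g ^ s), powFun_isIrr χ.2 hs⟩

theorem powIrr_mem_principal {M : Ideal AlgInt} {s : ℕ} (hs : s.Coprime (Nat.card G)) {χ : IrrCharacter G}
    (h : χ ∈ principalBlock M G) : powIrr hs χ ∈ principalBlock M G := by
  intro g
  have h1 := h (g ^ s)
  have h2 := centralChar_powFun hs (fun _ : G => (1 : ℂ)) g
  have h3 := centralChar_powFun hs (χ : G → ℂ) g
  show MemLocalIdeal M (centralChar (fun _ : G => (1 : ℂ)) g - centralChar (fun g => (χ : G → ℂ) (g ^ s)) g)
  rw [h3, h2]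
  exact h1

/-- The sum of `|χ(x)|²` over the principal block is a positive integer. -/
theorem principal_norm_sum_nat {p : ℕ} [hp : Fact p.Prime] {M : Ideal AlgInt} (hM : IsPModular p M) (x : G) :
    ∃ n : ℕ, 0 < n ∧ ∑ᶠ χ ∈ principalBlock M G, Complex.normSq ((χ : G → ℂ) x) = n := by
  classical
  set B := principalBlock M G with hB
  set T : Finset (IrrCharacter G) := Finset.univ.filter (· ∈ B) with hT
  have hfin : ∑ᶠ χ ∈ B, Complex.normSq ((χ : G → ℂ) x) = ∑ χ ∈ T, Complex.normSq ((χ : G → ℂ) x) := by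
    rw [finsum_mem_eq_finite_toFinset_sum _ (Set.toFinite B)]
    congr 1
    ext; simp [hT]
  rw [hfin]
  -- the value in the cyclotomic field
  have hval : ∀ (y : G) (χ : IrrCharacter G), ∃ a : CF (Nat.card G), cfEmb _ a = (χ : G → ℂ) y ∧
      ∀ (σ : CF (Nat.card G) ≃ₐ[ℚ] CF (Nat.card G)) (m : ℕ),
        (∀ w : CF (Nat.card G), w ^ Nat.card G = 1 → σ w = w ^ m) → cfEmb _ (σ a) = (χ : G → ℂ) (y ^ m) :=
    fun y χ => exists_cf_value χ.2.isCharacter y
  choose a ha1 ha2 using hval
  obtain ⟨Y, hYdef⟩ : ∃ Y : CF (Nat.card G), Y = ∑ χ ∈ T, a x χ * a x⁻¹ χ := ⟨_, rfl⟩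
  have hY : cfEmb _ Y = ∑ χ ∈ T, (χ : G → ℂ) x * (χ : G → ℂ) x⁻¹ := by
    simp only [hYdef, map_sum, map_mul, ha1]
  have hfix : ∀ σ : CF (Nat.card G) ≃ₐ[ℚ] CF (Nat.card G), σ Y = Y := by
    intro σ
    obtain ⟨m, hm, hσ⟩ := cf_sigma' _ σ
    apply cfEmb_injective
    rw [hY]
    simp only [hYdef, map_sum, map_mul]
    have h1 : ∀ χ ∈ T, cfEmb _ (σ (a x χ)) * cfEmb _ (σ (a x⁻¹ χ)) =
        (powIrr hm χ : G → ℂ) x * (powIrr hm χ : G → ℂ) x⁻¹ := by
      intro χ _
      rw [ha2 x χ σ m hσ, ha2 x⁻¹ χ σ m hσ]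
      rfl
    rw [Finset.sum_congr rfl h1]
    -- `powIrr` permutes `T`
    have hmaps : ∀ χ ∈ T, powIrr hm χ ∈ T := by
      intro χ hχ
      simp only [hT, Finset.mem_filter, Finset.mem_univ, true_and] at hχ ⊢
      exact powIrr_mem_principal hm hχ
    have hinj : Set.InjOn (powIrr hm) (T : Set (IrrCharacter G)) := by
      intro χ _ χ' _ h
      apply Subtype.ext
      funext g
      obtain ⟨g', rfl⟩ := (powCoprime hm.symm).surjective g
      exact congrFun (congrArg Subtype.val h) g'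
    have himg : T.image (powIrr hm) = T := by
      apply Finset.eq_of_subset_of_card_le
      · intro y hy
        obtain ⟨χ, hχ, rfl⟩ := Finset.mem_image.mp hy
        exact hmaps χ hχ
      · rw [Finset.card_image_of_injOn hinj]
    have h2 := Finset.sum_image (s := T) (f := fun χ : IrrCharacter G => (χ : G → ℂ) x * (χ : G → ℂ) x⁻¹) hinj
    rw [himg] at h2
    exact h2.symm
  obtain ⟨q, hq⟩ := cf_rat _ hfix
  rw [hY] at hq
  have hint : IsIntegral ℤ ((q : ℚ) : ℂ) := by
    rw [← hq]
    apply IsIntegral.sum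
    intro χ _
    exact (χ.2.isCharacter.isIntegral x).mul (χ.2.isCharacter.isIntegral x⁻¹)
  obtain ⟨n, rfl⟩ := exists_int_of_isIntegral_rat q hint
  have hterm : ∀ χ : IrrCharacter G, (χ : G → ℂ) x * (χ : G → ℂ) x⁻¹ = ((Complex.normSq ((χ : G → ℂ) x) : ℝ) : ℂ) := by
    intro χ
    rw [χ.2.map_inv x, Complex.mul_conj]
  have hS : ((∑ χ ∈ T, Complex.normSq ((χ : G → ℂ) x) : ℝ) : ℂ) = ((n : ℤ) : ℂ) := by
    push_cast
    rw [← Finset.sum_congr rfl fun χ _ => hterm χ, hq]
    simp
  have hSn : ∑ χ ∈ T, Complex.normSq ((χ : G → ℂ) x) = ((n : ℤ) : ℝ) := by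
    exact_mod_cast hS
  have hone : (⟨fun _ => 1, isIrrCharacter_one⟩ : IrrCharacter G) ∈ T := by
    simp only [hT, Finset.mem_filter, Finset.mem_univ, true_and]
    exact sameBlock_refl hM.isPrime (fun _ : G => (1 : ℂ))
  have hpos : (1 : ℝ) ≤ ∑ χ ∈ T, Complex.normSq ((χ : G → ℂ) x) := by
    have h3 := Finset.single_le_sum (f := fun χ : IrrCharacter G => Complex.normSq ((χ : G → ℂ) x))
      (fun χ _ => Complex.normSq_nonneg _) hone
    simpa using h3
  rw [hSn] at hpos ⊢
  have hn1 : (1 : ℤ) ≤ n := by exact_mod_cast hpos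
  refine ⟨n.toNat, by omega, ?_⟩
  have h4 : (n.toNat : ℤ) = n := Int.toNat_of_nonneg (by omega)
  exact_mod_cast h4.symm

section Quot

variable {p : ℕ} [hp : Fact p.Prime] {M : Ideal AlgInt} (hM : IsPModular p M)
  (N : Subgroup G) [hN : N.Normal] (hNp : ¬ p ∣ Nat.card N)

include hM hNp in
/-- The principal block of `G` is the inflation of the principal block of the quotient by a normal
`p'`-subgroup. -/
theorem principal_eq_image_infl :
    principalBlock M G = inflIrr N '' principalBlock M (G ⧸ N) := by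
  classical
  have hP := hM.isPrime
  ext ψ
  constructor
  · intro hψ
    have h1 : ψ ∈ blockOf M (((⟨fun _ => 1, isIrrCharacter_one⟩ : IrrCharacter (G ⧸ N)) : G ⧸ N → ℂ) ∘ QuotientGroup.mk) := hψ
    obtain ⟨ψ', h2, h3⟩ := block_of_infl_coprime N hM hNp _ ψ h1
    exact ⟨ψ', h3, Subtype.ext h2.symm⟩
  · rintro ⟨ψ', h1, rfl⟩
    have h2 := sameBlock_infl (N := N) hP h1
    exact h2

include hM hNp in
theorem finsum_principal_quot {R : Type*} [AddCommMonoid R] (f : IrrCharacter G → R) :
    ∑ᶠ χ ∈ principalBlock M G, f χ = ∑ᶠ ψ ∈ principalBlock M (G ⧸ N), f (inflIrr N ψ) := by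
  rw [principal_eq_image_infl hM N hNp]
  exact finsum_mem_image (inflIrr_injective N).injOn

end Quot

end

end CfsgLib.Char
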