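import Cfsg.Agent.Lib.Block.FongThm
import Cfsg.Agent.Lib.Block.Normal
import Cfsg.Agent.Lib.Block.Induced
import Cfsg.Agent.Lib.Char.BlkPrin

/-! # Principal blocks of normal subgroups -/

set_option autoImplicit false
set_option linter.unusedSectionVars false
set_option linter.unusedVariables false

namespace CfsgLib.Char

open Cfsg CfsgLib.Block
open scoped ComplexConjugate

universe u

variable {G : Type u} [Group G] [Fintype G] (H : Subgroup G) [hH : H.Normal] [Fintype H]

/-- The multiplicity of `θ` in `χ|H` as a natural number. -/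
theorem exists_mult (χ : IrrCharacter G) (θ : IrrCharacter H) :
    ∃ m : ℕ, classInner (fun n : H => (χ : G → ℂ) n) (θ : H → ℂ) = m :=
  (χ.2.isCharacter.restrict H).classInner_nat θ.2

noncomputable def multNat (χ : IrrCharacter G) (θ : IrrCharacter H) : ℕ :=
  (exists_mult H χ θ).choose

theorem multNat_spec (χ : IrrCharacter G) (θ : IrrCharacter H) :
    classInner (fun n : H => (χ : G → ℂ) n) (θ : H → ℂ) = multNat H χ θ :=
  (exists_mult H χ θ).choose_spec

section
attribute [local instance] irrFintype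

theorem degree_eq_sum_multNat (χ : IrrCharacter G) :
    charDegree (χ : G → ℂ) = ∑ θ : IrrCharacter H, multNat H χ θ * charDegree (θ : H → ℂ) := by
  have h1 := classFunction_apply (χ.2.isCharacter.restrict H).isClassFunction (1 : H)
  have h2 : ((charDegree (χ : G → ℂ) : ℕ) : ℂ) =
      ((∑ θ : IrrCharacter H, multNat H χ θ * charDegree (θ : H → ℂ) : ℕ) : ℂ) := by
    rw [← irr_one_eq_charDegree χ]
    push_cast
    have h3 : (χ : G → ℂ) 1 = ∑ θ : IrrCharacter H,
        classInner (fun n : H => (χ : G → ℂ) n) (θ : H → ℂ) * (θ : H → ℂ) 1 := by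
      simpa using h1
    rw [h3]
    refine Finset.sum_congr rfl fun θ _ => ?_
    rw [multNat_spec, irr_one_eq_charDegree θ]
  exact_mod_cast h2

theorem sum_multNat_degree (θ : IrrCharacter H) :
    ∑ χ : IrrCharacter G, multNat H χ θ * charDegree (χ : G → ℂ) = H.index * charDegree (θ : H → ℂ) := by
  have h1 := classFunction_apply (indFun_isClass H (θ : H → ℂ)) (1 : G)
  have h2 : ((∑ χ : IrrCharacter G, multNat H χ θ * charDegree (χ : G → ℂ) : ℕ) : ℂ) =
      ((H.index * charDegree (θ : H → ℂ) : ℕ) : ℂ) := by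
    push_cast
    rw [← irr_one_eq_charDegree θ, ← indFun_one, h1]
    refine Finset.sum_congr rfl fun χ _ => ?_
    have h3 := frobenius' H (θ : H → ℂ) χ.2.isClassFunction
    rw [multNat_spec] at h3
    have h4 : classInner (indFun H (θ : H → ℂ)) (χ : G → ℂ) = multNat H χ θ := by
      rw [← conj_classInner, h3, Complex.conj_natCast]
    rw [h4, irr_one_eq_charDegree χ]
  exact_mod_cast h2

variable {p : ℕ} [hp : Fact p.Prime] {M : Ideal AlgInt} (hM : IsPModular p M)
include hM

theorem isPBlock_principal (G : Type u) [Group G] [Fintype G] : IsPBlock M (principalBlock M G) :=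
  ⟨oneIrr G, rfl⟩

theorem multNat_one_one : multNat H (oneIrr G) (oneIrr H) = 1 := by
  have h := multNat_spec H (oneIrr G) (oneIrr H)
  have h2 : classInner (fun n : H => ((oneIrr G : IrrCharacter G) : G → ℂ) n)
      ((oneIrr H : IrrCharacter H) : H → ℂ) = 1 :=
    classInner_irr_self (oneIrr H).2
  rw [h2] at h
  exact_mod_cast h.symm

theorem mem_principal_of_constituent {χ : IrrCharacter G} (hχ : χ ∈ principalBlock M G)
    {θ : IrrCharacter H} (hc : multNat H χ θ ≠ 0) : θ ∈ principalBlock M H := by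
  have hP := hM.isPrime
  have hc1 : classInner (fun n : H => ((oneIrr G : IrrCharacter G) : G → ℂ) n)
      ((oneIrr H : IrrCharacter H) : H → ℂ) ≠ 0 := by
    rw [multNat_spec, multNat_one_one H hM]; simp
  have hc2 : classInner (fun n : H => (χ : G → ℂ) n) (θ : H → ℂ) ≠ 0 := by
    rw [multNat_spec]; exact_mod_cast hc
  obtain ⟨g, θ', hθ', rfl⟩ := constituent_mem_orbit H hM (isPBlock_principal hM G)
    (isPBlock_principal hM H) (oneIrr_mem_principal hP) (oneIrr_mem_principal hP) hc1 hχ hc2
  have h1 : SameBlock M (fun _ : H => (1 : ℂ)) (θ' : H → ℂ) := (mem_blockOf hP).1 hθ'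
  have h2 := sameBlock_conjOn H g h1
  have h3 : conjOn H g (fun _ : H => (1 : ℂ)) = fun _ => 1 := by
    funext x; simp [conjOn_apply]
  rw [h3] at h2
  exact (mem_blockOf hP).2 h2

theorem exists_principal_above (θ : IrrCharacter H) (hθ : θ ∈ principalBlock M H) :
    ∃ χ ∈ principalBlock M G, multNat H χ θ ≠ 0 := by
  have hP := hM.isPrime
  have hc1 : classInner (fun n : H => ((oneIrr G : IrrCharacter G) : G → ℂ) n)
      ((oneIrr H : IrrCharacter H) : H → ℂ) ≠ 0 := by
    rw [multNat_spec, multNat_one_one H hM]; simp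
  obtain ⟨χ, hχ, hc⟩ := s4432 H hM (isPBlock_principal hM G) (isPBlock_principal hM H)
    ⟨oneIrr G, oneIrr_mem_principal hP, oneIrr H, oneIrr_mem_principal hP, hc1⟩ θ hθ
  refine ⟨χ, hχ, fun h => hc ?_⟩
  rw [multNat_spec, h]; simp

open Classical in
theorem lambda_bounds :
    (∑ᶠ θ ∈ principalBlock M H, charDegree (θ : H → ℂ) ^ 2) ≤
        (∑ᶠ χ ∈ principalBlock M G, charDegree (χ : G → ℂ) ^ 2) ∧
      (∑ᶠ χ ∈ principalBlock M G, charDegree (χ : G → ℂ) ^ 2) ≤
        H.index * ∑ᶠ θ ∈ principalBlock M H, charDegree (θ : H → ℂ) ^ 2 := by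
  rw [finsum_mem_eq_finite_toFinset_sum _ (Set.toFinite (principalBlock M H)),
    finsum_mem_eq_finite_toFinset_sum _ (Set.toFinite (principalBlock M G))]
  set S := (Set.toFinite (principalBlock M H)).toFinset with hS
  set T := (Set.toFinite (principalBlock M G)).toFinset with hT
  have hSm : ∀ θ, θ ∈ S ↔ θ ∈ principalBlock M H := fun θ => by simp [hS]
  have hTm : ∀ χ, χ ∈ T ↔ χ ∈ principalBlock M G := fun χ => by simp [hT]
  have key : ∑ χ ∈ T, charDegree (χ : G → ℂ) ^ 2 =
      ∑ θ ∈ S, charDegree (θ : H → ℂ) * ∑ χ ∈ T, multNat H χ θ * charDegree (χ : G → ℂ) := by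
    have h1 : ∀ χ ∈ T, charDegree (χ : G → ℂ) ^ 2 = ∑ θ ∈ S,
        charDegree (θ : H → ℂ) * (multNat H χ θ * charDegree (χ : G → ℂ)) := by
      intro χ hχ
      have h2 : charDegree (χ : G → ℂ) = ∑ θ ∈ S, multNat H χ θ * charDegree (θ : H → ℂ) := by
        rw [degree_eq_sum_multNat H χ]
        symm
        apply Finset.sum_subset (Finset.subset_univ _)
        intro θ _ hθ
        have : multNat H χ θ = 0 := by
          by_contra h0
          exact hθ ((hSm θ).2 (mem_principal_of_constituent H hM ((hTm χ).1 hχ) h0))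
        rw [this, zero_mul]
      have h3 : ∑ θ ∈ S, charDegree (θ : H → ℂ) * (multNat H χ θ * charDegree (χ : G → ℂ)) =
          (∑ θ ∈ S, multNat H χ θ * charDegree (θ : H → ℂ)) * charDegree (χ : G → ℂ) := by
        rw [Finset.sum_mul]
        exact Finset.sum_congr rfl fun θ _ => by ring
      rw [h3, ← h2, sq]
    rw [Finset.sum_congr rfl h1, Finset.sum_comm]
    exact Finset.sum_congr rfl fun θ _ => by rw [Finset.mul_sum]
  rw [key]
  constructor
  · refine Finset.sum_le_sum fun θ hθ => ?_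
    obtain ⟨χ, hχ, hc⟩ := exists_principal_above H hM θ ((hSm θ).1 hθ)
    rw [sq]
    refine Nat.mul_le_mul_left _ ?_
    have h1 : multNat H χ θ * charDegree (χ : G → ℂ) ≤
        ∑ χ ∈ T, multNat H χ θ * charDegree (χ : G → ℂ) :=
      Finset.single_le_sum (f := fun χ : IrrCharacter G => multNat H χ θ * charDegree (χ : G → ℂ))
        (fun _ _ => Nat.zero_le _) ((hTm χ).2 hχ)
    have h2 : multNat H χ θ * charDegree (θ : H → ℂ) ≤ charDegree (χ : G → ℂ) := by
      rw [degree_eq_sum_multNat H χ]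
      exact Finset.single_le_sum (f := fun θ : IrrCharacter H => multNat H χ θ * charDegree (θ : H → ℂ))
        (fun _ _ => Nat.zero_le _) (Finset.mem_univ θ)
    have h3 : 1 ≤ multNat H χ θ := Nat.one_le_iff_ne_zero.2 hc
    calc charDegree (θ : H → ℂ) ≤ multNat H χ θ * charDegree (θ : H → ℂ) := Nat.le_mul_of_pos_left _ h3
      _ ≤ charDegree (χ : G → ℂ) := h2
      _ ≤ multNat H χ θ * charDegree (χ : G → ℂ) := Nat.le_mul_of_pos_left _ h3
      _ ≤ _ := h1
  · rw [Finset.mul_sum]
    refine Finset.sum_le_sum fun θ hθ => ?_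
    have h1 : ∑ χ ∈ T, multNat H χ θ * charDegree (χ : G → ℂ) ≤ H.index * charDegree (θ : H → ℂ) := by
      rw [← sum_multNat_degree H θ]
      exact Finset.sum_le_sum_of_subset (Finset.subset_univ _)
    calc charDegree (θ : H → ℂ) * ∑ χ ∈ T, multNat H χ θ * charDegree (χ : G → ℂ)
        ≤ charDegree (θ : H → ℂ) * (H.index * charDegree (θ : H → ℂ)) := Nat.mul_le_mul_left _ h1
      _ = _ := by ring

end

end CfsgLib.Char
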