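import Cfsg.Agent.Lib.Block.Induced
import Cfsg.Agent.Lib.Char.Clifford

set_option autoImplicit false
set_option linter.all false

namespace CfsgLib.Char.BL

open Cfsg CfsgLib.Char CfsgLib.Block
open scoped ComplexConjugate

universe u

section
variable {G : Type u} [Group G] [Fintype G] (N : Subgroup G) [hN : N.Normal] [Fintype N]

open scoped Classical in
theorem deg_eq_mul_orbit {χ : G → ℂ} {θ : N → ℂ} (hχ : IsIrrCharacter G χ) (hθ : IsIrrCharacter N θ)
    (h : classInner (fun n : N => χ n) θ ≠ 0) {e : ℕ} (he : classInner (fun n : N => χ n) θ = e) :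
    χ 1 = (e : ℂ) * ((conjOrbit N θ).card * θ 1) := by
  have hcl := clifford N hχ hθ h
  rw [he] at hcl
  have h1 := congrFun hcl 1
  simp only [Pi.smul_apply, smul_eq_mul, Finset.sum_apply] at h1
  have h3 : ∀ ψ ∈ conjOrbit N θ, ψ 1 = θ 1 := by
    intro ψ hψ
    obtain ⟨g, rfl⟩ := (mem_conjOrbit N).mp hψ
    simp only [conjOn_apply]
    congr 1
    ext
    simp
  rw [Finset.sum_congr rfl h3] at h1
  simp only [Finset.sum_const, nsmul_eq_mul] at h1
  rw [← h1]
  simp

theorem dvd_index_of_not_le {p : ℕ} [hp : Fact p.Prime] (P : Sylow p G) (h : ¬ (P : Subgroup G) ≤ N) : p ∣ N.index := by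
  by_contra hc
  apply h
  intro x hx
  obtain ⟨k, hk⟩ := (IsPGroup.iff_orderOf.mp P.isPGroup') ⟨x, hx⟩
  have hk' : orderOf x = p ^ k := by
    rw [← hk]
    exact (Subgroup.orderOf_mk x hx).symm
  have h1 : (x : G ⧸ N) ^ (p ^ k) = 1 := by
    rw [← QuotientGroup.mk_pow, ← hk', pow_orderOf_eq_one]
    rfl
  have h2 : (x : G ⧸ N) ^ N.index = 1 := by
    have := pow_card_eq_one' (x := (x : G ⧸ N))
    rwa [← Subgroup.index_eq_card] at this
  have h3 : Nat.Coprime (p ^ k) N.index := Nat.Coprime.pow_left _ ((Nat.Prime.coprime_iff_not_dvd hp.out).mpr hc)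
  have h4 : orderOf (x : G ⧸ N) = 1 :=
    Nat.eq_one_of_dvd_coprimes h3 (orderOf_dvd_of_pow_eq_one h1) (orderOf_dvd_of_pow_eq_one h2)
  rw [orderOf_eq_one_iff, QuotientGroup.eq_one_iff] at h4
  exact h4

end

theorem sq_two : ∀ x : ZMod 2, x ≠ 0 → x ^ 2 = 1 := by decide

theorem sq_three : ∀ x : ZMod 3, x ≠ 0 → x ^ 2 = 1 := by decide

theorem s4825_main {G : Type u} [Group G] [Fintype G] (p : ℕ) [hp : Fact p.Prime] (P : Sylow p G) (M : Ideal AlgInt)
    (hM : IsPModular p M) (B : Set (IrrCharacter G)) (hB : IsPBlock M B) (N : Subgroup G) [hN : N.Normal] [Fintype N]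
    (hPN : ¬ (P : Subgroup G) ≤ N) (θ : IrrCharacter N) :
    (Nat.card {χ : IrrCharacter G // χ ∈ B ∧ ¬ p ∣ charDegree (χ : G → ℂ) ∧ classInner (fun n : N => (χ : G → ℂ) n) (θ : N → ℂ) ≠ 0} = 0 ∨
      2 ≤ Nat.card {χ : IrrCharacter G // χ ∈ B ∧ ¬ p ∣ charDegree (χ : G → ℂ) ∧ classInner (fun n : N => (χ : G → ℂ) n) (θ : N → ℂ) ≠ 0}) ∧
    (p ≤ 3 → p ∣ Nat.card {χ : IrrCharacter G // χ ∈ B ∧ ¬ p ∣ charDegree (χ : G → ℂ) ∧ classInner (fun n : N => (χ : G → ℂ) n) (θ : N → ℂ) ≠ 0}) := by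
  classical
  have hP := hM.isPrime
  have hpp := hp.out
  let T : Finset (IrrCharacter G) := Finset.univ.filter fun χ =>
    χ ∈ B ∧ ¬ p ∣ charDegree (χ : G → ℂ) ∧ classInner (fun n : N => (χ : G → ℂ) n) (θ : N → ℂ) ≠ 0
  have hcard : Nat.card {χ : IrrCharacter G // χ ∈ B ∧ ¬ p ∣ charDegree (χ : G → ℂ) ∧ classInner (fun n : N => (χ : G → ℂ) n) (θ : N → ℂ) ≠ 0} = T.card := by
    rw [Nat.card_eq_fintype_card, Fintype.card_subtype]
  rw [hcard]
  -- the multiplicities
  have h1 : ∀ χ : IrrCharacter G, ∃ n : ℕ, classInner (indFun N (θ : N → ℂ)) (χ : G → ℂ) = n :=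
    fun χ => (isCharacter_indFun N θ.2.isCharacter).classInner_nat χ.2
  choose a ha using h1
  have ha' : ∀ χ : IrrCharacter G, classInner (fun n : N => (χ : G → ℂ) n) (θ : N → ℂ) = a χ := by
    intro χ
    have h2 := ha χ
    rw [frobenius N _ χ.2.isClassFunction, ← conj_classInner] at h2
    have h3 := congrArg conj h2
    simpa using h3
  -- the constant
  let c : ℕ := (conjOrbit N (θ : N → ℂ)).card * charDegree (θ : N → ℂ)
  have hdeg : ∀ χ : IrrCharacter G, a χ ≠ 0 → charDegree (χ : G → ℂ) = a χ * c := by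
    intro χ h0
    have h2 := deg_eq_mul_orbit N χ.2 θ.2 (by rw [ha']; exact_mod_cast h0) (ha' χ)
    rw [← coe_charDegree χ.2.isCharacter, ← coe_charDegree θ.2.isCharacter] at h2
    simp only [c]
    exact_mod_cast h2
  -- the degree of the block part
  obtain ⟨n, hn⟩ := nB_natCast B (ξ := θ)
  have hD0 := charDegree_indFun_ne_zero θ
  have hDc := coe_charDegree (isCharacter_indFun N θ.2.isCharacter)
  have hmem : (n : ℂ) / (charDegree (indFun N (θ : N → ℂ)) : ℂ) ∈ locR hP := by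
    have := om_mem hP θ.2 (isCent_res_of_isCent N (isCent_fB B)) (sval_res N hP (sval_fB hM hB))
    rw [om_res_fB, hn, ← hDc] at this
    exact this
  have hdegI : charDegree (indFun N (θ : N → ℂ)) = N.index * charDegree (θ : N → ℂ) := by
    have h3 := coe_charDegree (isCharacter_indFun N θ.2.isCharacter)
    rw [indFun_one, ← coe_charDegree θ.2.isCharacter] at h3
    exact_mod_cast h3
  have hpD : p ∣ charDegree (indFun N (θ : N → ℂ)) := by
    rw [hdegI]
    exact Dvd.dvd.mul_right (dvd_index_of_not_le N P hPN) _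
  have hpn : p ∣ n := by
    by_cases hn0 : n = 0
    · rw [hn0]
      exact dvd_zero _
    have h5 : p ^ 1 ∣ n := by
      apply (divBy_natCast_iff hM hn0).1
      have hDC : (charDegree (indFun N (θ : N → ℂ)) : ℂ) ≠ 0 := by exact_mod_cast hD0
      have h6 : (n : ℂ) = (charDegree (indFun N (θ : N → ℂ)) : ℂ) * ((n : ℂ) / (charDegree (indFun N (θ : N → ℂ)) : ℂ)) := by
        field_simp
      rw [h6]
      apply DivBy.mul_right hM hmem
      apply divBy_of_pow_dvd hM
      rwa [pow_one]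
    rwa [pow_one] at h5
  have hn' : n = ∑ χ : IrrCharacter G, if χ ∈ B then a χ * charDegree (χ : G → ℂ) else 0 := by
    have h4 : (n : ℂ) = ((∑ χ : IrrCharacter G, if χ ∈ B then a χ * charDegree (χ : G → ℂ) else 0 : ℕ) : ℂ) := by
      rw [← hn, nB]
      push_cast
      refine Finset.sum_congr rfl fun χ _ => ?_
      split_ifs
      · rw [ha, coe_charDegree χ.2.isCharacter]
      · rfl
    exact_mod_cast h4
  haveI : Fact p.Prime := hp
  have hmod : (0 : ZMod p) = ∑ χ ∈ T, ((a χ : ZMod p) ^ 2 * (c : ZMod p)) := by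
    have h2 : ((n : ℕ) : ZMod p) = 0 := (ZMod.natCast_eq_zero_iff n p).mpr hpn
    rw [← h2, hn']
    push_cast
    rw [Finset.sum_filter]
    refine Finset.sum_congr rfl fun χ _ => ?_
    by_cases hχ : χ ∈ B
    · rw [if_pos hχ]
      by_cases h0 : a χ = 0
      · have h3 : ¬ classInner (fun n : N => (χ : G → ℂ) n) (θ : N → ℂ) ≠ 0 := by
          rw [ha', h0]
          simp
        rw [if_neg (fun h => h3 h.2.2), h0]
        simp
      · have h3 : classInner (fun n : N => (χ : G → ℂ) n) (θ : N → ℂ) ≠ 0 := by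
          rw [ha']
          exact_mod_cast h0
        by_cases h4 : p ∣ charDegree (χ : G → ℂ)
        · rw [if_neg (fun h => h.2.1 h4), (ZMod.natCast_eq_zero_iff _ p).mpr h4, mul_zero]
        · rw [if_pos ⟨hχ, h4, h3⟩, hdeg χ h0]
          push_cast
          ring
    · simp [hχ]
  by_cases hT : T = ∅
  · rw [hT]
    simp
  obtain ⟨χ₀, hχ₀⟩ := Finset.nonempty_iff_ne_empty.mpr hT
  have hTm : ∀ χ ∈ T, ¬ p ∣ a χ ∧ a χ ≠ 0 := by
    intro χ hχ
    have h2 := (Finset.mem_filter.mp hχ).2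
    have h3 : a χ ≠ 0 := by
      intro h0
      apply h2.2.2
      rw [ha', h0]
      simp
    refine ⟨fun h4 => h2.2.1 ?_, h3⟩
    rw [hdeg χ h3]
    exact Dvd.dvd.mul_right h4 _
  have hc0 : ¬ p ∣ c := by
    have h2 := (Finset.mem_filter.mp hχ₀).2
    intro h4
    apply h2.2.1
    rw [hdeg χ₀ (hTm χ₀ hχ₀).2]
    exact Dvd.dvd.mul_left h4 _
  have hcz : (c : ZMod p) ≠ 0 := fun h => hc0 ((ZMod.natCast_eq_zero_iff c p).mp h)
  have hsum : ∑ χ ∈ T, ((a χ : ZMod p) ^ 2) = 0 := by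
    have h2 : (0 : ZMod p) = (∑ χ ∈ T, ((a χ : ZMod p) ^ 2)) * (c : ZMod p) := by
      rw [hmod, Finset.sum_mul]
    exact (mul_eq_zero.mp h2.symm).resolve_right hcz
  have hne : ∀ χ ∈ T, (a χ : ZMod p) ≠ 0 := fun χ hχ h => (hTm χ hχ).1 ((ZMod.natCast_eq_zero_iff _ p).mp h)
  constructor
  · right
    by_contra hlt
    have h1card : T.card = 1 := by
      have := Finset.card_pos.mpr (⟨χ₀, hχ₀⟩ : T.Nonempty)
      omega
    obtain ⟨χ₁, hχ₁⟩ := Finset.card_eq_one.mp h1card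
    rw [hχ₁, Finset.sum_singleton] at hsum
    have h3 : χ₁ ∈ T := by
      rw [hχ₁]
      exact Finset.mem_singleton_self _
    exact hne χ₁ h3 (pow_eq_zero_iff (two_ne_zero)|>.mp hsum)
  · intro hp3
    have hsq : ∀ x : ZMod p, x ≠ 0 → x ^ 2 = 1 := by
      have h2 := hpp.two_le
      have h3 : p = 2 ∨ p = 3 := by omega
      rcases h3 with rfl | rfl
      · exact sq_two
      · exact sq_three
    have h2 : ∑ χ ∈ T, ((a χ : ZMod p) ^ 2) = (T.card : ZMod p) := by
      rw [Finset.sum_congr rfl (fun χ hχ => hsq _ (hne χ hχ))]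
      simp
    rw [h2] at hsum
    exact (ZMod.natCast_eq_zero_iff _ p).mp hsum

end CfsgLib.Char.BL
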