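import Mathlib
import Cfsg.Agent.Lib.Char.Frobenius

/-!
# Induced characters from Frobenius-like kernels, etc.
-/

set_option linter.unusedSectionVars false
set_option linter.style.haveILetI false
set_option linter.unusedSimpArgs false
set_option linter.unusedVariables false

namespace CfsgLib.Char

open Module Cfsg
open scoped ComplexConjugate Pointwise

universe u

section Kernel

variable {G : Type u} [Group G]

/-- A character with a nontrivial value on a normal subgroup has a nontrivial constituent. -/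
theorem exists_nontrivial_constituent [Fintype G] {χ : G → ℂ} (hχ : IsCharacter G χ) (n : G) (hn : χ n ≠ χ 1) :
    ∃ φ, IsIrrCharacter G φ ∧ φ ≠ (fun _ => 1) ∧ classInner χ φ ≠ 0 := by
  classical
  by_contra hcon
  push Not at hcon
  apply hn
  have hsum := hχ.eq_sum_classInner
  have key : ∀ g, χ g = classInner χ (fun _ => 1) := by
    intro g
    rw [hsum]
    simp only [Finset.sum_apply, Pi.smul_apply, smul_eq_mul]
    rw [← hsum]
    rw [Finset.sum_eq_single (⟨fun _ => 1, isIrrCharacter_one⟩ : IrrCharacter G)]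
    · simp
    · intro b _ hb
      have : (b : G → ℂ) ≠ fun _ => 1 := fun h => hb (Subtype.ext h)
      rw [hcon _ b.2 this, zero_mul]
    · intro h
      exact absurd (Finset.mem_univ _) h
  rw [key n, key 1]

theorem exists_irr_induced_of_centralizer_le [Fintype G] (N : Subgroup G) [hN : N.Normal]
    (hC : ∀ n ∈ N, n ≠ 1 → Subgroup.centralizer ({n} : Set G) ≤ N) {χ : G → ℂ}
    (hχ : IsIrrCharacter G χ) (hker : ∃ n ∈ N, χ n ≠ χ 1) :
    ∃ φ : N → ℂ, IsIrrCharacter N φ ∧ χ = indFun N φ := by
  classical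
  obtain ⟨n, hnN, hn⟩ := hker
  obtain ⟨φ, hφ, hφ1, hφc⟩ := exists_nontrivial_constituent (hχ.isCharacter.restrict N) ⟨n, hnN⟩ hn
  -- the inertia of `φ` is `N`
  have hinert : ∀ g : G, conjOn N g φ = φ ↔ g ∈ N := by
    intro g
    constructor
    · intro hg
      let α : N ≃* N := (MulAut.conjNormal g : MulAut N)
      have hcount := card_fixed_classes_eq_card_fixed_irr α
      have hαapp : ∀ h : N, ((α h : N) : G) = g * h * g⁻¹ := fun h => MulAut.conjNormal_apply g h
      have hα : φ ∘ α = φ := by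
        funext h
        have h0 := congrFun hg h
        rw [conjOn_apply] at h0
        rw [Function.comp_apply, ← h0]
        exact congrArg φ (Subtype.ext (hαapp h))
      have hg' : φ ∘ α = φ := hα
      have h2 : 1 < Nat.card {χ : IrrCharacter N // (χ : N → ℂ) ∘ α = (χ : N → ℂ)} := by
        apply (Finite.one_lt_card_iff_nontrivial).mpr
        refine ⟨⟨⟨⟨φ, hφ⟩, hα⟩, ⟨⟨fun _ => 1, isIrrCharacter_one⟩, rfl⟩, ?_⟩⟩
        intro h
        exact hφ1 (congrArg (fun y => y.1.1) h)
      rw [← hcount] at h2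
      haveI := (Finite.one_lt_card_iff_nontrivial).mp h2
      have hmkone : ConjClasses.map α.toMonoidHom (ConjClasses.mk (1 : N)) = ConjClasses.mk 1 := by
        show ConjClasses.mk (α 1) = _
        rw [map_one]
      obtain ⟨C, hC'⟩ := exists_ne (⟨ConjClasses.mk 1, hmkone⟩ : {C : ConjClasses N // ConjClasses.map α.toMonoidHom C = C})
      obtain ⟨C, hCfix⟩ := C
      obtain ⟨k, rfl⟩ := ConjClasses.mk_surjective C
      have hk1 : k ≠ 1 := by
        rintro rfl
        exact hC' rfl
      have h3 : ConjClasses.mk (α k) = ConjClasses.mk k := hCfix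
      have h4 : IsConj (α k) k := ConjClasses.mk_eq_mk_iff_isConj.mp h3
      obtain ⟨c, hc⟩ := isConj_iff.mp h4
      have h5 : (c : G) * (g * k * g⁻¹) * (c : G)⁻¹ = k := by
        have := congrArg (Subtype.val) hc
        simpa [hαapp] using this
      have h6 : (c : G) * g ∈ Subgroup.centralizer ({(k : G)} : Set G) := by
        rw [Subgroup.mem_centralizer_singleton_iff]
        calc (c : G) * g * k = ((c : G) * (g * k * g⁻¹) * (c : G)⁻¹) * ((c : G) * g) := by group
          _ = k * ((c : G) * g) := by rw [h5]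
      have h7 := hC k k.2 (fun h => hk1 (Subtype.ext h)) h6
      have := N.mul_mem (N.inv_mem c.2) h7
      simpa using this
    · intro hg
      funext h
      simp only [conjOn_apply]
      exact hφ.isClassFunction h ⟨g, hg⟩
  have hcard : Nat.card {g : G // conjOn N g φ = φ} = Nat.card N :=
    Nat.card_congr (Equiv.subtypeEquivRight hinert)
  have hnorm : classInner (indFun N φ) (indFun N φ) = 1 := by
    have := card_mul_classInner_ind N hφ
    rw [hcard] at this
    exact mul_left_cancel₀ (card_subgroup_ne_zero N) (this.trans (mul_one _).symm)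
  have hirr : IsIrrCharacter G (indFun N φ) := (isCharacter_indFun N hφ.isCharacter).isIrr_of_norm hnorm
  refine ⟨φ, hφ, ?_⟩
  by_contra hne
  have h0 := classInner_irr_ne hχ hirr hne
  rw [frobenius' N φ hχ.isClassFunction] at h0
  exact hφc h0

end Kernel

section TICount

variable {G : Type*} [Group G] [Finite G] {ι : Type*} [Fintype ι]

theorem card_ne_one_eq (A : Type*) [Finite A] (a : A) : Nat.card {x : A // x ≠ a} = Nat.card A - 1 := by
  classical
  haveI := Fintype.ofFinite A
  rw [Nat.card_eq_fintype_card, Nat.card_eq_fintype_card]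
  simp [Fintype.card_subtype_compl]

theorem orderOf_conj_dvd_card (H : Subgroup G) (x : G) (h : H) :
    orderOf (x * (h : G) * x⁻¹) ∣ Nat.card H := by
  have h1 : orderOf (x * (h : G) * x⁻¹) = orderOf (h : G) := by
    have := orderOf_injective (MulAut.conj x).toMonoidHom (MulAut.conj x).injective (h : G)
    simpa [MulAut.conj_apply] using this
  rw [h1, Subgroup.orderOf_coe]
  exact orderOf_dvd_natCard h

/-- S1527 -/
theorem card_eq_sum_ti (H : ι → Subgroup G)
    (hcop : ∀ i j, i ≠ j → Nat.Coprime (Nat.card (H i)) (Nat.card (H j)))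
    (hTI : ∀ i, IsTISubset (H i : Set G))
    (hcover : ∀ g : G, g ≠ 1 → ∃ i, ∃ x : G, x * g * x⁻¹ ∈ H i) :
    Nat.card G - 1 = ∑ i, (Subgroup.normalizer (H i : Set G)).index * (Nat.card (H i) - 1) := by
  classical
  set N : ι → Subgroup G := fun i => Subgroup.normalizer (H i : Set G) with hNdef
  let F : (Σ i, (G ⧸ N i) × {h : H i // h ≠ 1}) → {g : G // g ≠ 1} := fun t =>
    ⟨(t.2.1.out) * (t.2.2.1 : G) * (t.2.1.out)⁻¹, by
      intro h
      have h2 : (t.2.2.1 : G) = 1 := by
        have : (t.2.1.out) * (t.2.2.1 : G) * (t.2.1.out)⁻¹ = 1 := h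
        simpa [mul_assoc] using (conj_eq_one_iff.mp this)
      exact t.2.2.2 (Subtype.ext h2)⟩
  have hF : Function.Bijective F := by
    constructor
    · rintro ⟨i, q, ⟨h, hh⟩⟩ ⟨j, q', ⟨h', hh'⟩⟩ heq
      have heq' : q.out * (h : G) * q.out⁻¹ = q'.out * (h' : G) * q'.out⁻¹ := congrArg Subtype.val heq
      have hij : i = j := by
        by_contra hne
        have h1 := orderOf_conj_dvd_card (H i) q.out h
        have h2 := orderOf_conj_dvd_card (H j) q'.out h'
        rw [← heq'] at h2
        have h3 := Nat.eq_one_of_dvd_coprimes (hcop i j hne) h1 h2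
        have h4 := orderOf_eq_one_iff.mp h3
        have h5 : (h : G) = 1 := by simpa [mul_assoc] using (conj_eq_one_iff.mp h4)
        exact hh (Subtype.ext h5)
      subst hij
      have hx : q'.out⁻¹ * q.out ∈ N i := by
        by_contra hx
        have h6 : (q'.out⁻¹ * q.out) * (h : G) * (q'.out⁻¹ * q.out)⁻¹ = h' := by
          have : (q'.out⁻¹ * q.out) * (h : G) * (q'.out⁻¹ * q.out)⁻¹ =
              q'.out⁻¹ * (q.out * (h : G) * q.out⁻¹) * q'.out := by group
          rw [this, heq']
          group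
        have h7 := hTI i _ hx (h : G) h.2 (by rw [h6]; exact h'.2)
        exact hh (Subtype.ext h7)
      have hq : q = q' := by
        have : (q'.out : G ⧸ N i) = (q.out : G ⧸ N i) := QuotientGroup.eq.mpr hx
        simpa using this.symm
      subst hq
      have hhh : h = h' := by
        apply Subtype.ext
        exact mul_left_cancel (mul_right_cancel heq')
      subst hhh
      rfl
    · rintro ⟨g, hg⟩
      obtain ⟨i, x, hx⟩ := hcover g hg
      set q : G ⧸ N i := ((x⁻¹ : G) : G ⧸ N i) with hq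
      have hout : (q.out⁻¹ * x⁻¹) ∈ N i := by
        have : ((q.out : G) : G ⧸ N i) = ((x⁻¹ : G) : G ⧸ N i) := by simp [hq]
        exact QuotientGroup.eq.mp this
      set n := q.out⁻¹ * x⁻¹ with hn
      have hnH : n * (x * g * x⁻¹) * n⁻¹ ∈ H i := by
        have := (Subgroup.mem_normalizer_iff.mp hout (x * g * x⁻¹)).mp hx
        exact this
      have hne : (⟨n * (x * g * x⁻¹) * n⁻¹, hnH⟩ : H i) ≠ 1 := by
        intro h0
        have h1 : n * (x * g * x⁻¹) * n⁻¹ = 1 := congrArg Subtype.val h0
        have h2 : x * g * x⁻¹ = 1 := conj_eq_one_iff.mp h1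
        exact hg (conj_eq_one_iff.mp h2)
      refine ⟨⟨i, q, ⟨⟨_, hnH⟩, hne⟩⟩, ?_⟩
      apply Subtype.ext
      show q.out * (n * (x * g * x⁻¹) * n⁻¹) * q.out⁻¹ = g
      rw [hn]
      group
  have h1 := Nat.card_congr (Equiv.ofBijective F hF)
  rw [card_ne_one_eq G 1] at h1
  rw [← h1, Nat.card_sigma]
  refine Finset.sum_congr rfl fun i _ => ?_
  rw [Nat.card_prod, card_ne_one_eq (H i) 1]
  rfl

end TICount

section GeomSum

theorem geom_div_eq_sum {p : ℕ} (hp : 2 ≤ p) (q : ℕ) : (p ^ q - 1) / (p - 1) = ∑ i ∈ Finset.range q, p ^ i :=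
  (Nat.geomSum_eq hp q).symm

/-- S1546 -/
theorem geom_sum_facts (p q : ℕ) (hp : p.Prime) (hq : q.Prime) (hp2 : p ≠ 2) (hq2 : q ≠ 2) :
    Odd ((p ^ q - 1) / (p - 1)) ∧ (p % q = 1 → q ∣ (p ^ q - 1) / (p - 1)) ∧
      (p % q ≠ 1 → Nat.Coprime ((p ^ q - 1) / (p - 1)) (p - 1) ∧
        ∀ x : ℕ, x ∣ (p ^ q - 1) / (p - 1) → x % q = 1) := by
  have hp2' : 2 ≤ p := hp.two_le
  rw [geom_div_eq_sum hp2']
  set N := ∑ i ∈ Finset.range q, p ^ i with hN
  have hpodd : Odd p := hp.odd_of_ne_two hp2
  have hqodd : Odd q := hq.odd_of_ne_two hq2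
  have hq1 : 1 < q := hq.one_lt
  -- N ≡ q modulo anything dividing p - 1
  have hmod : ∀ d : ℕ, d ∣ p - 1 → N ≡ q [MOD d] := by
    intro d hd
    have h1 : p ≡ 1 [MOD d] := by
      have : 1 ≤ p := by omega
      exact ((Nat.modEq_iff_dvd' this).mpr hd).symm
    have h2 : ∀ i, p ^ i ≡ 1 [MOD d] := fun i => by simpa using h1.pow i
    have : N ≡ ∑ i ∈ Finset.range q, 1 [MOD d] := by
      rw [hN]
      exact Nat.ModEq.sum fun i _ => h2 i
    simpa using this
  refine ⟨?_, ?_, ?_⟩
  · have h2 : 2 ∣ p - 1 := by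
      obtain ⟨k, hk⟩ := hpodd
      omega
    have := hmod 2 h2
    rw [Nat.odd_iff] at hqodd ⊢
    rw [Nat.ModEq, hqodd] at this
    exact this
  · intro hpq
    have h1 : p ≡ 1 [MOD q] := by
      rw [Nat.ModEq, hpq, Nat.mod_eq_of_lt hq1]
    have h2 : q ∣ p - 1 := (Nat.modEq_iff_dvd' (by omega)).mp h1.symm
    have := hmod q h2
    have h3 : N ≡ 0 [MOD q] := this.trans (by simp [Nat.ModEq])
    exact Nat.dvd_of_mod_eq_zero h3
  · intro hpq
    have hnotdvd : ¬ q ∣ p - 1 := by
      intro h
      apply hpq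
      have : p ≡ 1 [MOD q] := ((Nat.modEq_iff_dvd' (by omega)).mpr h).symm
      rw [Nat.ModEq, Nat.mod_eq_of_lt hq1] at this
      exact this
    have hcop : Nat.Coprime N (p - 1) := by
      set d := Nat.gcd N (p - 1) with hd
      have h1 : d ∣ N := Nat.gcd_dvd_left _ _
      have h2 : d ∣ p - 1 := Nat.gcd_dvd_right _ _
      have h3 : N ≡ q [MOD d] := hmod d h2
      have h4 : d ∣ q := (h3.dvd_iff (dvd_refl d)).mp h1
      rcases (Nat.dvd_prime hq).mp h4 with h5 | h5
      · exact h5
      · exact absurd (h5 ▸ h2) hnotdvd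
    refine ⟨hcop, ?_⟩
    have hgeom : (p - 1) * N = p ^ q - 1 := by
      rw [hN, ← geom_div_eq_sum hp2']
      have : (p - 1) ∣ p ^ q - 1 := by
        have := sub_dvd_pow_sub_pow (p : ℤ) 1 q
        have h2 : ((p - 1 : ℕ) : ℤ) ∣ ((p ^ q - 1 : ℕ) : ℤ) := by
          push_cast [Nat.cast_sub (by omega : 1 ≤ p), Nat.cast_sub (Nat.one_le_pow q p (by omega))]
          simpa using this
        exact_mod_cast h2
      exact Nat.mul_div_cancel' this
    have hNpos : 0 < N := by
      rw [hN]
      exact Finset.sum_pos (fun i _ => by positivity) ⟨0, Finset.mem_range.mpr hq.pos⟩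
    -- primes dividing N
    have hprime : ∀ r : ℕ, r.Prime → r ∣ N → r % q = 1 := by
      intro r hr hrN
      haveI := Fact.mk hr
      have h1 : r ∣ p ^ q - 1 := hgeom ▸ Dvd.dvd.mul_left hrN _
      have h2 : (p : ZMod r) ^ q = 1 := by
        have : ((p ^ q - 1 : ℕ) : ZMod r) = 0 := (ZMod.natCast_eq_zero_iff _ _).mpr h1
        rw [Nat.cast_sub (Nat.one_le_pow q p (by omega))] at this
        push_cast at this
        exact sub_eq_zero.mp this
      have hpne : (p : ZMod r) ≠ 0 := by
        intro h0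
        rw [h0, zero_pow hq.ne_zero] at h2
        exact zero_ne_one h2
      have hord : orderOf (p : ZMod r) ∣ q := orderOf_dvd_of_pow_eq_one h2
      have hord1 : orderOf (p : ZMod r) ≠ 1 := by
        intro h
        have h3 : (p : ZMod r) = 1 := orderOf_eq_one_iff.mp h
        have h4 : r ∣ p - 1 := by
          rw [← ZMod.natCast_eq_zero_iff, Nat.cast_sub (by omega)]
          push_cast
          rw [h3, sub_self]
        have h5 := Nat.dvd_gcd hrN h4
        rw [hcop] at h5
        exact hr.one_lt.ne' (Nat.dvd_one.mp h5)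
      have hordq : orderOf (p : ZMod r) = q := ((Nat.dvd_prime hq).mp hord).resolve_left hord1
      have h6 : q ∣ r - 1 := by
        rw [← hordq]
        exact ZMod.orderOf_dvd_card_sub_one hpne
      have h7 : r ≡ 1 [MOD q] := ((Nat.modEq_iff_dvd' hr.one_lt.le).mpr h6).symm
      rw [Nat.ModEq, Nat.mod_eq_of_lt hq1] at h7
      exact h7
    intro x hx
    have hx0 : x ≠ 0 := by
      rintro rfl
      exact hNpos.ne' (zero_dvd_iff.mp hx)
    induction x using induction_on_primes with
    | zero => exact absurd rfl hx0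
    | one => exact Nat.mod_eq_of_lt hq1
    | prime_mul r a hr ih =>
      have ha0 : a ≠ 0 := by
        rintro rfl
        simp at hx0
      have h1 := ih (dvd_of_mul_left_dvd hx) ha0
      have h2 := hprime r hr (dvd_of_mul_right_dvd hx)
      rw [Nat.mul_mod, h1, h2]
      simpa using Nat.mod_eq_of_lt hq1

end GeomSum

end CfsgLib.Char
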