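import Mathlib
import Cfsg.Agent.Lib.Char.UniqueSing
import Cfsg.Agent.Lib.Char.Exceptional
import Cfsg.Agent.Lib.Char.Quick1
import Cfsg.Prelude.Def_OddOrderChar

/-!
# T.I. subgroups with Frobenius normalizer
-/

set_option linter.unusedSectionVars false
set_option linter.style.haveILetI false
set_option linter.unusedSimpArgs false
set_option linter.unusedVariables false

namespace CfsgLib.Char

open Module Cfsg
open scoped ComplexConjugate

universe u

section Abstract

variable {X : Type u} [Group X] [Fintype X] (K : Subgroup X) [hK : K.Normal] [Fintype K]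

theorem frob_ind_vanish (φ : K → ℂ) {x : X} (hx : x ∉ K) : indFun K φ x = 0 := by
  rw [indFun_def]
  apply mul_eq_zero_of_right
  apply Finset.sum_eq_zero
  intro y _
  apply extendByZero_of_not_mem
  intro h2
  apply hx
  have h3 := hK.conj_mem _ h2 y
  have h4 : y * (y⁻¹ * x * y) * y⁻¹ = x := by group
  rwa [h4] at h3

variable (hC : ∀ n ∈ K, n ≠ 1 → Subgroup.centralizer ({n} : Set X) ≤ K)

include hC

theorem frob_inert {φ : K → ℂ} (hφ : IsIrrCharacter K φ) (hφ1 : φ ≠ fun _ => 1) (g : X) :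
    conjOn K g φ = φ ↔ g ∈ K := by
  classical
  constructor
  · intro hg
    let α : K ≃* K := (MulAut.conjNormal g : MulAut K)
    have hcount := card_fixed_classes_eq_card_fixed_irr α
    have hαapp : ∀ h : K, ((α h : K) : X) = g * h * g⁻¹ := fun h => MulAut.conjNormal_apply g h
    have hα : φ ∘ α = φ := by
      funext h
      have h0 := congrFun hg h
      rw [conjOn_apply] at h0
      rw [Function.comp_apply, ← h0]
      exact congrArg φ (Subtype.ext (hαapp h))
    have h2 : 1 < Nat.card {χ : IrrCharacter K // (χ : K → ℂ) ∘ α = (χ : K → ℂ)} := by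
      apply (Finite.one_lt_card_iff_nontrivial).mpr
      refine ⟨⟨⟨⟨φ, hφ⟩, hα⟩, ⟨⟨fun _ => 1, isIrrCharacter_one⟩, rfl⟩, ?_⟩⟩
      intro h
      exact hφ1 (congrArg (fun y => y.1.1) h)
    rw [← hcount] at h2
    haveI := (Finite.one_lt_card_iff_nontrivial).mp h2
    have hmkone : ConjClasses.map α.toMonoidHom (ConjClasses.mk (1 : K)) = ConjClasses.mk 1 := by
      show ConjClasses.mk (α 1) = _
      rw [map_one]
    obtain ⟨C, hC'⟩ := exists_ne (⟨ConjClasses.mk 1, hmkone⟩ : {C : ConjClasses K // ConjClasses.map α.toMonoidHom C = C})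
    obtain ⟨C, hCfix⟩ := C
    obtain ⟨k, rfl⟩ := ConjClasses.mk_surjective C
    have hk1 : k ≠ 1 := by
      rintro rfl
      exact hC' rfl
    have h3 : ConjClasses.mk (α k) = ConjClasses.mk k := hCfix
    have h4 : IsConj (α k) k := ConjClasses.mk_eq_mk_iff_isConj.mp h3
    obtain ⟨c, hc⟩ := isConj_iff.mp h4
    have h5 : (c : X) * (g * k * g⁻¹) * (c : X)⁻¹ = k := by
      have := congrArg (Subtype.val) hc
      simpa [hαapp] using this
    have h6 : (c : X) * g ∈ Subgroup.centralizer ({(k : X)} : Set X) := by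
      rw [Subgroup.mem_centralizer_singleton_iff]
      calc (c : X) * g * k = ((c : X) * (g * k * g⁻¹) * (c : X)⁻¹) * ((c : X) * g) := by group
        _ = k * ((c : X) * g) := by rw [h5]
    have h7 := hC k k.2 (fun h => hk1 (Subtype.ext h)) h6
    have := K.mul_mem (K.inv_mem c.2) h7
    simpa using this
  · intro hg
    funext h
    simp only [conjOn_apply]
    exact hφ.isClassFunction h ⟨g, hg⟩

theorem frob_ind_norm {φ : K → ℂ} (hφ : IsIrrCharacter K φ) (hφ1 : φ ≠ fun _ => 1) :
    classInner (indFun K φ) (indFun K φ) = 1 := by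
  have hcard : Nat.card {g : X // conjOn K g φ = φ} = Nat.card K :=
    Nat.card_congr (Equiv.subtypeEquivRight (frob_inert K hC hφ hφ1))
  have := card_mul_classInner_ind K hφ
  rw [hcard] at this
  exact mul_left_cancel₀ (card_subgroup_ne_zero K) (this.trans (mul_one _).symm)

theorem frob_ind_irr {φ : K → ℂ} (hφ : IsIrrCharacter K φ) (hφ1 : φ ≠ fun _ => 1) : IsIrrCharacter X (indFun K φ) :=
  (isCharacter_indFun K hφ.isCharacter).isIrr_of_norm (frob_ind_norm K hC hφ hφ1)

theorem frob_ind_inner {φ : K → ℂ} (hφ : IsIrrCharacter K φ) (hφ1 : φ ≠ fun _ => 1) :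
    classInner (fun k : K => indFun K φ k) φ = 1 := by
  rw [← frobenius' K φ (frob_ind_irr K hC hφ hφ1).isClassFunction, frob_ind_norm K hC hφ hφ1]

theorem frob_ind_relevant {φ : K → ℂ} (hφ : IsIrrCharacter K φ) (hφ1 : φ ≠ fun _ => 1) :
    ∃ k ∈ K, indFun K φ k ≠ indFun K φ 1 := by
  by_contra hcon
  push Not at hcon
  have h1 := frob_ind_inner K hC hφ hφ1
  have h2 : (fun k : K => indFun K φ k) = (indFun K φ 1) • (fun _ => (1 : ℂ)) := by
    funext k
    rw [hcon k k.2]
    simp
  rw [h2, classInner_smul_left, classInner_irr_ne isIrrCharacter_one hφ (Ne.symm hφ1), mul_zero] at h1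
  exact zero_ne_one h1

theorem frob_relevant {χ : X → ℂ} (hχ : IsIrrCharacter X χ) (hker : ∃ n ∈ K, χ n ≠ χ 1) :
    ∃ φ : K → ℂ, IsIrrCharacter K φ ∧ φ ≠ (fun _ => 1) ∧ χ = indFun K φ := by
  classical
  obtain ⟨φ, hφ, h⟩ := exists_irr_induced_of_centralizer_le K hC hχ hker
  refine ⟨φ, hφ, ?_, h⟩
  rintro rfl
  obtain ⟨n, hn, hne⟩ := hker
  apply hne
  have h1 := ker_le_iff_indFun K K le_rfl (fun _ => (1 : ℂ)) isIrrCharacter_one
  rw [h]
  exact (h1.mp fun _ _ => rfl) n hn

theorem relevant_vanish {χ : X → ℂ} (hχ : IsIrrCharacter X χ) (hker : ∃ n ∈ K, χ n ≠ χ 1) {x : X} (hx : x ∉ K) :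
    χ x = 0 := by
  obtain ⟨φ, -, -, rfl⟩ := frob_relevant K hC hχ hker
  exact frob_ind_vanish K φ hx

theorem relevant_sum_zero {χ : X → ℂ} (hχ : IsIrrCharacter X χ) (hker : ∃ n ∈ K, χ n ≠ χ 1) :
    ∑ k : K, χ k = 0 := by
  classical
  have h0 : classInner (fun k : K => χ k) (fun _ => (1 : ℂ)) = 0 := by
    by_contra hne
    obtain ⟨n, hn, hn1⟩ := hker
    have h1 := clifford_invariant K hχ isIrrCharacter_one (fun g => by funext m; rfl) hne
    have h2 := congrFun h1 ⟨n, hn⟩
    have h3 := congrFun h1 1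
    simp only [Pi.smul_apply, smul_eq_mul, mul_one] at h2 h3
    apply hn1
    rw [h2]
    exact h3.symm
  rw [classInner_def] at h0
  have h1 := (mul_eq_zero.mp h0).resolve_left (inv_ne_zero (card_ne_zero_C K))
  simpa using h1

/-- A unique relevant character. -/
theorem frob_unique_relevant (hab : ∀ a b : K, a * b = b * a) (χ₀ : X → ℂ) (hχ₀ : IsIrrCharacter X χ₀)
    (hker : ∃ n ∈ K, χ₀ n ≠ χ₀ 1)
    (huniq : ∀ χ, IsIrrCharacter X χ → (∃ n ∈ K, χ n ≠ χ 1) → χ = χ₀) :
    Nat.card K = K.index + 1 ∧ ∀ k k' : K, k ≠ 1 → k' ≠ 1 → IsConj (k : X) (k' : X) := by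
  classical
  obtain ⟨φ₀, hφ₀, hφ₀1, hχ₀φ⟩ := frob_relevant K hC hχ₀ hker
  have horb : (conjOrbit K φ₀).card = K.index := by
    rw [← index_inertia_eq K hφ₀]
    congr 1
    ext g
    rw [mem_inertiaGroup]
    exact frob_inert K hC hφ₀ hφ₀1 g
  have hirr := card_irr_eq (G := K)
  have hcl : Nat.card (ConjClasses K) = Nat.card K := by
    symm
    apply Nat.card_congr
    refine Equiv.ofBijective ConjClasses.mk ⟨?_, ConjClasses.mk_surjective⟩
    intro u v h
    rw [ConjClasses.mk_eq_mk_iff_isConj] at h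
    obtain ⟨c, hc⟩ := isConj_iff.mp h
    rw [← hc, hab c u]
    group
  rw [hcl] at hirr
  let one : IrrCharacter K := ⟨fun _ => 1, isIrrCharacter_one⟩
  have h2 : conjOrbit K φ₀ = (Finset.univ.erase one).image (fun ψ : IrrCharacter K => (ψ : K → ℂ)) := by
    ext ψ
    simp only [mem_conjOrbit, Finset.mem_image, Finset.mem_erase, Finset.mem_univ, and_true]
    constructor
    · rintro ⟨g, rfl⟩
      refine ⟨⟨_, isIrr_conjOn K g hφ₀⟩, ?_, rfl⟩
      intro h3
      apply hφ₀1
      have h4 : conjOn K g φ₀ = fun _ => 1 := congrArg Subtype.val h3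
      funext m
      have hm : g⁻¹ * (m : X) * g ∈ K := by
        have := hK.conj_mem _ m.2 g⁻¹
        simpa using this
      have h5 := congrFun h4 ⟨_, hm⟩
      simp only [conjOn_apply] at h5
      rw [← h5]
      apply congrArg φ₀
      apply Subtype.ext
      simp only
      group
    · rintro ⟨ψ, hψ, rfl⟩
      have hψ' : (ψ : K → ℂ) ≠ fun _ => 1 := fun h => hψ (Subtype.ext h)
      have h3 := huniq _ (frob_ind_irr K hC ψ.2 hψ') (frob_ind_relevant K hC ψ.2 hψ')
      apply constituents_conj K hχ₀ hφ₀ ψ.2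
      · rw [hχ₀φ, frob_ind_inner K hC hφ₀ hφ₀1]
        exact one_ne_zero
      · rw [← h3, frob_ind_inner K hC ψ.2 hψ']
        exact one_ne_zero
  have hcardK : K.index = Nat.card K - 1 := by
    rw [← horb, h2, Finset.card_image_of_injective _ Subtype.val_injective, Finset.card_erase_of_mem (Finset.mem_univ _),
      Finset.card_univ, ← Nat.card_eq_fintype_card, hirr]
  have hpos : 0 < Nat.card K := Nat.card_pos
  have hcard : Nat.card K = K.index + 1 := by omega
  refine ⟨hcard, ?_⟩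
  have hconj : ∀ k : K, k ≠ 1 → ∀ k' : K, k' ≠ 1 → IsConj (k : X) (k' : X) := by
    intro k hk
    have hk0 : (k : X) ≠ 1 := fun h => hk (Subtype.ext h)
    have hcent : Subgroup.centralizer ({(k : X)} : Set X) = K := by
      apply le_antisymm (hC k k.2 hk0)
      intro c hc
      rw [Subgroup.mem_centralizer_singleton_iff]
      exact congrArg Subtype.val (hab ⟨c, hc⟩ k)
    have hcl1 : Nat.card {y // IsConj (k : X) y} = K.index := by
      rw [← index_centralizer_eq, hcent]
    let f : {y // IsConj (k : X) y} → {k' : K // k' ≠ 1} := fun y =>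
      ⟨⟨y.1, by
        obtain ⟨c, hc⟩ := isConj_iff.mp y.2
        rw [← hc]
        exact hK.conj_mem _ k.2 c⟩, by
        intro h1
        have h2 : y.1 = 1 := congrArg Subtype.val h1
        have h3 := y.2
        rw [h2, isConj_one_left] at h3
        exact hk0 h3⟩
    have hfinj : Function.Injective f := by
      intro y y' h
      apply Subtype.ext
      exact congrArg (fun z : {k' : K // k' ≠ 1} => ((z : K) : X)) h
    have hcardne : Nat.card {k' : K // k' ≠ 1} = K.index := by
      rw [card_ne_one_eq, hcard]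
      omega
    have hbij : Function.Surjective f := by
      have : Function.Bijective f := by
        apply (Nat.bijective_iff_injective_and_card f).mpr
        exact ⟨hfinj, by rw [hcl1, hcardne]⟩
      exact this.2
    intro k' hk'
    obtain ⟨y, hy⟩ := hbij ⟨k', hk'⟩
    have h3 : y.1 = (k' : X) := congrArg (fun z : {k' : K // k' ≠ 1} => ((z : K) : X)) hy
    rw [← h3]
    exact y.2
  exact fun k k' h1 h2 => hconj k h1 k' h2

end Abstract

section Concrete

variable {G : Type u} [Group G] [Fintype G] (K : Subgroup G)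

theorem centralizer_subgroupOf_le (hC : ∀ k ∈ K, k ≠ 1 → Subgroup.centralizer ({k} : Set G) ≤ K) :
    ∀ n ∈ K.subgroupOf (Subgroup.normalizer (K : Set G)), n ≠ 1 →
      Subgroup.centralizer ({n} : Set ↥(Subgroup.normalizer (K : Set G))) ≤ K.subgroupOf (Subgroup.normalizer (K : Set G)) := by
  intro n hn hn1 c hc
  rw [Subgroup.mem_subgroupOf] at hn ⊢
  apply hC _ hn (fun h => hn1 (Subtype.ext h))
  rw [Subgroup.mem_centralizer_singleton_iff] at hc ⊢
  exact congrArg Subtype.val hc

/-- S0851 -/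
theorem s0851_main (hTI : ∀ g : G, g ∉ Subgroup.normalizer (K : Set G) → ∀ k ∈ K, g * k * g⁻¹ ∈ K → k = 1)
    (hlt : K < Subgroup.normalizer (K : Set G)) (hC : ∀ k ∈ K, k ≠ 1 → Subgroup.centralizer ({k} : Set G) ≤ K)
    (hab : ∀ a ∈ K, ∀ b ∈ K, a * b = b * a) :
    (Nat.card {χ : IrrCharacter (Subgroup.normalizer (K : Set G)) // ∃ k : Subgroup.normalizer (K : Set G), (k : G) ∈ K ∧
        (χ : ↥(Subgroup.normalizer (K : Set G)) → ℂ) k ≠ (χ : ↥(Subgroup.normalizer (K : Set G)) → ℂ) 1} = 1 ∧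
      ∃ p : ℕ, p.Prime ∧ IsElementaryAbelian p K ∧ Nat.card K = (K.subgroupOf (Subgroup.normalizer (K : Set G))).index + 1) ∨
    ∃ (ε : ℂ) (f : {χ : IrrCharacter (Subgroup.normalizer (K : Set G)) // ∃ k : Subgroup.normalizer (K : Set G), (k : G) ∈ K ∧
        (χ : ↥(Subgroup.normalizer (K : Set G)) → ℂ) k ≠ (χ : ↥(Subgroup.normalizer (K : Set G)) → ℂ) 1} → IrrCharacter G),
      (ε = 1 ∨ ε = -1) ∧ Function.Injective f ∧ ∀ χ ξ, indFun (Subgroup.normalizer (K : Set G))
        ((χ.1 : ↥(Subgroup.normalizer (K : Set G)) → ℂ) - (ξ.1 : ↥(Subgroup.normalizer (K : Set G)) → ℂ)) =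
          ε • ((f χ : G → ℂ) - (f ξ : G → ℂ)) := by
  classical
  letI : Fintype (Subgroup.normalizer (K : Set G)) := Fintype.ofFinite _
  haveI hK' : (K.subgroupOf (Subgroup.normalizer (K : Set G))).Normal := Subgroup.normal_in_normalizer
  letI : Fintype (K.subgroupOf (Subgroup.normalizer (K : Set G))) := Fintype.ofFinite _
  have hC' := centralizer_subgroupOf_le K hC
  have hmem : ∀ n : Subgroup.normalizer (K : Set G), n ∈ K.subgroupOf (Subgroup.normalizer (K : Set G)) ↔ (n : G) ∈ K :=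
    fun n => Subgroup.mem_subgroupOf
  have hrel : ∀ χ : Subgroup.normalizer (K : Set G) → ℂ,
      (∃ k : Subgroup.normalizer (K : Set G), (k : G) ∈ K ∧ χ k ≠ χ 1) ↔
        ∃ n ∈ K.subgroupOf (Subgroup.normalizer (K : Set G)), χ n ≠ χ 1 := by
    intro χ
    constructor
    · rintro ⟨k, hk, h⟩
      exact ⟨k, (hmem k).mpr hk, h⟩
    · rintro ⟨k, hk, h⟩
      exact ⟨k, (hmem k).mp hk, h⟩
  have hab' : ∀ a b : K.subgroupOf (Subgroup.normalizer (K : Set G)), a * b = b * a := by
    intro a b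
    apply Subtype.ext
    apply Subtype.ext
    exact hab _ ((hmem _).mp a.2) _ ((hmem _).mp b.2)
  by_cases ht : Nat.card {χ : IrrCharacter (Subgroup.normalizer (K : Set G)) // ∃ k : Subgroup.normalizer (K : Set G), (k : G) ∈ K ∧
        (χ : ↥(Subgroup.normalizer (K : Set G)) → ℂ) k ≠ (χ : ↥(Subgroup.normalizer (K : Set G)) → ℂ) 1} = 1
  · left
    refine ⟨ht, ?_⟩
    obtain ⟨hs, hn⟩ := Nat.card_eq_one_iff_unique.mp ht
    obtain ⟨⟨χ₀, h₀⟩⟩ := hn
    obtain ⟨hcard, hconj⟩ := frob_unique_relevant _ hC' hab' χ₀ χ₀.2 ((hrel _).mp h₀) (by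
      intro χ hχ hker
      have := Subsingleton.elim (⟨⟨χ, hχ⟩, (hrel _).mpr hker⟩ : {χ : IrrCharacter (Subgroup.normalizer (K : Set G)) // ∃ k : Subgroup.normalizer (K : Set G), (k : G) ∈ K ∧
        (χ : ↥(Subgroup.normalizer (K : Set G)) → ℂ) k ≠ (χ : ↥(Subgroup.normalizer (K : Set G)) → ℂ) 1}) ⟨χ₀, h₀⟩
      exact congrArg (fun z => z.1.1) this)
    have hcardK : Nat.card K = Nat.card (K.subgroupOf (Subgroup.normalizer (K : Set G))) :=
      Nat.card_congr (Subgroup.subgroupOfEquivOfLe hlt.le).symm.toEquiv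
    have hK1 : Nat.card (K.subgroupOf (Subgroup.normalizer (K : Set G))) ≠ 1 := by
      rw [hcard]
      have : (K.subgroupOf (Subgroup.normalizer (K : Set G))).index ≠ 0 := Subgroup.index_ne_zero_of_finite
      omega
    obtain ⟨p, hp, hpd⟩ := Nat.exists_prime_and_dvd hK1
    haveI : Fact p.Prime := ⟨hp⟩
    obtain ⟨y, hy⟩ := exists_prime_orderOf_dvd_card' p hpd
    have hy1 : y ≠ 1 := by
      rintro rfl
      rw [orderOf_one] at hy
      exact hp.one_lt.ne hy
    have hyp : y ^ p = 1 := by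
      rw [← hy]
      exact pow_orderOf_eq_one y
    refine ⟨p, hp, ⟨⟨⟨fun a b => ?_⟩⟩, ?_⟩, ?_⟩
    · exact Subtype.ext (hab _ a.2 _ b.2)
    · intro a ha
      have haN : a ∈ Subgroup.normalizer (K : Set G) := hlt.le ha
      let a' : K.subgroupOf (Subgroup.normalizer (K : Set G)) := ⟨⟨a, haN⟩, (hmem _).mpr ha⟩
      by_cases ha1 : a' = 1
      · have : a = 1 := congrArg (fun z : K.subgroupOf (Subgroup.normalizer (K : Set G)) => ((z : Subgroup.normalizer (K : Set G)) : G)) ha1
        rw [this, one_pow]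
      · obtain ⟨c, hc⟩ := isConj_iff.mp (hconj y a' hy1 ha1)
        have hyp' : (((y : Subgroup.normalizer (K : Set G)) : G)) ^ p = 1 := by
          have := congrArg (fun z : K.subgroupOf (Subgroup.normalizer (K : Set G)) => ((z : Subgroup.normalizer (K : Set G)) : G)) hyp
          simpa using this
        have h1 : (c : G) * ((y : Subgroup.normalizer (K : Set G)) : G) * (c : G)⁻¹ = a :=
          congrArg Subtype.val hc
        rw [← h1, conj_pow, hyp']
        group
    · rw [hcardK, hcard]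
  · right
    by_cases ht0 : Nat.card {χ : IrrCharacter (Subgroup.normalizer (K : Set G)) // ∃ k : Subgroup.normalizer (K : Set G), (k : G) ∈ K ∧
        (χ : ↥(Subgroup.normalizer (K : Set G)) → ℂ) k ≠ (χ : ↥(Subgroup.normalizer (K : Set G)) → ℂ) 1} = 0
    · have hE : IsEmpty {χ : IrrCharacter (Subgroup.normalizer (K : Set G)) // ∃ k : Subgroup.normalizer (K : Set G), (k : G) ∈ K ∧
        (χ : ↥(Subgroup.normalizer (K : Set G)) → ℂ) k ≠ (χ : ↥(Subgroup.normalizer (K : Set G)) → ℂ) 1} := by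
        exact (Finite.card_eq_zero_iff).mp ht0
      exact ⟨1, fun χ => hE.elim χ, Or.inl rfl, fun χ => hE.elim χ, fun χ => hE.elim χ⟩
    · set t := Nat.card {χ : IrrCharacter (Subgroup.normalizer (K : Set G)) // ∃ k : Subgroup.normalizer (K : Set G), (k : G) ∈ K ∧
        (χ : ↥(Subgroup.normalizer (K : Set G)) → ℂ) k ≠ (χ : ↥(Subgroup.normalizer (K : Set G)) → ℂ) 1} with hth
      have hn : 2 ≤ t := by omega
      have e : Fin t ≃ {χ : IrrCharacter (Subgroup.normalizer (K : Set G)) // ∃ k : Subgroup.normalizer (K : Set G), (k : G) ∈ K ∧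
        (χ : ↥(Subgroup.normalizer (K : Set G)) → ℂ) k ≠ (χ : ↥(Subgroup.normalizer (K : Set G)) → ℂ) 1} :=
        (Finite.equivFinOfCardEq hth.symm).symm
      let χf : Fin t → (Subgroup.normalizer (K : Set G) → ℂ) := fun i => ((e i).1 : Subgroup.normalizer (K : Set G) → ℂ)
      have hdeg : ∀ i, χf i 1 = ((K.subgroupOf (Subgroup.normalizer (K : Set G))).index : ℂ) := by
        intro i
        obtain ⟨φ, hφ, hφ1, hφe⟩ := frob_relevant _ hC' (e i).1.2 ((hrel _).mp (e i).2)
        have h1 : χf i = indFun _ φ := hφe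
        rw [h1, indFun_one, isIrr_degree_one_of_comm hab' hφ, mul_one]
      obtain ⟨ε, hε, θ, hθ, hθinj, hrel2⟩ := exceptional_characters (K : Set G) hTI t hn χf (fun i => (e i).1.2)
        (fun i j h => e.injective (Subtype.ext (Subtype.ext h)))
        (fun i x hx => relevant_vanish _ hC' (e i).1.2 ((hrel _).mp (e i).2) (fun h => hx ((hmem x).mp h)))
        (fun i j => by rw [hdeg, hdeg])
      refine ⟨ε, fun χ => ⟨θ (e.symm χ), hθ _⟩, hε, ?_, ?_⟩
      · intro χ ξ h
        have h1 : θ (e.symm χ) = θ (e.symm ξ) := congrArg Subtype.val h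
        exact e.symm.injective (hθinj h1)
      · intro χ ξ
        rw [indFun_sub]
        have h1 := hrel2 (e.symm χ) (e.symm ξ)
        simp only [χf, Equiv.apply_symm_apply] at h1
        exact h1

end Concrete

end CfsgLib.Char
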