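import Mathlib
import Cfsg.Agent.Lib.Char.FrobTI

/-!
# Coherence for a T.I. subgroup with Frobenius normalizer
-/

set_option linter.unusedSectionVars false
set_option linter.style.haveILetI false
set_option linter.unusedSimpArgs false
set_option linter.unusedVariables false

namespace CfsgLib.Char

open Module Cfsg
open scoped ComplexConjugate

universe u

variable {G : Type u} [Group G] [Fintype G]

/-- The normalizer as a type. -/
abbrev NK (K : Subgroup G) := ↥(Subgroup.normalizer (K : Set G))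

/-- The hypotheses of the coherence theorems. -/
structure FC (K : Subgroup G) [Fintype (NK K)] (S : Set (NK K → ℂ)) (star : (NK K → ℂ) → (G → ℂ)) : Prop where
  hTI : ∀ g : G, g ∉ Subgroup.normalizer (K : Set G) → ∀ k ∈ K, g * k * g⁻¹ ∈ K → k = 1
  hlt : K < Subgroup.normalizer (K : Set G)
  hC : ∀ k ∈ K, k ≠ 1 → Subgroup.centralizer ({k} : Set G) ≤ K
  hS : S = {χ | IsIrrCharacter (NK K) χ ∧ ∃ k : NK K, (k : G) ∈ K ∧ χ k ≠ χ 1}
  htwo : ∃ χ ∈ S, ∃ ξ ∈ S, χ ≠ ξ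
  hstar : IsLinearIsometryOn (zspan S) star
  hext : ∀ α ∈ zspanOn S ({1}ᶜ : Set (NK K)), star α = indFun (Subgroup.normalizer (K : Set G)) α

variable {K : Subgroup G} [Fintype (NK K)] {S : Set (NK K → ℂ)} {star : (NK K → ℂ) → (G → ℂ)}

theorem irr_one_eq {A : Type*} [Group A] {χ : A → ℂ} (hχ : IsIrrCharacter A χ) : χ 1 = charDegree χ := by
  obtain ⟨d, -, hd⟩ := hχ.map_one
  rw [charDegree_eq hd, hd]

theorem irr_charDegree_pos {A : Type*} [Group A] {χ : A → ℂ} (hχ : IsIrrCharacter A χ) : 0 < charDegree χ := by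
  obtain ⟨d, hd0, hd⟩ := hχ.map_one
  rw [charDegree_eq hd]
  exact hd0

/-- A difference of degree multiples. -/
noncomputable def dif {A : Type*} [Group A] (χ ξ : A → ℂ) : A → ℂ :=
  ((charDegree ξ : ℕ) : ℤ) • χ - ((charDegree χ : ℕ) : ℤ) • ξ

theorem dif_apply {A : Type*} [Group A] (χ ξ : A → ℂ) (x : A) :
    dif χ ξ x = (charDegree ξ : ℂ) * χ x - (charDegree χ : ℂ) * ξ x := by
  simp [dif]

theorem dif_eq {A : Type*} [Group A] (χ ξ : A → ℂ) :
    dif χ ξ = ((charDegree ξ : ℕ) : ℂ) • χ - ((charDegree χ : ℕ) : ℂ) • ξ := by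
  funext x
  rw [dif_apply]
  simp

/-- Sum of a generalized character. -/
theorem gen_sum_int {A : Type*} [Group A] [Fintype A] {θ : A → ℂ} (hθ : IsGeneralizedCharacter A θ) :
    ∃ n : ℤ, ∑ a, θ a = (Nat.card A : ℂ) * n := by
  have key : ∀ {φ : A → ℂ}, IsCharacter A φ → ∃ n : ℕ, ∑ a, φ a = (Nat.card A : ℂ) * n := by
    intro φ hφ
    obtain ⟨n, hn⟩ := hφ.classInner_nat (isIrrCharacter_one (G := A))
    refine ⟨n, ?_⟩
    rw [classInner_def] at hn
    rw [← hn]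
    have : (Nat.card A : ℂ) ≠ 0 := card_ne_zero_C A
    simp only [map_one, mul_one]
    field_simp
  obtain ⟨φ₁, φ₂, h₁, h₂, rfl⟩ := hθ
  obtain ⟨n₁, hn₁⟩ := key h₁
  obtain ⟨n₂, hn₂⟩ := key h₂
  refine ⟨(n₁ : ℤ) - n₂, ?_⟩
  simp only [Pi.sub_apply, Finset.sum_sub_distrib, hn₁, hn₂]
  push_cast
  ring

theorem gen_one_int {A : Type*} [Group A] [Fintype A] {θ : A → ℂ} (hθ : IsGeneralizedCharacter A θ) :
    ∃ n : ℤ, θ 1 = n := by
  obtain ⟨φ₁, φ₂, h₁, h₂, rfl⟩ := hθ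
  obtain ⟨n₁, hn₁⟩ := h₁.map_one
  obtain ⟨n₂, hn₂⟩ := h₂.map_one
  refine ⟨(n₁ : ℤ) - n₂, ?_⟩
  simp [hn₁, hn₂]

theorem gen_isIntegral {A : Type*} [Group A] [Fintype A] {θ : A → ℂ} (hθ : IsGeneralizedCharacter A θ) (a : A) :
    IsIntegral ℤ (θ a) := by
  obtain ⟨φ₁, φ₂, h₁, h₂, rfl⟩ := hθ
  exact (h₁.isIntegral a).sub (h₂.isIntegral a)

theorem gen_restrict {A : Type*} [Group A] [Fintype A] (H : Subgroup A) {θ : A → ℂ} (hθ : IsGeneralizedCharacter A θ) :
    IsGeneralizedCharacter H (fun h => θ h) := by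
  obtain ⟨φ₁, φ₂, h₁, h₂, rfl⟩ := hθ
  exact ⟨_, _, h₁.restrict H, h₂.restrict H, rfl⟩

namespace FC

variable (T : FC K S star)
include T

theorem mem_S {χ : NK K → ℂ} : χ ∈ S ↔ IsIrrCharacter (NK K) χ ∧ ∃ k : NK K, (k : G) ∈ K ∧ χ k ≠ χ 1 := by
  rw [T.hS]
  rfl

theorem irr {χ : NK K → ℂ} (h : χ ∈ S) : IsIrrCharacter (NK K) χ := (T.mem_S.mp h).1

theorem mem_K' {n : NK K} : n ∈ K.subgroupOf (Subgroup.normalizer (K : Set G)) ↔ (n : G) ∈ K := Subgroup.mem_subgroupOf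

theorem rel {χ : NK K → ℂ} (h : χ ∈ S) : ∃ n ∈ K.subgroupOf (Subgroup.normalizer (K : Set G)), χ n ≠ χ 1 := by
  obtain ⟨k, hk, h1⟩ := (T.mem_S.mp h).2
  exact ⟨k, T.mem_K'.mpr hk, h1⟩

theorem hC' : ∀ n ∈ K.subgroupOf (Subgroup.normalizer (K : Set G)), n ≠ 1 →
      Subgroup.centralizer ({n} : Set (NK K)) ≤ K.subgroupOf (Subgroup.normalizer (K : Set G)) :=
  centralizer_subgroupOf_le K T.hC

theorem vanish {χ : NK K → ℂ} (h : χ ∈ S) {x : NK K} (hx : (x : G) ∉ K) : χ x = 0 := by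
  classical
  letI : Fintype (K.subgroupOf (Subgroup.normalizer (K : Set G))) := Fintype.ofFinite _
  haveI hK' : (K.subgroupOf (Subgroup.normalizer (K : Set G))).Normal := Subgroup.normal_in_normalizer
  exact relevant_vanish _ T.hC' (T.irr h) (T.rel h) (fun h' => hx (T.mem_K'.mp h'))

theorem mem_span {χ : NK K → ℂ} (h : χ ∈ S) : χ ∈ zspan S := Submodule.subset_span h

theorem dif_mem {χ ξ : NK K → ℂ} (hχ : χ ∈ S) (hξ : ξ ∈ S) : dif χ ξ ∈ zspan S :=
  Submodule.sub_mem _ (Submodule.smul_mem _ _ (T.mem_span hχ)) (Submodule.smul_mem _ _ (T.mem_span hξ))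

theorem dif_one {χ ξ : NK K → ℂ} (hχ : χ ∈ S) (hξ : ξ ∈ S) : dif χ ξ 1 = 0 := by
  rw [dif_apply, irr_one_eq (T.irr hχ), irr_one_eq (T.irr hξ)]
  ring

theorem dif_on {χ ξ : NK K → ℂ} (hχ : χ ∈ S) (hξ : ξ ∈ S) : dif χ ξ ∈ zspanOn S ({1}ᶜ : Set (NK K)) := by
  refine ⟨T.dif_mem hχ hξ, fun x hx => ?_⟩
  have hx1 : x = 1 := by simpa using hx
  rw [hx1]
  exact T.dif_one hχ hξ

theorem star_dif {χ ξ : NK K → ℂ} (hχ : χ ∈ S) (hξ : ξ ∈ S) :
    star (dif χ ξ) = ((charDegree ξ : ℕ) : ℂ) • star χ - ((charDegree χ : ℕ) : ℂ) • star ξ := by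
  have h1 := T.mem_span hχ
  have h2 := T.mem_span hξ
  have h3 : ((charDegree ξ : ℕ) : ℤ) • χ ∈ zspan S := Submodule.smul_mem _ _ h1
  have h4 : ((charDegree χ : ℕ) : ℤ) • ξ ∈ zspan S := Submodule.smul_mem _ _ h2
  have h5 : (-1 : ℤ) • (((charDegree χ : ℕ) : ℤ) • ξ) ∈ zspan S := Submodule.smul_mem _ _ h4
  have h6 : dif χ ξ = ((charDegree ξ : ℕ) : ℤ) • χ + (-1 : ℤ) • (((charDegree χ : ℕ) : ℤ) • ξ) := by
    funext x
    simp [dif, sub_eq_add_neg]
  rw [h6, T.hstar.1 _ h3 _ h5, T.hstar.2.1 _ h4, T.hstar.2.1 _ h2, T.hstar.2.1 _ h1]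
  funext x
  simp [sub_eq_add_neg]

theorem star_dif_ind {χ ξ : NK K → ℂ} (hχ : χ ∈ S) (hξ : ξ ∈ S) :
    star (dif χ ξ) = indFun (Subgroup.normalizer (K : Set G)) (dif χ ξ) := T.hext _ (T.dif_on hχ hξ)

theorem dif_isClass {χ ξ : NK K → ℂ} (hχ : χ ∈ S) (hξ : ξ ∈ S) : IsClassFunction (NK K) (dif χ ξ) := by
  intro g c
  rw [dif_apply, dif_apply, (T.irr hχ).isClassFunction, (T.irr hξ).isClassFunction]

theorem dif_vanish {χ ξ : NK K → ℂ} (hχ : χ ∈ S) (hξ : ξ ∈ S) {x : NK K} (hx : (x : G) ∉ K) : dif χ ξ x = 0 := by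
  rw [dif_apply, T.vanish hχ hx, T.vanish hξ hx]
  ring

theorem dif_value {χ ξ : NK K → ℂ} (hχ : χ ∈ S) (hξ : ξ ∈ S) {k : NK K} (hk : (k : G) ∈ K) (hk1 : k ≠ 1) :
    (charDegree ξ : ℂ) * star χ k - (charDegree χ : ℂ) * star ξ k =
      (charDegree ξ : ℂ) * χ k - (charDegree χ : ℂ) * ξ k := by
  have h1 := congrFun (T.star_dif hχ hξ) k
  have h2 := congrFun (T.star_dif_ind hχ hξ) k
  have h3 := indFun_eq_of_TI (Subgroup.normalizer (K : Set G)) (K : Set G) T.hTI _ (T.dif_isClass hχ hξ)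
    (fun x hx => T.dif_vanish hχ hξ hx) k hk hk1
  rw [h2, h3, dif_apply] at h1
  simp only [Pi.sub_apply, Pi.smul_apply, smul_eq_mul] at h1
  exact h1.symm

theorem dif_value_one {χ ξ : NK K → ℂ} (hχ : χ ∈ S) (hξ : ξ ∈ S) :
    (charDegree ξ : ℂ) * star χ 1 = (charDegree χ : ℂ) * star ξ 1 := by
  have h1 := congrFun (T.star_dif hχ hξ) 1
  have h2 := congrFun (T.star_dif_ind hχ hξ) 1
  rw [h2, indFun_one, T.dif_one hχ hξ, mul_zero] at h1
  simp only [Pi.sub_apply, Pi.smul_apply, smul_eq_mul] at h1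
  linear_combination -h1

theorem star_inner {χ ξ : NK K → ℂ} (hχ : χ ∈ S) (hξ : ξ ∈ S) : classInner (star χ) (star ξ) = classInner χ ξ :=
  T.hstar.2.2.1 _ (T.mem_span hχ) _ (T.mem_span hξ)

theorem star_gen {χ : NK K → ℂ} (hχ : χ ∈ S) : IsGeneralizedCharacter G (star χ) := T.hstar.2.2.2 _ (T.mem_span hχ)

theorem star_irr {χ : NK K → ℂ} (hχ : χ ∈ S) : IsIrrCharacter G (star χ) ∨ IsIrrCharacter G (-star χ) := by
  apply (T.star_gen hχ).exists_of_norm_one
  rw [T.star_inner hχ hχ, classInner_irr_self (T.irr hχ)]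

theorem irr_inner_of_sign {ψ a : G → ℂ} (hψ : IsIrrCharacter G ψ) (ha : IsIrrCharacter G a ∨ IsIrrCharacter G (-a))
    (h : classInner ψ a ≠ 0) : ψ = a ∨ ψ = -a := by
  classical
  rcases ha with ha | ha
  · left
    by_contra hne
    exact h (classInner_irr_ne hψ ha hne)
  · right
    by_contra hne
    apply h
    have h1 := classInner_irr_ne hψ ha hne
    have h2 : a = (-1 : ℂ) • (-a) := by simp
    rw [h2, classInner_smul_right, h1, mul_zero]

/-- Characters orthogonal to the image are constant on the non-identity elements of `K`. -/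
theorem constant_of_orth {ψ : G → ℂ} (hψ : IsIrrCharacter G ψ) (horth : ∀ χ ∈ S, classInner ψ (star χ) = 0) :
    ∃ v : ℂ, ∀ k : NK K, (k : G) ∈ K → k ≠ 1 → ψ k = v := by
  classical
  obtain ⟨χ₀, hχ₀, -, -, -⟩ := T.htwo
  have hd₀ := irr_charDegree_pos (T.irr hχ₀)
  have hd₀' : ((charDegree χ₀ : ℕ) : ℂ) ≠ 0 := Nat.cast_ne_zero.mpr hd₀.ne'
  set N := Subgroup.normalizer (K : Set G) with hN
  set res : NK K → ℂ := fun n => ψ n with hres
  have hrel : ∀ χ ∈ S, ((charDegree χ₀ : ℕ) : ℂ) * classInner res χ = ((charDegree χ : ℕ) : ℂ) * classInner res χ₀ := by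
    intro χ hχ
    have h1 : classInner ψ (star (dif χ χ₀)) = 0 := by
      rw [T.star_dif hχ hχ₀, classInner_sub_right, classInner_smul_right, classInner_smul_right, horth χ hχ,
        horth χ₀ hχ₀]
      ring
    rw [T.star_dif_ind hχ hχ₀, frobenius' N _ hψ.isClassFunction, dif_eq, classInner_sub_right, classInner_smul_right,
      classInner_smul_right] at h1
    simp only [Complex.conj_natCast] at h1
    linear_combination h1
  set c : ℂ := classInner res χ₀ / ((charDegree χ₀ : ℕ) : ℂ) with hc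
  have hc1 : ∀ χ ∈ S, classInner res χ = c * ((charDegree χ : ℕ) : ℂ) := by
    intro χ hχ
    rw [hc]
    field_simp
    linear_combination hrel χ hχ
  have hexp := (hψ.isCharacter.restrict N).eq_sum_classInner
  have hnotS : ∀ φ : IrrCharacter (NK K), (φ : NK K → ℂ) ∉ S → ∀ k : NK K, (k : G) ∈ K → (φ : NK K → ℂ) k = (φ : NK K → ℂ) 1 := by
    intro φ hφ k hk
    by_contra hne
    exact hφ (T.mem_S.mpr ⟨φ.2, k, hk, hne⟩)
  refine ⟨c * (-∑ φ ∈ Finset.univ.filter (fun φ : IrrCharacter (NK K) => (φ : NK K → ℂ) ∉ S),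
        ((charDegree (φ : NK K → ℂ) : ℕ) : ℂ) ^ 2) +
      ∑ φ ∈ Finset.univ.filter (fun φ : IrrCharacter (NK K) => (φ : NK K → ℂ) ∉ S),
        classInner res (φ : NK K → ℂ) * ((charDegree (φ : NK K → ℂ) : ℕ) : ℂ), ?_⟩
  intro k hk hk1
  have h1 : ψ k = ∑ φ : IrrCharacter (NK K), classInner res (φ : NK K → ℂ) * (φ : NK K → ℂ) k := by
    have h2 := congrFun hexp k
    rw [Finset.sum_apply] at h2
    exact h2
  have hcol := column_orthogonality k (1 : NK K)
  rw [if_neg (by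
    rw [isConj_one_left]
    exact hk1)] at hcol
  rw [← Finset.sum_filter_add_sum_filter_not Finset.univ (fun φ : IrrCharacter (NK K) => (φ : NK K → ℂ) ∉ S)] at hcol h1
  have h3 : ∑ φ ∈ Finset.univ.filter (fun φ : IrrCharacter (NK K) => (φ : NK K → ℂ) ∉ S),
      (φ : NK K → ℂ) k * conj ((φ : NK K → ℂ) 1) =
      ∑ φ ∈ Finset.univ.filter (fun φ : IrrCharacter (NK K) => (φ : NK K → ℂ) ∉ S), ((charDegree (φ : NK K → ℂ) : ℕ) : ℂ) ^ 2 := by
    refine Finset.sum_congr rfl fun φ hφ => ?_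
    rw [hnotS φ (Finset.mem_filter.mp hφ).2 k hk, irr_one_eq φ.2]
    simp [pow_two]
  have h4 : ∀ φ ∈ Finset.univ.filter (fun φ : IrrCharacter (NK K) => ¬ (φ : NK K → ℂ) ∉ S),
      (φ : NK K → ℂ) k * conj ((φ : NK K → ℂ) 1) = ((charDegree (φ : NK K → ℂ) : ℕ) : ℂ) * (φ : NK K → ℂ) k := by
    intro φ _
    rw [irr_one_eq φ.2]
    simp [mul_comm]
  have h5 : ∀ φ ∈ Finset.univ.filter (fun φ : IrrCharacter (NK K) => ¬ (φ : NK K → ℂ) ∉ S),
      classInner res (φ : NK K → ℂ) * (φ : NK K → ℂ) k = c * (((charDegree (φ : NK K → ℂ) : ℕ) : ℂ) * (φ : NK K → ℂ) k) := by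
    intro φ hφ
    have hφ' : (φ : NK K → ℂ) ∈ S := not_not.mp (Finset.mem_filter.mp hφ).2
    rw [hc1 _ hφ']
    ring
  have h6 : ∀ φ ∈ Finset.univ.filter (fun φ : IrrCharacter (NK K) => (φ : NK K → ℂ) ∉ S),
      classInner res (φ : NK K → ℂ) * (φ : NK K → ℂ) k = classInner res (φ : NK K → ℂ) * ((charDegree (φ : NK K → ℂ) : ℕ) : ℂ) := by
    intro φ hφ
    rw [hnotS φ (Finset.mem_filter.mp hφ).2 k hk, irr_one_eq φ.2]
  rw [Finset.sum_congr rfl h5, Finset.sum_congr rfl h6, ← Finset.mul_sum] at h1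
  rw [h3, Finset.sum_congr rfl h4] at hcol
  rw [h1]
  have h7 : ∑ φ ∈ Finset.univ.filter (fun φ : IrrCharacter (NK K) => ¬ (φ : NK K → ℂ) ∉ S),
      ((charDegree (φ : NK K → ℂ) : ℕ) : ℂ) * (φ : NK K → ℂ) k = -∑ φ ∈ Finset.univ.filter (fun φ : IrrCharacter (NK K) => (φ : NK K → ℂ) ∉ S),
      ((charDegree (φ : NK K → ℂ) : ℕ) : ℂ) ^ 2 := by
    linear_combination hcol
  rw [h7]
  ring

/-- Class functions whose inner products with `S` are proportional to degrees are constant on `K` away from `1`. -/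
theorem constant_of_prop {f : NK K → ℂ} (hf : IsClassFunction (NK K) f) {c : ℂ}
    (hc1 : ∀ χ ∈ S, classInner f χ = c * ((charDegree χ : ℕ) : ℂ)) :
    ∃ v : ℂ, ∀ k : NK K, (k : G) ∈ K → k ≠ 1 → f k = v := by
  classical
  have hnotS : ∀ φ : IrrCharacter (NK K), (φ : NK K → ℂ) ∉ S → ∀ k : NK K, (k : G) ∈ K → (φ : NK K → ℂ) k = (φ : NK K → ℂ) 1 := by
    intro φ hφ k hk
    by_contra hne
    exact hφ (T.mem_S.mpr ⟨φ.2, k, hk, hne⟩)
  refine ⟨c * (-∑ φ ∈ Finset.univ.filter (fun φ : IrrCharacter (NK K) => (φ : NK K → ℂ) ∉ S),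
        ((charDegree (φ : NK K → ℂ) : ℕ) : ℂ) ^ 2) +
      ∑ φ ∈ Finset.univ.filter (fun φ : IrrCharacter (NK K) => (φ : NK K → ℂ) ∉ S),
        classInner f (φ : NK K → ℂ) * ((charDegree (φ : NK K → ℂ) : ℕ) : ℂ), ?_⟩
  intro k hk hk1
  have h1 : f k = ∑ φ : IrrCharacter (NK K), classInner f (φ : NK K → ℂ) * (φ : NK K → ℂ) k :=
    classFunction_apply hf k
  have hcol := column_orthogonality k (1 : NK K)
  rw [if_neg (by
    rw [isConj_one_left]
    exact hk1)] at hcol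
  rw [← Finset.sum_filter_add_sum_filter_not Finset.univ (fun φ : IrrCharacter (NK K) => (φ : NK K → ℂ) ∉ S)] at hcol h1
  have h3 : ∑ φ ∈ Finset.univ.filter (fun φ : IrrCharacter (NK K) => (φ : NK K → ℂ) ∉ S),
      (φ : NK K → ℂ) k * conj ((φ : NK K → ℂ) 1) =
      ∑ φ ∈ Finset.univ.filter (fun φ : IrrCharacter (NK K) => (φ : NK K → ℂ) ∉ S), ((charDegree (φ : NK K → ℂ) : ℕ) : ℂ) ^ 2 := by
    refine Finset.sum_congr rfl fun φ hφ => ?_
    rw [hnotS φ (Finset.mem_filter.mp hφ).2 k hk, irr_one_eq φ.2]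
    simp [pow_two]
  have h4 : ∀ φ ∈ Finset.univ.filter (fun φ : IrrCharacter (NK K) => ¬ (φ : NK K → ℂ) ∉ S),
      (φ : NK K → ℂ) k * conj ((φ : NK K → ℂ) 1) = ((charDegree (φ : NK K → ℂ) : ℕ) : ℂ) * (φ : NK K → ℂ) k := by
    intro φ _
    rw [irr_one_eq φ.2]
    simp [mul_comm]
  have h5 : ∀ φ ∈ Finset.univ.filter (fun φ : IrrCharacter (NK K) => ¬ (φ : NK K → ℂ) ∉ S),
      classInner f (φ : NK K → ℂ) * (φ : NK K → ℂ) k = c * (((charDegree (φ : NK K → ℂ) : ℕ) : ℂ) * (φ : NK K → ℂ) k) := by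
    intro φ hφ
    have hφ' : (φ : NK K → ℂ) ∈ S := not_not.mp (Finset.mem_filter.mp hφ).2
    rw [hc1 _ hφ']
    ring
  have h6 : ∀ φ ∈ Finset.univ.filter (fun φ : IrrCharacter (NK K) => (φ : NK K → ℂ) ∉ S),
      classInner f (φ : NK K → ℂ) * (φ : NK K → ℂ) k = classInner f (φ : NK K → ℂ) * ((charDegree (φ : NK K → ℂ) : ℕ) : ℂ) := by
    intro φ hφ
    rw [hnotS φ (Finset.mem_filter.mp hφ).2 k hk, irr_one_eq φ.2]
  rw [Finset.sum_congr rfl h5, Finset.sum_congr rfl h6, ← Finset.mul_sum] at h1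
  rw [h3, Finset.sum_congr rfl h4] at hcol
  rw [h1]
  have h7 : ∑ φ ∈ Finset.univ.filter (fun φ : IrrCharacter (NK K) => ¬ (φ : NK K → ℂ) ∉ S),
      ((charDegree (φ : NK K → ℂ) : ℕ) : ℂ) * (φ : NK K → ℂ) k = -∑ φ ∈ Finset.univ.filter (fun φ : IrrCharacter (NK K) => (φ : NK K → ℂ) ∉ S),
      ((charDegree (φ : NK K → ℂ) : ℕ) : ℂ) ^ 2 := by
    linear_combination hcol
  rw [h7]
  ring

/-- `star χ - χ` is constant on `K` away from the identity. -/
theorem star_sub_const {χ : NK K → ℂ} (hχ : χ ∈ S) :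
    ∃ v : ℂ, ∀ k : NK K, (k : G) ∈ K → k ≠ 1 → star χ k - χ k = v := by
  classical
  have hd := irr_charDegree_pos (T.irr hχ)
  have hd' : ((charDegree χ : ℕ) : ℂ) ≠ 0 := Nat.cast_ne_zero.mpr hd.ne'
  set N := Subgroup.normalizer (K : Set G) with hN
  set r : NK K → ℂ := fun n => star χ n with hr
  have hcl : IsClassFunction G (star χ) := (T.star_gen hχ).isClassFunction
  set f : NK K → ℂ := fun n => r n - χ n with hf
  have hfcl : IsClassFunction (NK K) f := by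
    intro g h
    simp only [hf, hr]
    rw [(T.irr hχ).isClassFunction]
    have := hcl (g : G) (h : G)
    simp only [Subgroup.coe_mul, Subgroup.coe_inv]
    rw [this]
  have hfeq : f = r - χ := rfl
  refine T.constant_of_prop (f := f) (c := classInner f χ / ((charDegree χ : ℕ) : ℂ)) hfcl ?_ |>.imp fun v hv k hk hk1 => ?_
  · intro ξ hξ
    have h1 : classInner (star χ) (star (dif ξ χ)) = classInner r (dif ξ χ) := by
      rw [T.star_dif_ind hξ hχ]
      exact frobenius' N _ hcl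
    rw [T.star_dif hξ hχ, classInner_sub_right, classInner_smul_right, classInner_smul_right, T.star_inner hχ hξ,
      T.star_inner hχ hχ, dif_eq, classInner_sub_right, classInner_smul_right, classInner_smul_right] at h1
    simp only [Complex.conj_natCast] at h1
    rw [hfeq, classInner_sub_left, classInner_sub_left]
    field_simp
    linear_combination -h1
  · exact hv k hk hk1

/-- The constant `c` with `star χ k - χ k = c * χ 1` on `K` away from the identity. -/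
theorem exists_c : ∃ c : ℂ, ∀ χ ∈ S, ∀ k : NK K, (k : G) ∈ K → k ≠ 1 →
    star χ k - χ k = c * ((charDegree χ : ℕ) : ℂ) := by
  obtain ⟨χ₀, hχ₀, -, -, -⟩ := T.htwo
  have hd₀ := irr_charDegree_pos (T.irr hχ₀)
  have hd₀' : ((charDegree χ₀ : ℕ) : ℂ) ≠ 0 := Nat.cast_ne_zero.mpr hd₀.ne'
  obtain ⟨v, hv⟩ := T.star_sub_const hχ₀
  refine ⟨v / ((charDegree χ₀ : ℕ) : ℂ), fun χ hχ k hk hk1 => ?_⟩
  have h1 := T.dif_value hχ hχ₀ hk hk1
  have h2 := hv k hk hk1
  field_simp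
  linear_combination h1 + ((charDegree χ : ℕ) : ℂ) * h2

/-- There is a non-identity element of `K`. -/
theorem exists_ne_one : ∃ k : NK K, (k : G) ∈ K ∧ k ≠ 1 := by
  obtain ⟨χ₀, hχ₀, -, -, -⟩ := T.htwo
  obtain ⟨k, hk, h1⟩ := (T.mem_S.mp hχ₀).2
  refine ⟨k, hk, ?_⟩
  rintro rfl
  exact h1 rfl

/-- `χ ∈ S` is not constant away from `1`. -/
theorem not_constant {χ : NK K → ℂ} (hχ : χ ∈ S) {v : ℂ} (hv : ∀ k : NK K, (k : G) ∈ K → k ≠ 1 → χ k = v) : False := by
  classical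
  letI : Fintype (K.subgroupOf (Subgroup.normalizer (K : Set G))) := Fintype.ofFinite _
  haveI hK' : (K.subgroupOf (Subgroup.normalizer (K : Set G))).Normal := Subgroup.normal_in_normalizer
  set K' := K.subgroupOf (Subgroup.normalizer (K : Set G)) with hK'def
  obtain ⟨ξ, hξ, hne⟩ : ∃ ξ ∈ S, ξ ≠ χ := by
    obtain ⟨a, ha, b, hb, hab⟩ := T.htwo
    by_cases h : a = χ
    · exact ⟨b, hb, fun h2 => hab (h.trans h2.symm)⟩
    · exact ⟨a, ha, h⟩
  have hsumχ := relevant_sum_zero K' T.hC' (T.irr hχ) (T.rel hχ)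
  have hsumξ := relevant_sum_zero K' T.hC' (T.irr hξ) (T.rel hξ)
  have hin : classInner ξ χ = 0 := classInner_irr_ne (T.irr hξ) (T.irr hχ) hne
  rw [classInner_def] at hin
  have h1 := (mul_eq_zero.mp hin).resolve_left (inv_ne_zero (card_ne_zero_C _))
  -- Reduce the sum to `K'`.
  have h2 : ∑ g : NK K, ξ g * conj (χ g) = ∑ k : K', ξ k * conj (χ k) := by
    rw [sum_eq_sum_subgroup K' (fun g => ξ g * conj (χ g))]
    intro g hg
    have : (g : G) ∉ K := fun h => hg (T.mem_K'.mpr h)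
    rw [T.vanish hξ this, zero_mul]
  rw [h2] at h1
  have hval : ∀ k : K', χ k = v + if k = 1 then χ 1 - v else 0 := by
    intro k
    by_cases hk : k = 1
    · subst hk
      simp
    · rw [if_neg hk, add_zero]
      apply hv k.1 (T.mem_K'.mp k.2)
      intro h
      exact hk (Subtype.ext h)
  have h3 : ∑ k : K', χ k = (Nat.card K' : ℂ) * v + (χ 1 - v) := by
    rw [Finset.sum_congr rfl (fun k _ => hval k), Finset.sum_add_distrib, Finset.sum_const,
      Finset.sum_ite_eq' Finset.univ (1 : K')]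
    simp [Nat.card_eq_fintype_card]
  have h4 : ∑ k : K', ξ k * conj (χ k) = conj v * ∑ k : K', ξ k + ξ 1 * conj (χ 1 - v) := by
    rw [Finset.mul_sum]
    rw [Finset.sum_congr rfl (fun k _ => by rw [hval k, map_add, mul_add, mul_comm (ξ k) (conj v)] :
      ∀ k ∈ (Finset.univ : Finset K'), ξ k * conj (χ k) = conj v * ξ k + ξ k * conj (if k = 1 then χ 1 - v else 0))]
    rw [Finset.sum_add_distrib]
    congr 1
    rw [Finset.sum_eq_single (1 : K')]
    · simp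
    · intro b _ hb
      rw [if_neg hb, map_zero, mul_zero]
    · intro h
      exact absurd (Finset.mem_univ _) h
  rw [h4, hsumξ, mul_zero, zero_add] at h1
  have hξ1 : ξ 1 ≠ 0 := (T.irr hξ).map_one_ne_zero
  have h5 : conj (χ 1 - v) = 0 := by
    exact (mul_eq_zero.mp h1).resolve_left hξ1
  have h6 : χ 1 - v = 0 := by
    have h9 := congrArg conj h5
    simpa using h9
  have h7 : (Nat.card K' : ℂ) * v = 0 := by
    rw [hsumχ] at h3
    rw [h6, add_zero] at h3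
    exact h3.symm
  have h8 : v = 0 := (mul_eq_zero.mp h7).resolve_left (card_ne_zero_C _)
  apply (T.irr hχ).map_one_ne_zero
  rw [h8] at h6
  simpa using h6

/-- The first half of the constant theorem. -/
theorem s0852_main {ψ : G → ℂ} (hψ : IsIrrCharacter G ψ) :
    (∃ χ ∈ S, ψ = star χ ∨ ψ = -star χ) ↔ ∃ a ∈ K, ∃ b ∈ K, a ≠ 1 ∧ b ≠ 1 ∧ ψ a ≠ ψ b := by
  classical
  obtain ⟨c, hc⟩ := T.exists_c
  have hle : K ≤ Subgroup.normalizer (K : Set G) := T.hlt.le
  constructor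
  · rintro ⟨χ, hχ, hcase⟩
    by_contra hcon
    push Not at hcon
    obtain ⟨k₀, hk₀, hk₀1⟩ := T.exists_ne_one
    have hk₀1' : (k₀ : G) ≠ 1 := fun h => hk₀1 (Subtype.ext h)
    have hsame : ∀ k : NK K, (k : G) ∈ K → k ≠ 1 → ψ k = ψ k₀ := by
      intro k hk hk1
      exact hcon _ hk _ hk₀ (fun h => hk1 (Subtype.ext h)) hk₀1'
    apply T.not_constant hχ (v := star χ k₀ - c * ((charDegree χ : ℕ) : ℂ))
    intro k hk hk1
    have h1 := hc χ hχ k hk hk1
    have h2 := hc χ hχ k₀ hk₀ hk₀1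
    have h3 : star χ k = star χ k₀ := by
      have h4 := hsame k hk hk1
      rcases hcase with h | h
      · rw [h] at h4
        exact h4
      · rw [h] at h4
        simpa using h4
    linear_combination h3 - h1
  · rintro ⟨a, ha, b, hb, ha1, hb1, hab⟩
    by_contra hcon
    push Not at hcon
    have horth : ∀ χ ∈ S, classInner ψ (star χ) = 0 := by
      intro χ hχ
      by_contra hne
      obtain h | h := T.irr_inner_of_sign hψ (T.star_irr hχ) hne
      · exact (hcon χ hχ).1 h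
      · exact (hcon χ hχ).2 h
    obtain ⟨v, hv⟩ := T.constant_of_orth hψ horth
    apply hab
    have h1 := hv ⟨a, hle ha⟩ ha (fun h => ha1 (congrArg Subtype.val h))
    have h2 := hv ⟨b, hle hb⟩ hb (fun h => hb1 (congrArg Subtype.val h))
    exact h1.trans h2.symm

theorem s0853_main : ∃ m : ℤ, ∀ χ ∈ S, ∀ k : NK K, (k : G) ∈ K → k ≠ 1 →
    star χ k - χ k = (m : ℂ) * χ 1 / ((K.subgroupOf (Subgroup.normalizer (K : Set G))).index : ℂ) := by
  classical
  obtain ⟨c, hc⟩ := T.exists_c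
  letI : Fintype (K.subgroupOf (Subgroup.normalizer (K : Set G))) := Fintype.ofFinite _
  haveI hK' : (K.subgroupOf (Subgroup.normalizer (K : Set G))).Normal := Subgroup.normal_in_normalizer
  set K' := K.subgroupOf (Subgroup.normalizer (K : Set G)) with hK'def
  obtain ⟨k₀, hk₀, hk₀1⟩ := T.exists_ne_one
  have hk'1 : (Nat.card K' : ℤ) - 1 ≠ 0 := by
    have h1 : 1 < Nat.card K' := by
      haveI : Nontrivial K' := ⟨⟨⟨k₀, T.mem_K'.mpr hk₀⟩, 1, fun h => hk₀1 (congrArg Subtype.val h)⟩⟩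
      exact Finite.one_lt_card
    omega
  have hk'1C : (Nat.card K' : ℂ) - 1 ≠ 0 := by
    have := (Int.cast_ne_zero (α := ℂ)).mpr hk'1
    push_cast at this
    exact this
  -- Step 1: integrality of `c * χ 1`.
  have step1 : ∀ χ ∈ S, ∃ n : ℤ, c * ((charDegree χ : ℕ) : ℂ) = n := by
    intro χ hχ
    have hint : IsIntegral ℤ (c * ((charDegree χ : ℕ) : ℂ)) := by
      rw [← hc χ hχ k₀ hk₀ hk₀1]
      exact (gen_isIntegral (T.star_gen hχ) _).sub ((T.irr hχ).isCharacter.isIntegral _)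
    have hgen := gen_restrict K' (gen_restrict (Subgroup.normalizer (K : Set G)) (T.star_gen hχ))
    obtain ⟨A, hA⟩ := gen_sum_int hgen
    obtain ⟨B, hB⟩ := gen_one_int (T.star_gen hχ)
    have hsum0 := relevant_sum_zero K' T.hC' (T.irr hχ) (T.rel hχ)
    have hval : ∀ k : K', star χ ((k : NK K) : G) = χ k + c * ((charDegree χ : ℕ) : ℂ) +
        if k = 1 then star χ 1 - χ 1 - c * ((charDegree χ : ℕ) : ℂ) else 0 := by
      intro k
      by_cases hk : k = 1
      · subst hk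
        simp
      · rw [if_neg hk, add_zero]
        have := hc χ hχ k.1 (T.mem_K'.mp k.2) (fun h => hk (Subtype.ext h))
        linear_combination this
    have h2 : ∑ k : K', star χ ((k : NK K) : G) = (Nat.card K' : ℂ) * (c * ((charDegree χ : ℕ) : ℂ)) +
        (star χ 1 - χ 1 - c * ((charDegree χ : ℕ) : ℂ)) := by
      rw [Finset.sum_congr rfl (fun k _ => hval k), Finset.sum_add_distrib, Finset.sum_add_distrib, hsum0,
        Finset.sum_const, Finset.sum_ite_eq' Finset.univ (1 : K')]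
      simp [Nat.card_eq_fintype_card]
    rw [hA, hB, irr_one_eq (T.irr hχ)] at h2
    have h3 : ((Nat.card K' : ℂ) - 1) * (c * ((charDegree χ : ℕ) : ℂ)) =
        (((Nat.card K' : ℤ) * A - B + (charDegree χ : ℕ) : ℤ) : ℂ) := by
      push_cast
      linear_combination -h2
    set n : ℤ := (Nat.card K' : ℤ) * A - B + (charDegree χ : ℕ) with hn
    have h4 : c * ((charDegree χ : ℕ) : ℂ) = (((n : ℚ) / ((Nat.card K' : ℤ) - 1 : ℤ) : ℚ) : ℂ) := by
      push_cast
      field_simp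
      linear_combination h3
    rw [h4] at hint
    obtain ⟨z, hz⟩ := exists_int_of_isIntegral_rat _ hint
    refine ⟨z, ?_⟩
    rw [h4, hz]
    simp
  set e : ℂ := (K'.index : ℂ) with he
  have he0 : e ≠ 0 := by
    rw [he]
    exact Nat.cast_ne_zero.mpr (Subgroup.index_ne_zero_of_finite)
  -- Step 2: the values on irreducibles of `K'`.
  have step2 : ∀ θ : IrrCharacter K', (θ : K' → ℂ) ≠ (fun _ => 1) →
      c * e * ((charDegree (θ : K' → ℂ) : ℕ) : ℂ) ∈ (Int.castRingHom ℂ).range := by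
    intro θ hθ
    have hirr := frob_ind_irr K' T.hC' θ.2 hθ
    have hmem : indFun K' (θ : K' → ℂ) ∈ S := by
      obtain ⟨k, hk, h1⟩ := frob_ind_relevant K' T.hC' θ.2 hθ
      exact T.mem_S.mpr ⟨hirr, k, T.mem_K'.mp hk, h1⟩
    obtain ⟨n, hn⟩ := step1 _ hmem
    have h1 := irr_one_eq hirr
    rw [indFun_one, irr_one_eq θ.2] at h1
    refine ⟨n, ?_⟩
    simp only [eq_intCast]
    rw [← hn, ← h1]
    ring
  set w : ℂ := c * e with hw
  -- Step 3: the sum over all nontrivial irreducible characters.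
  let t : IrrCharacter K' := ⟨fun _ => 1, isIrrCharacter_one⟩
  have hdt : charDegree ((t : IrrCharacter K') : K' → ℂ) = 1 := charDegree_eq (d := 1) (by simp [t])
  have hsum := sum_deg_sq (G := K')
  rw [← Finset.add_sum_erase Finset.univ _ (Finset.mem_univ t), hdt] at hsum
  have hsumC : (Nat.card K' : ℂ) - 1 = ∑ θ ∈ Finset.univ.erase t, ((charDegree (θ : K' → ℂ) : ℕ) : ℂ) ^ 2 := by
    rw [← hsum]
    push_cast
    ring
  have step3 : w * ((Nat.card K' : ℂ) - 1) ∈ (Int.castRingHom ℂ).range := by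
    rw [hsumC, Finset.mul_sum]
    refine Subring.sum_mem _ fun θ hθ => ?_
    have hne : (θ : K' → ℂ) ≠ (fun _ => 1) := by
      intro h
      apply (Finset.mem_erase.mp hθ).1
      exact Subtype.ext h
    have h1 := step2 θ hne
    have h2 : w * ((charDegree (θ : K' → ℂ) : ℕ) : ℂ) ^ 2 =
      ((charDegree (θ : K' → ℂ) : ℕ) : ℂ) * (w * ((charDegree (θ : K' → ℂ) : ℕ) : ℂ)) := by ring
    rw [h2]
    exact Subring.mul_mem _ (natCast_mem _ _) h1
  -- Step 4: a nontrivial irreducible character and Bezout.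
  obtain ⟨χ₀, hχ₀, -, -, -⟩ := T.htwo
  obtain ⟨φ, hφ, hφ1, -⟩ := frob_relevant K' T.hC' (T.irr hχ₀) (T.rel hχ₀)
  let θ₁ : IrrCharacter K' := ⟨φ, hφ⟩
  have hdvd : charDegree φ ∣ Nat.card K' := charDegree_dvd θ₁
  have hcop : Nat.Coprime (charDegree φ) (Nat.card K' - 1) := by
    have hpos : 0 < Nat.card K' := Nat.card_pos
    have h1 : Nat.Coprime (Nat.card K') (Nat.card K' - 1) := by
      have h2 : Nat.card K' = (Nat.card K' - 1) + 1 := by omega
      rw [h2]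
      simp
    exact Nat.Coprime.coprime_dvd_left hdvd h1
  have hcop' : IsCoprime (charDegree φ : ℤ) ((Nat.card K' - 1 : ℕ) : ℤ) := Nat.isCoprime_iff_coprime.mpr hcop
  obtain ⟨x, y, hxy⟩ := hcop'
  have hxyC : (x : ℂ) * (charDegree φ : ℕ) + (y : ℂ) * ((Nat.card K' : ℂ) - 1) = 1 := by
    have h1 := congrArg (Int.cast : ℤ → ℂ) hxy
    have hpos : 1 ≤ Nat.card K' := Nat.card_pos
    push_cast [Nat.cast_sub hpos] at h1
    exact h1
  have hw_int : w ∈ (Int.castRingHom ℂ).range := by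
    have h1 := step2 θ₁ hφ1
    have h2 : w = (x : ℂ) * (w * ((charDegree φ : ℕ) : ℂ)) + (y : ℂ) * (w * ((Nat.card K' : ℂ) - 1)) := by
      linear_combination (-w) * hxyC
    rw [h2]
    exact Subring.add_mem _ (Subring.mul_mem _ (intCast_mem _ _) h1) (Subring.mul_mem _ (intCast_mem _ _) step3)
  obtain ⟨m, hm⟩ := hw_int
  simp only [eq_intCast] at hm
  refine ⟨m, fun χ hχ k hk hk1 => ?_⟩
  rw [hc χ hχ k hk hk1, hm, irr_one_eq (T.irr hχ), hw]
  field_simp

end FC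

end CfsgLib.Char
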