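import Mathlib
import Cfsg.Agent.Lib.Char.Coh1

/-!
# General lemmas on isometries and coherence
-/

set_option linter.unusedSectionVars false
set_option linter.style.haveILetI false
set_option linter.unusedSimpArgs false
set_option linter.unusedVariables false

namespace CfsgLib.Char

open Module Cfsg
open scoped ComplexConjugate

universe u v

section General

variable {L : Type u} [Group L] [Fintype L] {G : Type v} [Group G] [Fintype G]

theorem gen_inner_int {a b : G → ℂ} (ha : IsGeneralizedCharacter G a) (hb : IsGeneralizedCharacter G b) :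
    ∃ n : ℤ, classInner a b = n := by
  obtain ⟨c, rfl⟩ := ha.exists_int_coeff
  obtain ⟨d, rfl⟩ := hb.exists_int_coeff
  exact ⟨_, classInner_int_coeff c d⟩

theorem classInner_self_zero {f : G → ℂ} (h : classInner f f = 0) : f = 0 := by
  funext g
  by_contra hg
  exact classInner_self_ne_zero f g hg h

theorem classInner_self_im (f : G → ℂ) : (classInner f f).im = 0 := by
  rw [classInner_self_eq_real, Complex.ofReal_im]

theorem classInner_self_eq_re (f : G → ℂ) : classInner f f = ((classInner f f).re : ℂ) := by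
  apply Complex.ext
  · simp
  · simp [classInner_self_im]

theorem orth_finite {S : Set (L → ℂ)} (horth : ∀ χ ∈ S, ∀ φ ∈ S, χ ≠ φ → classInner χ φ = 0)
    (hne : ∀ χ ∈ S, χ ≠ 0) : S.Finite := by
  classical
  have hli : LinearIndependent ℂ (fun x : S => (x : L → ℂ)) := by
    rw [linearIndependent_iff']
    intro s g hg i hi
    have h1 : classInner (∑ x ∈ s, g x • (x : L → ℂ)) (i : L → ℂ) = 0 := by rw [hg, classInner_zero_left]
    rw [classInner_sum_left, Finset.sum_eq_single i] at h1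
    · rw [classInner_smul_left] at h1
      refine (mul_eq_zero.mp h1).resolve_right ?_
      intro h2
      exact hne _ i.2 (classInner_self_zero h2)
    · intro b _ hb
      rw [classInner_smul_left, horth _ b.2 _ i.2 (fun h => hb (Subtype.ext h)), mul_zero]
    · intro h
      exact absurd hi h
  exact LinearIndependent.setFinite hli

theorem int_smul_eq (n : ℤ) (a : G → ℂ) : n • a = (n : ℂ) • a := by
  funext x
  simp

theorem mem_zspan_iff {S : Set (L → ℂ)} {a : L → ℂ} : a ∈ zspan S ↔ a ∈ Submodule.span ℤ S := Iff.rfl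

theorem subset_zspan {S : Set (L → ℂ)} {a : L → ℂ} (h : a ∈ S) : a ∈ zspan S := Submodule.subset_span h

theorem zs_add {S : Set (L → ℂ)} {a b : L → ℂ} (ha : a ∈ zspan S) (hb : b ∈ zspan S) : a + b ∈ zspan S :=
  Submodule.add_mem _ ha hb

theorem zs_sub {S : Set (L → ℂ)} {a b : L → ℂ} (ha : a ∈ zspan S) (hb : b ∈ zspan S) : a - b ∈ zspan S :=
  Submodule.sub_mem _ ha hb

theorem zs_smul {S : Set (L → ℂ)} {a : L → ℂ} (n : ℤ) (ha : a ∈ zspan S) : n • a ∈ zspan S :=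
  Submodule.smul_mem _ n ha

theorem zs_zero {S : Set (L → ℂ)} : (0 : L → ℂ) ∈ zspan S := Submodule.zero_mem _

theorem zs_mono {S S' : Set (L → ℂ)} (h : S ⊆ S') {a : L → ℂ} (ha : a ∈ zspan S) : a ∈ zspan S' :=
  Submodule.span_mono h ha

theorem zspanOn_add {S : Set (L → ℂ)} {A : Set L} {a b : L → ℂ} (ha : a ∈ zspanOn S A) (hb : b ∈ zspanOn S A) :
    a + b ∈ zspanOn S A :=
  ⟨zs_add ha.1 hb.1, fun x hx => by simp [ha.2 x hx, hb.2 x hx]⟩

theorem zspanOn_sub {S : Set (L → ℂ)} {A : Set L} {a b : L → ℂ} (ha : a ∈ zspanOn S A) (hb : b ∈ zspanOn S A) :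
    a - b ∈ zspanOn S A :=
  ⟨zs_sub ha.1 hb.1, fun x hx => by simp [ha.2 x hx, hb.2 x hx]⟩

theorem zspanOn_smul {S : Set (L → ℂ)} {A : Set L} {a : L → ℂ} (n : ℤ) (ha : a ∈ zspanOn S A) :
    n • a ∈ zspanOn S A :=
  ⟨zs_smul n ha.1, fun x hx => by simp [ha.2 x hx]⟩

theorem zspanOn_zero {S : Set (L → ℂ)} {A : Set L} : (0 : L → ℂ) ∈ zspanOn S A :=
  ⟨zs_zero, fun x hx => rfl⟩

theorem zspanOn_mono {S S' : Set (L → ℂ)} {A : Set L} (h : S ⊆ S') {a : L → ℂ} (ha : a ∈ zspanOn S A) :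
    a ∈ zspanOn S' A :=
  ⟨zs_mono h ha.1, ha.2⟩

theorem mem_zspanOn_one {S : Set (L → ℂ)} {a : L → ℂ} : a ∈ zspanOn S ({1}ᶜ : Set L) ↔ a ∈ zspan S ∧ a 1 = 0 := by
  constructor
  · rintro ⟨h1, h2⟩
    exact ⟨h1, h2 1 (by simp)⟩
  · rintro ⟨h1, h2⟩
    refine ⟨h1, fun x hx => ?_⟩
    have : x = 1 := by simpa using hx
    rw [this]
    exact h2

/-- Basic consequences of being a linear isometry. -/
theorem iso_zero {E : Set (L → ℂ)} {τ : (L → ℂ) → (G → ℂ)} (h : IsLinearIsometryOn E τ) (h0 : (0 : L → ℂ) ∈ E) :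
    τ 0 = 0 := by
  have := h.2.1 0 h0 0
  simpa using this

theorem iso_neg {E : Set (L → ℂ)} {τ : (L → ℂ) → (G → ℂ)} (h : IsLinearIsometryOn E τ) {a : L → ℂ} (ha : a ∈ E) :
    τ (-a) = -τ a := by
  have := h.2.1 a ha (-1)
  simpa using this

theorem iso_sub {E : Set (L → ℂ)} {τ : (L → ℂ) → (G → ℂ)} (h : IsLinearIsometryOn E τ) {a b : L → ℂ} (ha : a ∈ E)
    (hb : b ∈ E) (hn : -b ∈ E) : τ (a - b) = τ a - τ b := by
  rw [sub_eq_add_neg, h.1 a ha _ hn, iso_neg h hb, sub_eq_add_neg]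

theorem zspan_iso_sub {S : Set (L → ℂ)} {τ : (L → ℂ) → (G → ℂ)} (h : IsLinearIsometryOn (zspan S) τ) {a b : L → ℂ}
    (ha : a ∈ zspan S) (hb : b ∈ zspan S) : τ (a - b) = τ a - τ b :=
  iso_sub h ha hb (Submodule.neg_mem _ hb)

theorem zspanOn_iso_sub {S : Set (L → ℂ)} {A : Set L} {τ : (L → ℂ) → (G → ℂ)} (h : IsLinearIsometryOn (zspanOn S A) τ)
    {a b : L → ℂ} (ha : a ∈ zspanOn S A) (hb : b ∈ zspanOn S A) : τ (a - b) = τ a - τ b :=
  iso_sub h ha hb (by simpa using zspanOn_smul (-1) hb)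

theorem iso_smul_nat {E : Set (L → ℂ)} {τ : (L → ℂ) → (G → ℂ)} (h : IsLinearIsometryOn E τ) {a : L → ℂ} (ha : a ∈ E)
    (n : ℕ) : τ (n • a) = n • τ a := by
  have := h.2.1 a ha (n : ℤ)
  simpa using this

/-- Two linear maps which agree on a generating set agree on the span. -/
theorem iso_eq_on_span {S : Set (L → ℂ)} {τ τ' : (L → ℂ) → (G → ℂ)} (h : IsLinearIsometryOn (zspan S) τ)
    (h' : IsLinearIsometryOn (zspan S) τ') (he : ∀ χ ∈ S, τ χ = τ' χ) {a : L → ℂ} (ha : a ∈ zspan S) : τ a = τ' a := by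
  have ha' : a ∈ Submodule.span ℤ S := ha
  induction ha' using Submodule.span_induction with
  | mem x hx => exact he x hx
  | zero => rw [iso_zero h zs_zero, iso_zero h' zs_zero]
  | add x y hx hy ihx ihy => rw [h.1 x hx y hy, h'.1 x hx y hy, ihx hx, ihy hy]
  | smul n x hx ih => rw [h.2.1 x hx n, h'.2.1 x hx n, ih hx]

/-- A map on an orthogonal set preserving inner products extends linearly. -/
theorem exists_isometry_of_orthogonal {S : Set (L → ℂ)} {T : (L → ℂ) → (G → ℂ)}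
    (horth : ∀ χ ∈ S, ∀ φ ∈ S, χ ≠ φ → classInner χ φ = 0) (hne : ∀ χ ∈ S, χ ≠ 0)
    (hgen : ∀ χ ∈ S, IsGeneralizedCharacter G (T χ))
    (hin : ∀ χ ∈ S, ∀ φ ∈ S, classInner (T χ) (T φ) = classInner χ φ) :
    ∃ τ₁ : (L → ℂ) → (G → ℂ), IsLinearIsometryOn (zspan S) τ₁ ∧ ∀ χ ∈ S, τ₁ χ = T χ := by
  classical
  have hfin := orth_finite horth hne
  let F := hfin.toFinset
  let τ₁ : (L → ℂ) → (G → ℂ) := fun β => ∑ χ ∈ F, (classInner β χ / classInner χ χ) • T χ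
  have hadd : ∀ a b, τ₁ (a + b) = τ₁ a + τ₁ b := by
    intro a b
    simp only [τ₁, classInner_add_left, add_div, add_smul, Finset.sum_add_distrib]
  have hsmul : ∀ (n : ℤ) a, τ₁ (n • a) = n • τ₁ a := by
    intro n a
    simp only [τ₁, int_smul_eq, classInner_smul_left, mul_div_assoc, Finset.smul_sum, mul_smul]
  have h0 : τ₁ 0 = 0 := by simp [τ₁, classInner_zero_left]
  have hgenr : ∀ χ ∈ S, τ₁ χ = T χ := by
    intro χ hχ
    show ∑ φ ∈ F, (classInner χ φ / classInner φ φ) • T φ = T χ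
    rw [Finset.sum_eq_single χ]
    · have h1 : classInner χ χ ≠ 0 := fun h => hne χ hχ (classInner_self_zero h)
      rw [div_self h1, one_smul]
    · intro φ hφ hne'
      rw [horth χ hχ φ (hfin.mem_toFinset.mp hφ) (Ne.symm hne'), zero_div, zero_smul]
    · intro h
      exact absurd (hfin.mem_toFinset.mpr hχ) h
  have h1 : ∀ φ ∈ S, ∀ α ∈ zspan S, classInner (τ₁ α) (T φ) = classInner α φ := by
    intro φ hφ α hα
    have hα' : α ∈ Submodule.span ℤ S := hα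
    induction hα' using Submodule.span_induction with
    | mem x hx => rw [hgenr x hx, hin x hx φ hφ]
    | zero => rw [h0, classInner_zero_left, classInner_zero_left]
    | add x y hx hy ihx ihy => rw [hadd, classInner_add_left, classInner_add_left, ihx hx, ihy hy]
    | smul n x hx ih =>
      rw [hsmul, int_smul_eq, int_smul_eq, classInner_smul_left, classInner_smul_left, ih hx]
  have h2 : ∀ α ∈ zspan S, ∀ β ∈ zspan S, classInner (τ₁ α) (τ₁ β) = classInner α β := by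
    intro α hα β hβ
    have hβ' : β ∈ Submodule.span ℤ S := hβ
    induction hβ' using Submodule.span_induction with
    | mem x hx => rw [hgenr x hx, h1 x hx α hα]
    | zero => rw [h0, classInner_zero_right, classInner_zero_right]
    | add x y hx hy ihx ihy => rw [hadd, classInner_add_right, classInner_add_right, ihx hx, ihy hy]
    | smul n x hx ih =>
      rw [hsmul, int_smul_eq, int_smul_eq, classInner_smul_right, classInner_smul_right, ih hx]
  have h3 : ∀ α ∈ zspan S, IsGeneralizedCharacter G (τ₁ α) := by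
    intro α hα
    have hα' : α ∈ Submodule.span ℤ S := hα
    induction hα' using Submodule.span_induction with
    | mem x hx =>
      rw [hgenr x hx]
      exact hgen x hx
    | zero =>
      rw [h0]
      exact isGeneralized_zero
    | add x y hx hy ihx ihy =>
      rw [hadd]
      exact (ihx hx).add (ihy hy)
    | smul n x hx ih =>
      rw [hsmul, int_smul_eq]
      exact (ih hx).int_smul n
  exact ⟨τ₁, ⟨fun a _ b _ => hadd a b, fun a _ n => hsmul n a, h2, h3⟩, hgenr⟩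

/-- Bessel's identity for an orthogonal family. -/
theorem bessel_identity {ι : Type*} (s : Finset ι) (e : ι → G → ℂ) (n : ι → ℝ) (hn : ∀ i ∈ s, n i ≠ 0)
    (he : ∀ i ∈ s, ∀ j ∈ s, i ≠ j → classInner (e i) (e j) = 0) (hee : ∀ i ∈ s, classInner (e i) (e i) = n i)
    (f : G → ℂ) :
    classInner (f - ∑ i ∈ s, (classInner f (e i) / (n i : ℂ)) • e i) (f - ∑ i ∈ s, (classInner f (e i) / (n i : ℂ)) • e i) =
      classInner f f - ((∑ i ∈ s, ‖classInner f (e i)‖ ^ 2 / n i : ℝ) : ℂ) := by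
  classical
  set g := f - ∑ i ∈ s, (classInner f (e i) / (n i : ℂ)) • e i with hg
  have h1 : ∀ j ∈ s, classInner g (e j) = 0 := by
    intro j hj
    rw [hg, classInner_sub_left, classInner_sum_left, Finset.sum_eq_single j]
    · have hnj : (n j : ℂ) ≠ 0 := Complex.ofReal_ne_zero.mpr (hn j hj)
      rw [classInner_smul_left, hee j hj]
      field_simp
      ring
    · intro i hi hij
      rw [classInner_smul_left, he i hi j hj hij, mul_zero]
    · intro h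
      exact absurd hj h
  have h2 : classInner g g = classInner g f := by
    conv_lhs => rw [hg]
    conv_rhs => rw [← sub_zero (classInner g f)]
    rw [classInner_sub_right, classInner_sum_right]
    congr 1
    apply Finset.sum_eq_zero
    intro i hi
    rw [classInner_smul_right, h1 i hi, mul_zero]
  rw [h2, hg, classInner_sub_left, classInner_sum_left]
  congr 1
  push_cast
  refine Finset.sum_congr rfl fun i hi => ?_
  have hnj : (n i : ℂ) ≠ 0 := Complex.ofReal_ne_zero.mpr (hn i hi)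
  rw [classInner_smul_left, ← conj_classInner f (e i)]
  have : classInner f (e i) * conj (classInner f (e i)) = ((‖classInner f (e i)‖ ^ 2 : ℝ) : ℂ) := by
    rw [Complex.mul_conj, Complex.normSq_eq_norm_sq]
  push_cast at this
  rw [div_mul_eq_mul_div, this]

theorem bessel_le {ι : Type*} (s : Finset ι) (e : ι → G → ℂ) (n : ι → ℝ) (hn : ∀ i ∈ s, n i ≠ 0)
    (he : ∀ i ∈ s, ∀ j ∈ s, i ≠ j → classInner (e i) (e j) = 0) (hee : ∀ i ∈ s, classInner (e i) (e i) = n i)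
    (f : G → ℂ) : ∑ i ∈ s, ‖classInner f (e i)‖ ^ 2 / n i ≤ (classInner f f).re := by
  have h1 := bessel_identity s e n hn he hee f
  have h2 := classInner_self_re_nonneg (f - ∑ i ∈ s, (classInner f (e i) / (n i : ℂ)) • e i)
  rw [h1] at h2
  have h3 : (((∑ i ∈ s, ‖classInner f (e i)‖ ^ 2 / n i : ℝ) : ℂ)).re = ∑ i ∈ s, ‖classInner f (e i)‖ ^ 2 / n i :=
    Complex.ofReal_re _
  rw [Complex.sub_re, h3] at h2
  linarith

theorem bessel_eq {ι : Type*} (s : Finset ι) (e : ι → G → ℂ) (n : ι → ℝ) (hn : ∀ i ∈ s, n i ≠ 0)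
    (he : ∀ i ∈ s, ∀ j ∈ s, i ≠ j → classInner (e i) (e j) = 0) (hee : ∀ i ∈ s, classInner (e i) (e i) = n i)
    (f : G → ℂ) (h : ∑ i ∈ s, ‖classInner f (e i)‖ ^ 2 / n i = (classInner f f).re) :
    f = ∑ i ∈ s, (classInner f (e i) / (n i : ℂ)) • e i := by
  have h1 := bessel_identity s e n hn he hee f
  rw [h, ← classInner_self_eq_re, sub_self] at h1
  exact sub_eq_zero.mp (classInner_self_zero h1)

theorem bessel_identity₁ {ι : Type*} (s : Finset ι) (e : ι → G → ℂ)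
    (he : ∀ i ∈ s, ∀ j ∈ s, i ≠ j → classInner (e i) (e j) = 0) (hee : ∀ i ∈ s, classInner (e i) (e i) = 1)
    (f : G → ℂ) :
    classInner (f - ∑ i ∈ s, classInner f (e i) • e i) (f - ∑ i ∈ s, classInner f (e i) • e i) =
      classInner f f - ((∑ i ∈ s, ‖classInner f (e i)‖ ^ 2 : ℝ) : ℂ) := by
  have h1 := bessel_identity s e (fun _ => 1) (fun _ _ => one_ne_zero) he (fun i hi => by simp [hee i hi]) f
  simpa using h1

theorem bessel_le₁ {ι : Type*} (s : Finset ι) (e : ι → G → ℂ)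
    (he : ∀ i ∈ s, ∀ j ∈ s, i ≠ j → classInner (e i) (e j) = 0) (hee : ∀ i ∈ s, classInner (e i) (e i) = 1)
    (f : G → ℂ) : ∑ i ∈ s, ‖classInner f (e i)‖ ^ 2 ≤ (classInner f f).re := by
  have h1 := bessel_le s e (fun _ => 1) (fun _ _ => one_ne_zero) he (fun i hi => by simp [hee i hi]) f
  simpa using h1

/-- A virtual character of norm one takes a nonzero value at `1`. -/
theorem gen_norm_one_ne {a : G → ℂ} (ha : IsGeneralizedCharacter G a) (h : classInner a a = 1) : a 1 ≠ 0 := by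
  rcases ha.exists_of_norm_one h with h1 | h1
  · exact h1.map_one_ne_zero
  · have := h1.map_one_ne_zero
    simpa using this

theorem iso_mono {E E' : Set (L → ℂ)} {τ : (L → ℂ) → (G → ℂ)} (h : IsLinearIsometryOn E' τ) (hE : E ⊆ E') :
    IsLinearIsometryOn E τ :=
  ⟨fun a ha b hb => h.1 a (hE ha) b (hE hb), fun a ha n => h.2.1 a (hE ha) n,
    fun a ha b hb => h.2.2.1 a (hE ha) b (hE hb), fun a ha => h.2.2.2 a (hE ha)⟩

/-- Two virtual characters of norm one with nonzero inner product agree up to sign. -/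
theorem norm_one_inner {a b : G → ℂ} (ha : IsGeneralizedCharacter G a) (hb : IsGeneralizedCharacter G b)
    (ha1 : classInner a a = 1) (hb1 : classInner b b = 1) (h : classInner a b ≠ 0) : a = b ∨ a = -b := by
  classical
  rcases ha.exists_of_norm_one ha1 with h1 | h1 <;> rcases hb.exists_of_norm_one hb1 with h2 | h2
  · left
    by_contra hne
    exact h (classInner_irr_ne h1 h2 hne)
  · right
    by_contra hne
    apply h
    have h3 := classInner_irr_ne h1 h2 hne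
    rwa [classInner_neg_right, neg_eq_zero] at h3
  · right
    by_contra hne
    apply h
    have h3 := classInner_irr_ne h1 h2 (fun h4 => hne (neg_eq_iff_eq_neg.mp h4))
    rwa [classInner_neg_left, neg_eq_zero] at h3
  · left
    by_contra hne
    apply h
    have h3 := classInner_irr_ne h1 h2 (fun h4 => hne (neg_inj.mp h4))
    rwa [classInner_neg_left, classInner_neg_right, neg_neg] at h3

theorem iso_dif {S : Set (L → ℂ)} {τ : (L → ℂ) → (G → ℂ)} (h : IsLinearIsometryOn (zspan S) τ) {χ ξ : L → ℂ}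
    (hχ : χ ∈ S) (hξ : ξ ∈ S) :
    τ (dif χ ξ) = ((charDegree ξ : ℕ) : ℂ) • τ χ - ((charDegree χ : ℕ) : ℂ) • τ ξ := by
  have h1 := subset_zspan hχ
  have h2 := subset_zspan hξ
  have h3 : ((charDegree ξ : ℕ) : ℤ) • χ ∈ zspan S := zs_smul _ h1
  have h4 : ((charDegree χ : ℕ) : ℤ) • ξ ∈ zspan S := zs_smul _ h2
  unfold dif
  rw [zspan_iso_sub h h3 h4, h.2.1 _ h1, h.2.1 _ h2]
  funext x
  simp

/-- Integer values at the identity for integer combinations of characters. -/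
theorem zspan_one_int {S : Set (L → ℂ)} (hS : ∀ χ ∈ S, IsCharacter L χ) {a : L → ℂ} (ha : a ∈ zspan S) :
    ∃ n : ℤ, a 1 = n := by
  have ha' : a ∈ Submodule.span ℤ S := ha
  induction ha' using Submodule.span_induction with
  | mem x hx =>
    obtain ⟨n, hn⟩ := (hS x hx).map_one
    exact ⟨n, by simp [hn]⟩
  | zero => exact ⟨0, by simp⟩
  | add x y hx hy ihx ihy =>
    obtain ⟨n, hn⟩ := ihx hx
    obtain ⟨m, hm⟩ := ihy hy
    exact ⟨n + m, by simp [hn, hm]⟩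
  | smul k x hx ih =>
    obtain ⟨n, hn⟩ := ih hx
    exact ⟨k * n, by simp [hn]⟩

end General

section S1531

variable {G : Type u} [Group G] [Fintype G] {N : Subgroup G} [Fintype N]

theorem dif_mem_on {X : Set (N → ℂ)} (hX : ∀ ξ ∈ X, IsIrrCharacter N ξ) {χ ξ : N → ℂ} (hχ : χ ∈ X) (hξ : ξ ∈ X) :
    dif χ ξ ∈ zspanOn X ({1}ᶜ : Set N) := by
  rw [mem_zspanOn_one]
  refine ⟨zs_sub (zs_smul _ (subset_zspan hχ)) (zs_smul _ (subset_zspan hξ)), ?_⟩
  rw [dif_apply, irr_one_eq (hX χ hχ), irr_one_eq (hX ξ hξ)]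
  ring

theorem s1531_orth {S X Y : Set (N → ℂ)} (hirr : ∀ ξ ∈ S, IsIrrCharacter N ξ) (hXS : X ⊆ S) (hYS : Y ⊆ S)
    (hXY : Disjoint X Y) (hX2 : ∃ a ∈ X, ∃ b ∈ X, a ≠ b) (hY2 : ∃ a ∈ Y, ∃ b ∈ Y, a ≠ b)
    {α : (N → ℂ) → (G → ℂ)} (hα : IsLinearIsometryOn (zspanOn S ({1}ᶜ : Set N)) α)
    (hα1 : ∀ θ ∈ zspanOn S ({1}ᶜ : Set N), α θ 1 = 0) {σ τ : (N → ℂ) → (G → ℂ)}
    (hσ : IsLinearIsometryOn (zspan X) σ) (hσα : ∀ θ ∈ zspanOn X ({1}ᶜ : Set N), σ θ = α θ)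
    (hτ : IsLinearIsometryOn (zspan Y) τ) (hτα : ∀ θ ∈ zspanOn Y ({1}ᶜ : Set N), τ θ = α θ) :
    ∀ χ ∈ X, ∀ η ∈ Y, classInner (σ χ) (τ η) = 0 := by
  classical
  have hXi : ∀ ξ ∈ X, IsIrrCharacter N ξ := fun ξ h => hirr ξ (hXS h)
  have hYi : ∀ ξ ∈ Y, IsIrrCharacter N ξ := fun ξ h => hirr ξ (hYS h)
  have hne : ∀ {a b : N → ℂ}, a ∈ X → b ∈ Y → a ≠ b := by
    rintro a b ha hb rfl
    exact Set.disjoint_left.mp hXY ha hb
  have hsX : ∀ ξ ∈ X, classInner (σ ξ) (σ ξ) = 1 := by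
    intro ξ h
    rw [hσ.2.2.1 _ (subset_zspan h) _ (subset_zspan h), classInner_irr_self (hXi ξ h)]
  have hsY : ∀ ξ ∈ Y, classInner (τ ξ) (τ ξ) = 1 := by
    intro ξ h
    rw [hτ.2.2.1 _ (subset_zspan h) _ (subset_zspan h), classInner_irr_self (hYi ξ h)]
  have hsX' : ∀ ξ ∈ X, ∀ ξ' ∈ X, ξ ≠ ξ' → classInner (σ ξ) (σ ξ') = 0 := by
    intro ξ h ξ' h' hn
    rw [hσ.2.2.1 _ (subset_zspan h) _ (subset_zspan h'), classInner_irr_ne (hXi ξ h) (hXi ξ' h') hn]
  have hsY' : ∀ ξ ∈ Y, ∀ ξ' ∈ Y, ξ ≠ ξ' → classInner (τ ξ) (τ ξ') = 0 := by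
    intro ξ h ξ' h' hn
    rw [hτ.2.2.1 _ (subset_zspan h) _ (subset_zspan h'), classInner_irr_ne (hYi ξ h) (hYi ξ' h') hn]
  have hgX : ∀ ξ ∈ X, IsGeneralizedCharacter G (σ ξ) := fun ξ h => hσ.2.2.2 _ (subset_zspan h)
  have hgY : ∀ ξ ∈ Y, IsGeneralizedCharacter G (τ ξ) := fun ξ h => hτ.2.2.2 _ (subset_zspan h)
  intro χ hχ η hη
  by_contra hM
  obtain ⟨χ', hχ', hχχ'⟩ : ∃ χ' ∈ X, χ ≠ χ' := by
    obtain ⟨a, ha, b, hb, hab⟩ := hX2
    by_cases h : χ = a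
    · exact ⟨b, hb, fun h2 => hab (h.symm.trans h2)⟩
    · exact ⟨a, ha, h⟩
  obtain ⟨η', hη', hηη'⟩ : ∃ η' ∈ Y, η ≠ η' := by
    obtain ⟨a, ha, b, hb, hab⟩ := hY2
    by_cases h : η = a
    · exact ⟨b, hb, fun h2 => hab (h.symm.trans h2)⟩
    · exact ⟨a, ha, h⟩
  -- the four degrees
  set c : ℂ := ((charDegree χ : ℕ) : ℂ) with hc
  set c' : ℂ := ((charDegree χ' : ℕ) : ℂ) with hc'
  set e : ℂ := ((charDegree η : ℕ) : ℂ) with he
  set e' : ℂ := ((charDegree η' : ℕ) : ℂ) with he'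
  have hpos : (c' * e + c * e') ≠ 0 := by
    have h1 := irr_charDegree_pos (hXi χ hχ)
    have h2 := irr_charDegree_pos (hXi χ' hχ')
    have h3 := irr_charDegree_pos (hYi η hη)
    have h4 := irr_charDegree_pos (hYi η' hη')
    have h5 : 0 < charDegree χ' * charDegree η + charDegree χ * charDegree η' := by positivity
    have h6 : ((charDegree χ' * charDegree η + charDegree χ * charDegree η' : ℕ) : ℂ) ≠ 0 := Nat.cast_ne_zero.mpr h5.ne'
    simpa [hc, hc', he, he'] using h6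
  have hpos2 : (c' * e' + c * e) ≠ 0 := by
    have h1 := irr_charDegree_pos (hXi χ hχ)
    have h2 := irr_charDegree_pos (hXi χ' hχ')
    have h3 := irr_charDegree_pos (hYi η hη)
    have h4 := irr_charDegree_pos (hYi η' hη')
    have h5 : 0 < charDegree χ' * charDegree η' + charDegree χ * charDegree η := by positivity
    have h6 : ((charDegree χ' * charDegree η' + charDegree χ * charDegree η : ℕ) : ℂ) ≠ 0 := Nat.cast_ne_zero.mpr h5.ne'
    simpa [hc, hc', he, he'] using h6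
  have hce : c * e ≠ 0 := by
    have h1 := irr_charDegree_pos (hXi χ hχ)
    have h3 := irr_charDegree_pos (hYi η hη)
    rw [hc, he]
    exact mul_ne_zero (Nat.cast_ne_zero.mpr h1.ne') (Nat.cast_ne_zero.mpr h3.ne')
  have hce' : c' * e' ≠ 0 := by
    have h1 := irr_charDegree_pos (hXi χ' hχ')
    have h3 := irr_charDegree_pos (hYi η' hη')
    rw [hc', he']
    exact mul_ne_zero (Nat.cast_ne_zero.mpr h1.ne') (Nat.cast_ne_zero.mpr h3.ne')
  -- The differences.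
  have ha := dif_mem_on hXi hχ hχ'
  have hb := dif_mem_on hYi hη hη'
  have h0 : classInner (α (dif χ χ')) (α (dif η η')) = classInner (dif χ χ') (dif η η') :=
    hα.2.2.1 _ (zspanOn_mono hXS ha) _ (zspanOn_mono hYS hb)
  have hcross : ∀ a ∈ X, ∀ b ∈ Y, classInner a b = 0 := fun a ha b hb =>
    classInner_irr_ne (hXi a ha) (hYi b hb) (hne ha hb)
  have h1 : classInner (dif χ χ') (dif η η') = 0 := by
    rw [dif_eq, dif_eq]
    simp only [classInner_sub_left, classInner_sub_right, classInner_smul_left, classInner_smul_right]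
    rw [hcross χ hχ η hη, hcross χ hχ η' hη', hcross χ' hχ' η hη, hcross χ' hχ' η' hη']
    simp
  rw [h1, ← hσα _ ha, ← hτα _ hb, iso_dif hσ hχ hχ', iso_dif hτ hη hη'] at h0
  simp only [classInner_sub_left, classInner_sub_right, classInner_smul_left, classInner_smul_right,
    Complex.conj_natCast] at h0
  -- values at the identity
  have hv1 : c' * σ χ 1 - c * σ χ' 1 = 0 := by
    have h2 := hα1 _ (zspanOn_mono hXS ha)
    rw [← hσα _ ha, iso_dif hσ hχ hχ'] at h2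
    simpa using h2
  have hv2 : e' * τ η 1 - e * τ η' 1 = 0 := by
    have h2 := hα1 _ (zspanOn_mono hYS hb)
    rw [← hτα _ hb, iso_dif hτ hη hη'] at h2
    simpa using h2
  have hA : τ η 1 ≠ 0 := gen_norm_one_ne (hgY η hη) (hsY η hη)
  -- Sign analysis.
  have hsign := norm_one_inner (hgX χ hχ) (hgY η hη) (hsX χ hχ) (hsY η hη) hM
  obtain ⟨ε, hε, hσχ⟩ : ∃ ε : ℂ, (ε = 1 ∨ ε = -1) ∧ σ χ = ε • τ η := by
    rcases hsign with h | h
    · exact ⟨1, Or.inl rfl, by simpa using h⟩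
    · exact ⟨-1, Or.inr rfl, by simpa using h⟩
  have hε0 : ε ≠ 0 := by
    rcases hε with h | h <;> rw [h] <;> norm_num
  have hεc : conj ε = ε := by
    rcases hε with h | h <;> rw [h] <;> simp
  have hτη : τ η = ε • σ χ := by
    rw [hσχ, smul_smul]
    rcases hε with h | h <;> rw [h] <;> simp
  have t1 : classInner (σ χ) (τ η) = ε := by
    rw [hσχ, classInner_smul_left, hsY η hη, mul_one]
  have t2 : classInner (σ χ) (τ η') = 0 := by
    rw [hσχ, classInner_smul_left, hsY' η hη η' hη' hηη', mul_zero]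
  have t3 : classInner (σ χ') (τ η) = 0 := by
    rw [hτη, classInner_smul_right, hsX' χ' hχ' χ hχ (Ne.symm hχχ'), mul_zero]
  rw [t1, t2, t3] at h0
  set M := classInner (σ χ') (τ η') with hM'
  have h2 : c' * e' * ε + c * e * M = 0 := by
    linear_combination h0
  have hMne : M ≠ 0 := by
    intro h3
    rw [h3, mul_zero, add_zero] at h2
    exact (mul_ne_zero hce' hε0) h2
  have hsign' := norm_one_inner (hgX χ' hχ') (hgY η' hη') (hsX χ' hχ') (hsY η' hη') hMne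
  have hval : σ χ 1 = ε * τ η 1 := by
    rw [hσχ]
    simp
  rcases hsign' with h | h
  · -- `M = 1`
    have hM1 : M = 1 := by
      rw [hM', h, hsY η' hη']
    have hv : σ χ' 1 = τ η' 1 := by rw [h]
    rw [hM1] at h2
    rcases hε with h3 | h3
    · rw [h3] at h2
      apply hpos2
      linear_combination h2
    · rw [h3] at hval
      rw [hval, hv] at hv1
      apply hA
      have h4 : (c' * e + c * e') * τ η 1 = 0 := by
        linear_combination (-e) * hv1 + c * hv2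
      exact (mul_eq_zero.mp h4).resolve_left hpos
  · have hM1 : M = -1 := by
      rw [hM', h, classInner_neg_left, hsY η' hη']
    have hv : σ χ' 1 = -τ η' 1 := by rw [h]; simp
    rw [hM1] at h2
    rcases hε with h3 | h3
    · rw [h3] at hval
      rw [hval, hv] at hv1
      apply hA
      have h4 : (c' * e + c * e') * τ η 1 = 0 := by
        linear_combination e * hv1 + c * hv2
      exact (mul_eq_zero.mp h4).resolve_left hpos
    · rw [h3] at h2
      apply hpos2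
      linear_combination -h2

theorem s1531_main {S X Y : Set (N → ℂ)} (hirr : ∀ ξ ∈ S, IsIrrCharacter N ξ) (hXS : X ⊆ S) (hYS : Y ⊆ S)
    (hXY : Disjoint X Y) (hX2 : ∃ a ∈ X, ∃ b ∈ X, a ≠ b) (hY2 : ∃ a ∈ Y, ∃ b ∈ Y, a ≠ b)
    {α : (N → ℂ) → (G → ℂ)} (hα : IsLinearIsometryOn (zspanOn S ({1}ᶜ : Set N)) α)
    (hα1 : ∀ θ ∈ zspanOn S ({1}ᶜ : Set N), α θ 1 = 0) {σ τ : (N → ℂ) → (G → ℂ)}
    (hσ : IsLinearIsometryOn (zspan X) σ) (hσα : ∀ θ ∈ zspanOn X ({1}ᶜ : Set N), σ θ = α θ)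
    (hτ : IsLinearIsometryOn (zspan Y) τ) (hτα : ∀ θ ∈ zspanOn Y ({1}ᶜ : Set N), τ θ = α θ) :
    (∀ χ ∈ X, ∀ η ∈ Y, classInner (σ χ) (τ η) = 0) ∧
      ((∃ χ₀ ∈ X, ∃ η₀ ∈ Y, α (χ₀ 1 • η₀ - η₀ 1 • χ₀) = χ₀ 1 • τ η₀ - η₀ 1 • σ χ₀) →
        IsCoherent (X ∪ Y) ({1}ᶜ : Set N) α) := by
  classical
  have hort := s1531_orth hirr hXS hYS hXY hX2 hY2 hα hα1 hσ hσα hτ hτα
  refine ⟨hort, ?_⟩
  rintro ⟨χ₀, hχ₀, η₀, hη₀, hz⟩
  have hUS : X ∪ Y ⊆ S := Set.union_subset hXS hYS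
  have hUi : ∀ ξ ∈ X ∪ Y, IsIrrCharacter N ξ := fun ξ h => hirr ξ (hUS h)
  have hXi : ∀ ξ ∈ X, IsIrrCharacter N ξ := fun ξ h => hirr ξ (hXS h)
  have hYi : ∀ ξ ∈ Y, IsIrrCharacter N ξ := fun ξ h => hirr ξ (hYS h)
  constructor
  · obtain ⟨a, ha, b, hb, hab⟩ := hX2
    refine ⟨dif a b, zspanOn_mono Set.subset_union_left (dif_mem_on hXi ha hb), ?_⟩
    intro h0
    have h1 : classInner (dif a b) a = ((charDegree b : ℕ) : ℂ) := by
      rw [dif_eq, classInner_sub_left, classInner_smul_left, classInner_smul_left, classInner_irr_self (hXi a ha),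
        classInner_irr_ne (hXi b hb) (hXi a ha) (Ne.symm hab)]
      simp
    rw [h0, classInner_zero_left] at h1
    have h2 := irr_charDegree_pos (hXi b hb)
    exact (Nat.cast_ne_zero.mpr h2.ne') h1.symm
  let T : (N → ℂ) → (G → ℂ) := fun ξ => if ξ ∈ X then σ ξ else τ ξ
  have hTX : ∀ ξ ∈ X, T ξ = σ ξ := fun ξ h => if_pos h
  have hTY : ∀ ξ ∈ Y, T ξ = τ ξ := fun ξ h => if_neg (fun h' => Set.disjoint_left.mp hXY h' h)
  have horth : ∀ a ∈ X ∪ Y, ∀ b ∈ X ∪ Y, a ≠ b → classInner a b = 0 := fun a ha b hb hab =>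
    classInner_irr_ne (hUi a ha) (hUi b hb) hab
  have hne0 : ∀ a ∈ X ∪ Y, a ≠ 0 := by
    intro a ha h0
    apply (hUi a ha).map_one_ne_zero
    rw [h0]
    rfl
  have hgen : ∀ a ∈ X ∪ Y, IsGeneralizedCharacter G (T a) := by
    rintro a (ha | ha)
    · rw [hTX a ha]
      exact hσ.2.2.2 _ (subset_zspan ha)
    · rw [hTY a ha]
      exact hτ.2.2.2 _ (subset_zspan ha)
  have hne' : ∀ {a b : N → ℂ}, a ∈ X → b ∈ Y → a ≠ b := by
    rintro a b ha hb rfl
    exact Set.disjoint_left.mp hXY ha hb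
  have hin : ∀ a ∈ X ∪ Y, ∀ b ∈ X ∪ Y, classInner (T a) (T b) = classInner a b := by
    rintro a (ha | ha) b (hb | hb)
    · rw [hTX a ha, hTX b hb]
      exact hσ.2.2.1 _ (subset_zspan ha) _ (subset_zspan hb)
    · rw [hTX a ha, hTY b hb, hort a ha b hb, classInner_irr_ne (hXi a ha) (hYi b hb) (hne' ha hb)]
    · rw [hTY a ha, hTX b hb, ← conj_classInner, hort b hb a ha, classInner_irr_ne (hYi a ha) (hXi b hb) (Ne.symm (hne' hb ha))]
      simp
    · rw [hTY a ha, hTY b hb]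
      exact hτ.2.2.1 _ (subset_zspan ha) _ (subset_zspan hb)
  obtain ⟨τ₁, hτ₁, hτ₁T⟩ := exists_isometry_of_orthogonal horth hne0 hgen hin
  refine ⟨τ₁, hτ₁, ?_⟩
  have hτ₁X : ∀ {x : N → ℂ}, x ∈ zspan X → τ₁ x = σ x := fun {x} hx =>
    iso_eq_on_span (iso_mono hτ₁ (fun y hy => zs_mono Set.subset_union_left hy)) hσ
      (fun ξ h => by rw [hτ₁T ξ (Or.inl h), hTX ξ h]) hx
  have hτ₁Y : ∀ {x : N → ℂ}, x ∈ zspan Y → τ₁ x = τ x := fun {x} hx =>
    iso_eq_on_span (iso_mono hτ₁ (fun y hy => zs_mono Set.subset_union_right hy)) hτ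
      (fun ξ h => by rw [hτ₁T ξ (Or.inr h), hTY ξ h]) hx
  intro β hβ
  rw [mem_zspanOn_one] at hβ
  obtain ⟨hβ1, hβ2⟩ := hβ
  have hβ3 : β ∈ Submodule.span ℤ X ⊔ Submodule.span ℤ Y := by
    rw [← Submodule.span_union]
    exact hβ1
  obtain ⟨x, hx, y, hy, rfl⟩ := Submodule.mem_sup.mp hβ3
  have hx' : x ∈ zspan X := hx
  have hy' : y ∈ zspan Y := hy
  obtain ⟨a, ha⟩ := zspan_one_int (fun ξ h => (hXi ξ h).isCharacter) hx'
  obtain ⟨b, hb⟩ := zspan_one_int (fun ξ h => (hYi ξ h).isCharacter) hy'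
  have hab : (a : ℂ) + b = 0 := by
    rw [← ha, ← hb]
    exact hβ2
  have hab' : b = -a := by
    have : ((a + b : ℤ) : ℂ) = 0 := by push_cast; exact hab
    have h2 : a + b = 0 := by exact_mod_cast this
    omega
  set c : ℕ := charDegree χ₀ with hc
  set e : ℕ := charDegree η₀ with he
  have hc1 : χ₀ 1 = (c : ℂ) := irr_one_eq (hXi χ₀ hχ₀)
  have he1 : η₀ 1 = (e : ℂ) := irr_one_eq (hYi η₀ hη₀)
  have hcpos : 0 < c := irr_charDegree_pos (hXi χ₀ hχ₀)
  have hepos : 0 < e := irr_charDegree_pos (hYi η₀ hη₀)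
  set x' : N → ℂ := (c : ℤ) • x - a • χ₀ with hx'def
  set y' : N → ℂ := (e : ℤ) • y - b • η₀ with hy'def
  set z : N → ℂ := (c : ℤ) • η₀ - (e : ℤ) • χ₀ with hzdef
  have hx'm : x' ∈ zspanOn X ({1}ᶜ : Set N) := by
    rw [mem_zspanOn_one]
    refine ⟨zs_sub (zs_smul _ hx') (zs_smul _ (subset_zspan hχ₀)), ?_⟩
    simp only [hx'def, Pi.sub_apply, Pi.smul_apply, ha, hc1]
    simp
    ring
  have hy'm : y' ∈ zspanOn Y ({1}ᶜ : Set N) := by
    rw [mem_zspanOn_one]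
    refine ⟨zs_sub (zs_smul _ hy') (zs_smul _ (subset_zspan hη₀)), ?_⟩
    simp only [hy'def, Pi.sub_apply, Pi.smul_apply, hb, he1]
    simp
    ring
  have hzm : z ∈ zspanOn S ({1}ᶜ : Set N) := by
    rw [mem_zspanOn_one]
    refine ⟨zs_sub (zs_smul _ (zs_mono hYS (subset_zspan hη₀))) (zs_smul _ (zs_mono hXS (subset_zspan hχ₀))), ?_⟩
    simp only [hzdef, Pi.sub_apply, Pi.smul_apply, hc1, he1]
    simp
    ring
  have hzeq : χ₀ 1 • η₀ - η₀ 1 • χ₀ = z := by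
    funext g
    simp [hzdef, hc1, he1]
  rw [hzeq] at hz
  have hβm : x + y ∈ zspanOn S ({1}ᶜ : Set N) := by
    rw [mem_zspanOn_one]
    exact ⟨zs_mono hUS hβ1, hβ2⟩
  -- The main identity.
  have hmain : ((c : ℤ) * (e : ℤ)) • (x + y) = (e : ℤ) • x' + ((c : ℤ) • y' + (-a) • z) := by
    funext g
    simp only [hx'def, hy'def, hzdef, hab', Pi.add_apply, Pi.sub_apply, Pi.smul_apply]
    simp only [zsmul_eq_mul, Int.cast_mul, Int.cast_neg, Int.cast_natCast]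
    ring
  have h1 := hα.2.1 _ hβm ((c : ℤ) * (e : ℤ))
  have hxS := zspanOn_mono hXS hx'm
  have hyS := zspanOn_mono hYS hy'm
  rw [hmain, hα.1 _ (zspanOn_smul _ hxS) _ (zspanOn_add (zspanOn_smul _ hyS) (zspanOn_smul _ hzm)),
    hα.1 _ (zspanOn_smul _ hyS) _ (zspanOn_smul _ hzm), hα.2.1 _ hxS, hα.2.1 _ hyS, hα.2.1 _ hzm,
    ← hσα _ hx'm, ← hτα _ hy'm, hz] at h1
  have h2 : σ x' = (c : ℤ) • σ x - a • σ χ₀ := by
    rw [hx'def, zspan_iso_sub hσ (zs_smul _ hx') (zs_smul _ (subset_zspan hχ₀)), hσ.2.1 _ hx', hσ.2.1 _ (subset_zspan hχ₀)]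
  have h3 : τ y' = (e : ℤ) • τ y - b • τ η₀ := by
    rw [hy'def, zspan_iso_sub hτ (zs_smul _ hy') (zs_smul _ (subset_zspan hη₀)), hτ.2.1 _ hy', hτ.2.1 _ (subset_zspan hη₀)]
  rw [h2, h3] at h1
  have h4 : τ₁ (x + y) = σ x + τ y := by
    rw [hτ₁.1 _ (zs_mono Set.subset_union_left hx') _ (zs_mono Set.subset_union_right hy'), hτ₁X hx', hτ₁Y hy']
  rw [h4]
  have hce : ((c : ℂ) * (e : ℂ)) ≠ 0 := mul_ne_zero (Nat.cast_ne_zero.mpr hcpos.ne') (Nat.cast_ne_zero.mpr hepos.ne')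
  funext g
  have h5 := congrFun h1 g
  simp only [hab', Pi.add_apply, Pi.sub_apply, Pi.smul_apply] at h5
  simp only [zsmul_eq_mul, Int.cast_mul, Int.cast_neg, Int.cast_natCast, smul_eq_mul, hc1, he1] at h5
  apply mul_left_cancel₀ hce
  simp only [Pi.add_apply]
  linear_combination h5

theorem s1530_main {S₀ : Finset (N → ℂ)} {χ : N → ℂ} (hirr : ∀ ξ ∈ S₀, IsIrrCharacter N ξ) (hχ : IsIrrCharacter N χ)
    (hχS : χ ∉ S₀) {τ : (N → ℂ) → (G → ℂ)}
    (hτ : IsLinearIsometryOn (zspanOn (insert χ (S₀ : Set (N → ℂ))) ({1}ᶜ : Set N)) τ)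
    (hτ1 : ∀ α ∈ zspanOn (insert χ (S₀ : Set (N → ℂ))) ({1}ᶜ : Set N), τ α 1 = 0)
    (hcoh : IsCoherent (S₀ : Set (N → ℂ)) ({1}ᶜ : Set N) τ) {ψ : N → ℂ} (hψ : ψ ∈ S₀)
    (hdvd : charDegree ψ ∣ charDegree χ)
    (hlt : 2 * charDegree ψ * charDegree χ < ∑ ξ ∈ S₀, charDegree ξ ^ 2) :
    IsCoherent (insert χ (S₀ : Set (N → ℂ))) ({1}ᶜ : Set N) τ := by
  classical
  obtain ⟨-, τ₁, hτ₁, hτ₁τ⟩ := hcoh
  set S₂ : Set (N → ℂ) := insert χ (S₀ : Set (N → ℂ)) with hS₂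
  have hsub : (S₀ : Set (N → ℂ)) ⊆ S₂ := Set.subset_insert _ _
  have hirrset : ∀ ξ ∈ (S₀ : Set (N → ℂ)), IsIrrCharacter N ξ := fun ξ h => hirr ξ (Finset.mem_coe.mp h)
  have hψ' : ψ ∈ (S₀ : Set (N → ℂ)) := Finset.mem_coe.mpr hψ
  have hχ₂ : χ ∈ S₂ := Set.mem_insert _ _
  have hirr₂ : ∀ ξ ∈ S₂, IsIrrCharacter N ξ := by
    rintro ξ (rfl | h)
    · exact hχ
    · exact hirrset ξ h
  have hψpos := irr_charDegree_pos (hirr ψ hψ)
  have hχpos := irr_charDegree_pos hχ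
  obtain ⟨a, ha⟩ := hdvd
  have hapos : 0 < a := by
    rcases Nat.eq_zero_or_pos a with h | h
    · rw [h, mul_zero] at ha
      omega
    · exact h
  set Dψ : ℕ := charDegree ψ with hDψ
  set Dχ : ℕ := charDegree χ with hDχ
  have hψ1 : ψ 1 = (Dψ : ℂ) := irr_one_eq (hirr ψ hψ)
  have hχ1 : χ 1 = (Dχ : ℂ) := irr_one_eq hχ
  have hDχC : (Dχ : ℂ) = (Dψ : ℂ) * (a : ℂ) := by
    rw [ha]
    push_cast
    ring
  have hDψC : (Dψ : ℂ) ≠ 0 := Nat.cast_ne_zero.mpr hψpos.ne'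
  have haC : (a : ℂ) ≠ 0 := Nat.cast_ne_zero.mpr hapos.ne'
  -- orthogonality of `χ`
  have hχort : ∀ ξ ∈ S₀, classInner χ ξ = 0 := by
    intro ξ hξ
    apply classInner_irr_ne hχ (hirr ξ hξ)
    rintro rfl
    exact hχS hξ
  have hχort' : ∀ ξ ∈ S₀, classInner ξ χ = 0 := by
    intro ξ hξ
    rw [← conj_classInner, hχort ξ hξ, map_zero]
  have hψψ : classInner ψ ψ = 1 := classInner_irr_self (hirr ψ hψ)
  have hχχ : classInner χ χ = 1 := classInner_irr_self hχ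
  -- The candidate.
  set β₀ : N → ℂ := χ - ((a : ℕ) : ℤ) • ψ with hβ₀def
  have hβ₀eq : β₀ = χ - (a : ℂ) • ψ := by
    rw [hβ₀def, int_smul_eq]
    simp
  have hβ₀ : β₀ ∈ zspanOn S₂ ({1}ᶜ : Set N) := by
    rw [mem_zspanOn_one]
    refine ⟨zs_sub (subset_zspan hχ₂) (zs_smul _ (zs_mono hsub (subset_zspan hψ'))), ?_⟩
    rw [hβ₀eq]
    simp only [Pi.sub_apply, Pi.smul_apply, smul_eq_mul, hχ1, hψ1, hDχC]
    ring
  set ν : G → ℂ := τ β₀ + (a : ℂ) • τ₁ ψ with hν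
  have hgenψ : IsGeneralizedCharacter G (τ₁ ψ) := hτ₁.2.2.2 _ (subset_zspan hψ')
  have hgenν : IsGeneralizedCharacter G ν := by
    have h1 := hgenψ.int_smul (a : ℤ)
    simp only [Int.cast_natCast] at h1
    exact (hτ.2.2.2 _ hβ₀).add h1
  have hgenτ₁ : ∀ ξ ∈ S₀, IsGeneralizedCharacter G (τ₁ ξ) := fun ξ hξ =>
    hτ₁.2.2.2 _ (subset_zspan (Finset.mem_coe.mpr hξ))
  have hin₁ : ∀ ξ ∈ S₀, ∀ ξ' ∈ S₀, classInner (τ₁ ξ) (τ₁ ξ') = classInner ξ ξ' := fun ξ hξ ξ' hξ' =>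
    hτ₁.2.2.1 _ (subset_zspan (Finset.mem_coe.mpr hξ)) _ (subset_zspan (Finset.mem_coe.mpr hξ'))
  set y : (N → ℂ) → ℂ := fun ξ => classInner ν (τ₁ ξ) with hy
  have hprop : ∀ ξ ∈ S₀, (Dψ : ℂ) * y ξ = (charDegree ξ : ℂ) * y ψ := by
    intro ξ hξ
    have hξ' : ξ ∈ (S₀ : Set (N → ℂ)) := Finset.mem_coe.mpr hξ
    have hγ := dif_mem_on hirrset hξ' hψ'
    have hγ2 := zspanOn_mono hsub hγ
    have h1 : τ₁ (dif ξ ψ) = τ (dif ξ ψ) := hτ₁τ _ hγ
    have h2 : classInner ν (τ₁ (dif ξ ψ)) = 0 := by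
      rw [hν, classInner_add_left, classInner_smul_left]
      rw [hτ₁.2.2.1 _ (subset_zspan hψ') _ hγ.1]
      nth_rewrite 1 [h1]
      rw [hτ.2.2.1 _ hβ₀ _ hγ2, hβ₀eq, classInner_sub_left, classInner_smul_left]
      have h3 : classInner χ (dif ξ ψ) = 0 := by
        rw [dif_eq, classInner_sub_right, classInner_smul_right, classInner_smul_right, hχort ξ hξ, hχort ψ hψ]
        simp
      rw [h3]
      ring
    rw [iso_dif hτ₁ hξ' hψ', classInner_sub_right, classInner_smul_right, classInner_smul_right] at h2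
    simp only [Complex.conj_natCast] at h2
    linear_combination h2
  obtain ⟨Y, hY⟩ := gen_inner_int hgenν hgenψ
  have hyψ : y ψ = (Y : ℂ) := hY
  -- The norm of `ν`.
  have hnorm : classInner ν ν = 1 + 2 * (a : ℂ) * Y := by
    obtain ⟨W, hW⟩ := gen_inner_int (hτ.2.2.2 _ hβ₀) hgenψ
    have hW' : classInner (τ₁ ψ) (τ β₀) = (W : ℂ) := by
      rw [← conj_classInner, hW]
      simp
    have h1 : classInner (τ β₀) (τ β₀) = 1 + (a : ℂ) ^ 2 := by
      rw [hτ.2.2.1 _ hβ₀ _ hβ₀, hβ₀eq]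
      simp only [classInner_sub_left, classInner_sub_right, classInner_smul_left, classInner_smul_right,
        Complex.conj_natCast]
      rw [hχχ, hψψ, hχort ψ hψ, hχort' ψ hψ]
      ring
    have h2 : classInner (τ₁ ψ) (τ₁ ψ) = 1 := by rw [hin₁ ψ hψ ψ hψ, hψψ]
    have h3 : (Y : ℂ) = W + a := by
      rw [← hY, hν, classInner_add_left, classInner_smul_left, hW, h2, mul_one]
    rw [hν]
    simp only [classInner_add_left, classInner_add_right, classInner_smul_left, classInner_smul_right,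
      Complex.conj_natCast]
    rw [h1, h2, hW, hW', h3]
    ring
  have hnormre : (classInner ν ν).re = 1 + 2 * (a : ℝ) * Y := by
    rw [hnorm]
    simp
  -- Bessel
  have horth₁ : ∀ ξ ∈ S₀, ∀ ξ' ∈ S₀, ξ ≠ ξ' → classInner (τ₁ ξ) (τ₁ ξ') = 0 := by
    intro ξ hξ ξ' hξ' hn
    rw [hin₁ ξ hξ ξ' hξ', classInner_irr_ne (hirr ξ hξ) (hirr ξ' hξ') hn]
  have hself₁ : ∀ ξ ∈ S₀, classInner (τ₁ ξ) (τ₁ ξ) = 1 := by
    intro ξ hξ
    rw [hin₁ ξ hξ ξ hξ, classInner_irr_self (hirr ξ hξ)]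
  have hbes := bessel_le₁ S₀ τ₁ horth₁ hself₁ ν
  rw [hnormre] at hbes
  have hnormsq : ∀ ξ ∈ S₀, (Dψ : ℝ) ^ 2 * ‖classInner ν (τ₁ ξ)‖ ^ 2 = (charDegree ξ : ℝ) ^ 2 * (Y : ℝ) ^ 2 := by
    intro ξ hξ
    have h1 := congrArg (fun z : ℂ => ‖z‖ ^ 2) (hprop ξ hξ)
    simp only [norm_mul, Complex.norm_natCast, mul_pow, hyψ, Complex.norm_intCast, sq_abs] at h1
    exact h1
  have hsumR : (Dψ : ℝ) ^ 2 * ∑ ξ ∈ S₀, ‖classInner ν (τ₁ ξ)‖ ^ 2 = ((∑ ξ ∈ S₀, charDegree ξ ^ 2 : ℕ) : ℝ) * (Y : ℝ) ^ 2 := by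
    rw [Finset.mul_sum, Nat.cast_sum, Finset.sum_mul]
    refine Finset.sum_congr rfl fun ξ hξ => ?_
    rw [hnormsq ξ hξ]
    push_cast
    ring
  set Sg : ℕ := ∑ ξ ∈ S₀, charDegree ξ ^ 2 with hSg
  have hDψR : (0 : ℝ) < (Dψ : ℝ) := by exact_mod_cast hψpos
  have hineqR : ((Sg : ℝ)) * (Y : ℝ) ^ 2 ≤ (Dψ : ℝ) ^ 2 * (1 + 2 * (a : ℝ) * Y) := by
    rw [← hsumR]
    exact mul_le_mul_of_nonneg_left hbes (by positivity)
  have hineqZ : (Sg : ℤ) * Y ^ 2 ≤ (Dψ : ℤ) ^ 2 * (1 + 2 * (a : ℤ) * Y) := by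
    exact_mod_cast hineqR
  have hlt' : 2 * (a : ℤ) * (Dψ : ℤ) ^ 2 + 1 ≤ (Sg : ℤ) := by
    have h1 : 2 * Dψ * Dχ < Sg := hlt
    rw [ha] at h1
    have h2 : (2 * Dψ * (Dψ * a) : ℤ) < Sg := by exact_mod_cast h1
    nlinarith
  have hDψZ : (1 : ℤ) ≤ (Dψ : ℤ) := by exact_mod_cast hψpos
  have haZ : (1 : ℤ) ≤ (a : ℤ) := by exact_mod_cast hapos
  -- `Y` is zero or one.
  have hY01 : Y = 0 ∨ Y = 1 := by
    by_contra hcon
    push Not at hcon
    have h1 : (2 : ℤ) ≤ Y ^ 2 - Y := by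
      rcases lt_trichotomy Y 0 with h | h | h
      · nlinarith
      · exact absurd h hcon.1
      · have h2 : 2 ≤ Y := by
          have := hcon.2
          omega
        nlinarith
    have h2 : (2 * (a : ℤ) * (Dψ : ℤ) ^ 2 + 1) * Y ^ 2 ≤ (Sg : ℤ) * Y ^ 2 :=
      mul_le_mul_of_nonneg_right hlt' (sq_nonneg _)
    have h3 : (1 : ℤ) * (Dψ : ℤ) ^ 2 ≤ (a : ℤ) * (Dψ : ℤ) ^ 2 :=
      mul_le_mul_of_nonneg_right haZ (sq_nonneg _)
    have h4 : 0 < (Dψ : ℤ) ^ 2 := by positivity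
    have h5 : 2 * ((a : ℤ) * (Dψ : ℤ) ^ 2) * (Y ^ 2 - Y) ≤ (Dψ : ℤ) ^ 2 - Y ^ 2 := by nlinarith
    have h6 : 2 * ((a : ℤ) * (Dψ : ℤ) ^ 2) * 2 ≤ 2 * ((a : ℤ) * (Dψ : ℤ) ^ 2) * (Y ^ 2 - Y) :=
      mul_le_mul_of_nonneg_left h1 (by positivity)
    nlinarith [sq_nonneg Y]
  -- Exclude `Y = 1`
  have hb : τ₁ ψ 1 ≠ 0 := gen_norm_one_ne hgenψ (hself₁ ψ hψ)
  have hY0 : Y = 0 := by
    rcases hY01 with h | h
    · exact h
    · exfalso
      subst h
      -- integer values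
      have hyint : ∀ ξ ∈ S₀, ∃ n : ℤ, y ξ = n := fun ξ hξ => gen_inner_int hgenν (hgenτ₁ ξ hξ)
      -- the remainder
      set Δ : G → ℂ := ν - ∑ ξ ∈ S₀, classInner ν (τ₁ ξ) • τ₁ ξ with hΔ
      have hgenΔ : IsGeneralizedCharacter G Δ := by
        refine hgenν.sub (IsGeneralizedCharacter.sum _ fun ξ hξ => ?_)
        obtain ⟨n, hn⟩ := hyint ξ hξ
        have : classInner ν (τ₁ ξ) = (n : ℂ) := hn
        rw [this]
        exact (hgenτ₁ ξ hξ).int_smul n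
      have hidΔ := bessel_identity₁ S₀ τ₁ horth₁ hself₁ ν
      obtain ⟨m, hm⟩ := gen_inner_int hgenΔ hgenΔ
      rw [hm, hnorm] at hidΔ
      have hreal : (m : ℝ) = 1 + 2 * (a : ℝ) * 1 - ∑ ξ ∈ S₀, ‖classInner ν (τ₁ ξ)‖ ^ 2 := by
        have := congrArg Complex.re hidΔ
        rw [Complex.sub_re, Complex.ofReal_re] at this
        simpa using this
      have hm0 : 0 ≤ m := by
        have h1 := classInner_self_re_nonneg Δ
        rw [hm] at h1
        simpa using h1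
      have hsum2 : (Dψ : ℝ) ^ 2 * (m : ℝ) = (Dψ : ℝ) ^ 2 * (1 + 2 * (a : ℝ)) - (Sg : ℝ) := by
        rw [hreal, mul_sub, hsumR]
        push_cast
        ring
      have hsumZ : (Dψ : ℤ) ^ 2 * m = (Dψ : ℤ) ^ 2 * (1 + 2 * (a : ℤ)) - (Sg : ℤ) := by
        exact_mod_cast hsum2
      have hm00 : m = 0 := by
        have h1 : (Dψ : ℤ) ^ 2 * m < (Dψ : ℤ) ^ 2 * 1 := by
          rw [hsumZ]
          nlinarith
        have h2 : m < 1 := lt_of_mul_lt_mul_left h1 (by positivity)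
        omega
      have hΔ0 : Δ = 0 := by
        apply classInner_self_zero
        rw [hm, hm00]
        simp
      -- evaluate at 1
      have hval : ν 1 = ∑ ξ ∈ S₀, classInner ν (τ₁ ξ) * τ₁ ξ 1 := by
        have := congrFun hΔ0 1
        rw [hΔ] at this
        simp only [Pi.sub_apply, Finset.sum_apply, Pi.smul_apply, smul_eq_mul, Pi.zero_apply] at this
        linear_combination this
      have hν1 : ν 1 = (a : ℂ) * τ₁ ψ 1 := by
        rw [hν]
        simp [hτ1 _ hβ₀]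
      have hvalξ : ∀ ξ ∈ S₀, (Dψ : ℂ) * τ₁ ξ 1 = (charDegree ξ : ℂ) * τ₁ ψ 1 := by
        intro ξ hξ
        have hξ' : ξ ∈ (S₀ : Set (N → ℂ)) := Finset.mem_coe.mpr hξ
        have hγ := dif_mem_on hirrset hξ' hψ'
        have h1 := hτ1 _ (zspanOn_mono hsub hγ)
        rw [← hτ₁τ _ hγ, iso_dif hτ₁ hξ' hψ'] at h1
        simp only [Pi.sub_apply, Pi.smul_apply, smul_eq_mul, Pi.zero_apply] at h1
        linear_combination h1
      have hfinal : (Dψ : ℂ) ^ 2 * ν 1 = (Sg : ℂ) * τ₁ ψ 1 := by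
        rw [hval, Finset.mul_sum, hSg, Nat.cast_sum, Finset.sum_mul]
        refine Finset.sum_congr rfl fun ξ hξ => ?_
        have h1 := hprop ξ hξ
        have h2 := hvalξ ξ hξ
        rw [hyψ] at h1
        push_cast at h1 ⊢
        have h3 : (Dψ : ℂ) ^ 2 * (classInner ν (τ₁ ξ) * τ₁ ξ 1) = ((Dψ : ℂ) * y ξ) * ((Dψ : ℂ) * τ₁ ξ 1) := by
          simp only [hy]
          ring
        rw [h3, h1, h2]
        ring
      rw [hν1] at hfinal
      have h5 : (Dψ : ℂ) ^ 2 * (a : ℂ) = (Sg : ℂ) := by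
        apply mul_right_cancel₀ hb
        linear_combination hfinal
      have h6 : Dψ ^ 2 * a = Sg := by exact_mod_cast h5
      have h7 : 2 * (a : ℤ) * (Dψ : ℤ) ^ 2 + 1 ≤ (Dψ : ℤ) ^ 2 * a := by
        have : ((Dψ ^ 2 * a : ℕ) : ℤ) = (Sg : ℤ) := by rw [h6]
        push_cast at this
        rw [this]
        exact hlt'
      nlinarith [mul_pos (by positivity : (0 : ℤ) < (Dψ : ℤ) ^ 2) (by linarith : (0 : ℤ) < (a : ℤ))]
  subst hY0
  have hyzero : ∀ ξ ∈ S₀, classInner ν (τ₁ ξ) = 0 := by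
    intro ξ hξ
    have h1 := hprop ξ hξ
    rw [hyψ] at h1
    simp only [Int.cast_zero, mul_zero] at h1
    exact (mul_eq_zero.mp h1).resolve_left hDψC
  have hνν : classInner ν ν = 1 := by
    rw [hnorm]
    simp
  -- Construct the extension
  constructor
  · refine ⟨β₀, hβ₀, ?_⟩
    intro h0
    have h1 : classInner β₀ χ = 1 := by
      rw [hβ₀eq, classInner_sub_left, classInner_smul_left, hχχ, hχort' ψ hψ]
      ring
    rw [h0, classInner_zero_left] at h1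
    exact zero_ne_one h1
  let T : (N → ℂ) → (G → ℂ) := fun ξ => if ξ = χ then ν else τ₁ ξ
  have hTχ : T χ = ν := if_pos rfl
  have hTξ : ∀ ξ ∈ S₀, T ξ = τ₁ ξ := by
    intro ξ hξ
    refine if_neg ?_
    rintro rfl
    exact hχS hξ
  have horth : ∀ p ∈ S₂, ∀ q ∈ S₂, p ≠ q → classInner p q = 0 := fun p hp q hq hpq =>
    classInner_irr_ne (hirr₂ p hp) (hirr₂ q hq) hpq
  have hne0 : ∀ p ∈ S₂, p ≠ 0 := by
    intro p hp h0
    apply (hirr₂ p hp).map_one_ne_zero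
    rw [h0]
    rfl
  have hgen : ∀ p ∈ S₂, IsGeneralizedCharacter G (T p) := by
    intro p hp
    rcases hp with hp | hp
    · rw [hp, hTχ]
      exact hgenν
    · rw [hTξ p (Finset.mem_coe.mp hp)]
      exact hgenτ₁ p (Finset.mem_coe.mp hp)
  have hin : ∀ p ∈ S₂, ∀ q ∈ S₂, classInner (T p) (T q) = classInner p q := by
    intro p hp q hq
    rcases hp with hp | hp <;> rcases hq with hq | hq
    · rw [hp, hq, hTχ, hνν, hχχ]
    · have hb' := Finset.mem_coe.mp hq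
      rw [hp, hTχ, hTξ q hb', hyzero q hb', hχort q hb']
    · have ha' := Finset.mem_coe.mp hp
      rw [hq, hTχ, hTξ p ha', ← conj_classInner, hyzero p ha', hχort' p ha', map_zero]
    · have ha' := Finset.mem_coe.mp hp
      have hb' := Finset.mem_coe.mp hq
      rw [hTξ p ha', hTξ q hb', hin₁ p ha' q hb']
  obtain ⟨τ₂, hτ₂, hτ₂T⟩ := exists_isometry_of_orthogonal horth hne0 hgen hin
  refine ⟨τ₂, hτ₂, ?_⟩
  have hτ₂₁ : ∀ {x : N → ℂ}, x ∈ zspan (S₀ : Set (N → ℂ)) → τ₂ x = τ₁ x := fun {x} hx =>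
    iso_eq_on_span (iso_mono hτ₂ (fun y hy => zs_mono hsub hy)) hτ₁
      (fun ξ h => by rw [hτ₂T ξ (hsub h), hTξ ξ (Finset.mem_coe.mp h)]) hx
  intro β hβ
  have hβm := hβ
  rw [mem_zspanOn_one] at hβ
  obtain ⟨hβ1, hβ2⟩ := hβ
  have hβ3 : β ∈ Submodule.span ℤ (insert χ (S₀ : Set (N → ℂ))) := hβ1
  obtain ⟨m, x, hx, rfl⟩ := Submodule.mem_span_insert.mp hβ3
  have hx' : x ∈ zspan (S₀ : Set (N → ℂ)) := hx
  set z : N → ℂ := x + (m * (a : ℤ)) • ψ with hz
  have hzz : z ∈ zspanOn (S₀ : Set (N → ℂ)) ({1}ᶜ : Set N) := by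
    rw [mem_zspanOn_one]
    refine ⟨zs_add hx' (zs_smul _ (subset_zspan hψ')), ?_⟩
    simp only [Pi.add_apply, Pi.smul_apply] at hβ2
    simp only [hχ1, smul_eq_mul, zsmul_eq_mul, hDχC] at hβ2
    simp only [hz, Pi.add_apply, Pi.smul_apply]
    simp only [hψ1, smul_eq_mul, zsmul_eq_mul]
    push_cast
    linear_combination hβ2
  have hdecomp : m • χ + x = m • β₀ + z := by
    rw [hβ₀def, hz]
    funext g
    simp only [Pi.add_apply, Pi.sub_apply, Pi.smul_apply]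
    simp only [zsmul_eq_mul]
    push_cast
    ring
  rw [hdecomp, hτ.1 _ (zspanOn_smul _ hβ₀) _ (zspanOn_mono hsub hzz), hτ.2.1 _ hβ₀, ← hτ₁τ _ hzz, hz,
    hτ₁.1 _ hx' _ (zs_smul _ (subset_zspan hψ')), hτ₁.2.1 _ (subset_zspan hψ')]
  rw [← hz, ← hdecomp, hτ₂.1 _ (zs_smul _ (subset_zspan hχ₂)) _ (zs_mono hsub hx'), hτ₂.2.1 _ (subset_zspan hχ₂),
    hτ₂T χ hχ₂, hTχ, hτ₂₁ hx', hν]
  funext g
  simp only [Pi.add_apply, Pi.smul_apply, smul_eq_mul]
  simp only [zsmul_eq_mul]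
  push_cast
  ring

end S1531

end CfsgLib.Char
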