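import Cfsg.Agent.Lib.Char.Ramified
import Cfsg.Agent.Lib.Char.Extend
import Cfsg.Agent.Lib.Char.Gallagher
import Cfsg.Agent.Lib.Char.AbelianQuot

/-!
# Fully ramified characters and self-centralizing cyclic sections
-/

universe u

open Cfsg
open scoped ComplexConjugate

namespace CfsgLib.Char.FR

/-- A constituent of `φ` whose composition with `j` is `θ` forces `θ` to be a constituent of `φ ∘ j`. -/
theorem cons_of_res {K A : Type u} [Group K] [Group A] [Fintype K] [Fintype A] (j : A →* K)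
    {φ : K → ℂ} (hφ : IsCharacter K φ) {ζ : IrrCharacter K} {θ : A → ℂ} (hθ : IsIrrCharacter A θ)
    (hζ : ∀ a, (ζ : K → ℂ) (j a) = θ a) (h : classInner φ (ζ : K → ℂ) ≠ 0) :
    classInner (φ ∘ j) θ ≠ 0 := by
  classical
  have h1 : φ ∘ j = ∑ τ : IrrCharacter K, classInner φ (τ : K → ℂ) • ((τ : K → ℂ) ∘ j) := by
    funext a
    simp only [Function.comp_apply, Finset.sum_apply, Pi.smul_apply, smul_eq_mul]
    exact classFunction_apply hφ.isClassFunction (j a)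
  choose a ha using fun τ : IrrCharacter K => hφ.classInner_nat_of_char τ.2.isCharacter
  choose b hb using fun τ : IrrCharacter K => (τ.2.isCharacter.comp j).classInner_nat_of_char hθ.isCharacter
  have h2 : classInner (φ ∘ j) θ = ((∑ τ : IrrCharacter K, a τ * b τ : ℕ) : ℂ) := by
    rw [h1, classInner_sum_left]
    push_cast
    refine Finset.sum_congr rfl fun τ _ => ?_
    rw [classInner_smul_left, ha τ, hb τ]
  rw [h2]
  intro h0
  have h3 : ∑ τ : IrrCharacter K, a τ * b τ = 0 := by exact_mod_cast h0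
  have h4 := (Finset.sum_eq_zero_iff.1 h3) ζ (Finset.mem_univ _)
  have h5 : b ζ = 1 := by
    have h6 := hb ζ
    have h7 : (ζ : K → ℂ) ∘ j = θ := funext hζ
    rw [h7, classInner_irr_self hθ] at h6
    exact_mod_cast h6.symm
  rw [h5, mul_one] at h4
  apply h
  rw [ha ζ, h4, Nat.cast_zero]

variable {H : Type u} [Group H] [Fintype H]

theorem ind_vanish (Z K : Subgroup H) [Fintype Z] [Fintype K] (hZK : Z ≤ K) {χ : H → ℂ}
    (hvan : ∀ g, g ∉ Z → χ g = 0) {θ : Z → ℂ} (hθ : IsIrrCharacter Z θ)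
    (honly : ∀ ψ : H → ℂ, IsIrrCharacter H ψ → classInner (indFun Z θ) ψ ≠ 0 → ψ = χ)
    (ζ : IrrCharacter K) (hζ : ∀ z : Z, (ζ : K → ℂ) ⟨z, hZK z.2⟩ = θ z) (y : H) (hy : y ∉ Z) :
    indFun K (ζ : K → ℂ) y = 0 := by
  classical
  have hΨ := isCharacter_indFun K ζ.2.isCharacter
  rw [classFunction_apply hΨ.isClassFunction y]
  refine Finset.sum_eq_zero fun ξ _ => ?_
  by_cases h0 : classInner (indFun K (ζ : K → ℂ)) (ξ : H → ℂ) = 0
  · rw [h0, zero_mul]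
  · have h1 : classInner (ζ : K → ℂ) (fun k : K => (ξ : H → ℂ) k) ≠ 0 := by
      rwa [frobenius K _ ξ.2.isClassFunction] at h0
    have h2 : classInner (fun k : K => (ξ : H → ℂ) k) (ζ : K → ℂ) ≠ 0 := by
      intro h3
      apply h1
      rw [← conj_classInner, h3, map_zero]
    have h3 := cons_of_res (Subgroup.inclusion hZK) (ξ.2.isCharacter.restrict K) hθ hζ h2
    have h4 : classInner (indFun Z θ) (ξ : H → ℂ) ≠ 0 := by
      rw [frobenius Z _ ξ.2.isClassFunction]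
      intro h5
      apply h3
      rw [← conj_classInner]
      have h6 : (fun k : K => (ξ : H → ℂ) k) ∘ (Subgroup.inclusion hZK) = fun z : Z => (ξ : H → ℂ) z := rfl
      rw [h6, h5, map_zero]
    rw [honly _ ξ.2 h4, hvan y hy, mul_zero]

/-- The key vanishing. -/
theorem fourier_step (Z K : Subgroup H) [hZn : Z.Normal] [Fintype Z] [Fintype K] (hZK : Z ≤ K) {χ : H → ℂ}
    (hvan : ∀ g, g ∉ Z → χ g = 0) {θ : Z → ℂ} (hθ : IsIrrCharacter Z θ)
    (honly : ∀ ψ : H → ℂ, IsIrrCharacter H ψ → classInner (indFun Z θ) ψ ≠ 0 → ψ = χ)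
    (η : IrrCharacter K) (hη : ∀ z : Z, (η : K → ℂ) ⟨z, hZK z.2⟩ = θ z)
    (hab : ∀ a b : K, a * b * a⁻¹ * b⁻¹ ∈ Z.subgroupOf K)
    (y : K) (hy : (y : H) ∉ Z) (hself : ∀ h : H, h⁻¹ * y * h * (y : H)⁻¹ ∈ Z → h ∈ K) : (η : K → ℂ) y = 0 := by
  classical
  letI : Fintype (K ⧸ Z.subgroupOf K) := Fintype.ofFinite _
  let π : K →* K ⧸ Z.subgroupOf K := QuotientGroup.mk' _
  have hπs : Function.Surjective π := QuotientGroup.mk'_surjective _
  have hπ1 : ∀ a : K, π a = 1 ↔ a ∈ Z.subgroupOf K := fun a => QuotientGroup.eq_one_iff a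
  have hcomm : ∀ s t : K ⧸ Z.subgroupOf K, s * t = t * s := by
    intro s t
    obtain ⟨a, rfl⟩ := hπs s
    obtain ⟨b, rfl⟩ := hπs t
    have h1 := (hπ1 _).2 (hab a b)
    rw [map_mul, map_mul, map_mul, map_inv, map_inv] at h1
    exact mul_inv_eq_iff_eq_mul.1 (mul_inv_eq_one.1 h1)
  have hdeg : ∀ l : IrrCharacter (K ⧸ Z.subgroupOf K), (l : K ⧸ Z.subgroupOf K → ℂ) 1 = 1 := by
    intro l
    have h1 : IsIrrCharacter K (fun k => (l : K ⧸ Z.subgroupOf K → ℂ) (π k)) := l.2.comp_surjective π hπs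
    have h2 := degree_one_of_abelian_quot (Z.subgroupOf K) h1 (fun n hn => by
      show (l : K ⧸ Z.subgroupOf K → ℂ) (π n) = (l : K ⧸ Z.subgroupOf K → ℂ) (π 1)
      rw [(hπ1 n).2 hn, map_one]) hab
    simpa only [map_one] using h2
  have hirr : ∀ l : IrrCharacter (K ⧸ Z.subgroupOf K),
      IsIrrCharacter K (fun k => (l : K ⧸ Z.subgroupOf K → ℂ) (π k) * (η : K → ℂ) k) := by
    intro l
    have h1 : IsIrrCharacter K (fun k => (l : K ⧸ Z.subgroupOf K → ℂ) (π k)) := l.2.comp_surjective π hπs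
    obtain ⟨m, hm⟩ := CfsgLib.Char.exists_hom_of_degree_one h1.isCharacter (by simpa only [map_one] using hdeg l)
    have h2 := isIrr_hom_mul m η.2
    convert h2 using 1
    funext k
    simp only [Pi.mul_apply]
    rw [← congrFun hm k]
  let ζ : IrrCharacter (K ⧸ Z.subgroupOf K) → IrrCharacter K := fun l => ⟨_, hirr l⟩
  have hζ : ∀ l, ∀ z : Z, (ζ l : K → ℂ) ⟨z, hZK z.2⟩ = θ z := by
    intro l z
    show (l : K ⧸ Z.subgroupOf K → ℂ) (π ⟨z, hZK z.2⟩) * (η : K → ℂ) ⟨z, hZK z.2⟩ = θ z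
    rw [(hπ1 ⟨z, hZK z.2⟩).2 z.2, hdeg l, one_mul, hη z]
  have hK0 : (Nat.card K : ℂ) ≠ 0 := by
    exact_mod_cast Nat.card_pos.ne'
  have hind : ∀ l, ∑ h : H, extendByZero K (ζ l : K → ℂ) (h⁻¹ * y * h) = 0 := by
    intro l
    have h1 := ind_vanish Z K hZK hvan hθ honly (ζ l) (hζ l) y hy
    rw [indFun] at h1
    exact (mul_eq_zero.1 h1).resolve_left (inv_ne_zero hK0)
  set c : ℕ := Nat.card (Subgroup.centralizer ({π y} : Set (K ⧸ Z.subgroupOf K))) with hcdef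
  have hc0 : (c : ℂ) ≠ 0 := by
    exact_mod_cast Nat.card_pos.ne'
  let T : H → ℂ := fun h => ∑ l : IrrCharacter (K ⧸ Z.subgroupOf K),
    conj ((l : K ⧸ Z.subgroupOf K → ℂ) (π y)) * extendByZero K (ζ l : K → ℂ) (h⁻¹ * y * h)
  have hsum : ∑ h, T h = 0 := by
    simp only [T]
    rw [Finset.sum_comm]
    refine Finset.sum_eq_zero fun l _ => ?_
    rw [← Finset.mul_sum, hind l, mul_zero]
  have hT : ∀ h, T h = if h⁻¹ * y * h * (y : H)⁻¹ ∈ Z then (c : ℂ) * (η : K → ℂ) y else 0 := by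
    intro h
    by_cases hK : h⁻¹ * y * h ∈ K
    · have h1 : T h = (∑ l : IrrCharacter (K ⧸ Z.subgroupOf K), (l : K ⧸ Z.subgroupOf K → ℂ) (π ⟨_, hK⟩) *
          conj ((l : K ⧸ Z.subgroupOf K → ℂ) (π y))) * (η : K → ℂ) ⟨_, hK⟩ := by
        simp only [T]
        rw [Finset.sum_mul]
        refine Finset.sum_congr rfl fun l _ => ?_
        have h2 : extendByZero K (ζ l : K → ℂ) (h⁻¹ * y * h) = (ζ l : K → ℂ) ⟨_, hK⟩ := by
          exact Subtype.val_injective.extend_apply _ _ (⟨_, hK⟩ : K)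
        rw [h2]
        show _ * ((l : K ⧸ Z.subgroupOf K → ℂ) (π ⟨_, hK⟩) * (η : K → ℂ) ⟨_, hK⟩) = _
        ring
      rw [h1, column_orthogonality]
      have hiff : IsConj (π ⟨_, hK⟩) (π y) ↔ h⁻¹ * y * h * (y : H)⁻¹ ∈ Z := by
        have h2 : π ⟨_, hK⟩ = π y ↔ h⁻¹ * y * h * (y : H)⁻¹ ∈ Z := by
          rw [← mul_inv_eq_one, ← map_inv, ← map_mul, hπ1]
          rfl
        rw [← h2]
        constructor
        · intro h3
          obtain ⟨u, hu⟩ := isConj_iff.1 h3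
          rw [← hu, hcomm u, mul_inv_cancel_right]
        · intro h3
          rw [h3]
        
      by_cases h3 : h⁻¹ * y * h * (y : H)⁻¹ ∈ Z
      · rw [if_pos h3, if_pos (hiff.2 h3)]
        have hhK := hself h h3
        have h4 : (η : K → ℂ) ⟨_, hK⟩ = (η : K → ℂ) y := by
          have h5 := η.2.isClassFunction y (⟨h⁻¹, K.inv_mem hhK⟩ : K)
          rw [← h5]
          refine congrArg (η : K → ℂ) (Subtype.ext ?_)
          show h⁻¹ * y * h = h⁻¹ * y * (h⁻¹)⁻¹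
          rw [inv_inv]
        rw [h4]
      · rw [if_neg h3, if_neg (fun h4 => h3 (hiff.1 h4)), zero_mul]
    · have h1 : ¬ (h⁻¹ * y * h * (y : H)⁻¹ ∈ Z) := by
        intro h2
        apply hK
        have h3 := K.mul_mem (hZK h2) y.2
        simpa using h3
      rw [if_neg h1]
      simp only [T]
      refine Finset.sum_eq_zero fun l _ => ?_
      have h5 : extendByZero K (ζ l : K → ℂ) (h⁻¹ * y * h) = 0 :=
        Function.extend_apply' _ _ _ (by
          rintro ⟨a, ha⟩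
          exact hK (ha ▸ a.2))
      rw [h5, mul_zero]
  by_contra hne
  have h1 : ∑ h : H, T h = ((Finset.univ.filter fun h : H => h⁻¹ * y * h * (y : H)⁻¹ ∈ Z).card : ℂ) * ((c : ℂ) * (η : K → ℂ) y) := by
    rw [Finset.sum_congr rfl fun h _ => hT h, ← Finset.sum_filter, Finset.sum_const, nsmul_eq_mul]
  rw [hsum] at h1
  have h2 : (Finset.univ.filter fun h : H => h⁻¹ * y * h * (y : H)⁻¹ ∈ Z).card ≠ 0 := by
    apply Finset.card_ne_zero_of_mem (a := (1 : H))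
    simp [Z.one_mem]
  have h3 : ((Finset.univ.filter fun h : H => h⁻¹ * y * h * (y : H)⁻¹ ∈ Z).card : ℂ) ≠ 0 := by
    exact_mod_cast h2
  exact mul_ne_zero h3 (mul_ne_zero hc0 hne) h1.symm

theorem s4565_main {H : Type u} [Group H] [Finite H] (Z : Subgroup H) [hZn : Z.Normal] (χ : IrrCharacter H)
    (hfr : ∃ (θ : IrrCharacter Z) (e : ℕ), e ^ 2 = Z.index ∧ ∀ z : Z, (χ : H → ℂ) z = (e : ℂ) * (θ : Z → ℂ) z)
    (hZ : Z ≠ ⊤) (C : Subgroup (H ⧸ Z)) (hC : IsCyclic C) : Subgroup.centralizer (C : Set (H ⧸ Z)) ≠ C := by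
  classical
  letI := Fintype.ofFinite H
  letI : Fintype Z := Fintype.ofFinite _
  obtain ⟨θ, e, he, hχZ⟩ := hfr
  intro hcent
  have he0 : e ≠ 0 := by
    rintro rfl
    have : Z.index = 0 := by simpa using he.symm
    exact Subgroup.index_ne_zero_of_finite this
  have hres : (fun n : Z => (χ : H → ℂ) n) = (e : ℂ) • (θ : Z → ℂ) := funext hχZ
  have hcon : classInner (fun n : Z => (χ : H → ℂ) n) (θ : Z → ℂ) ≠ 0 := by
    rw [hres, classInner_smul_left, classInner_irr_self θ.2, mul_one]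
    exact_mod_cast he0
  obtain ⟨hfr1, hfr2⟩ := CfsgLib.Char.fully_ramified Z χ.2 θ.2 hcon
  obtain ⟨hvan, hinv⟩ := hfr1.1 ⟨e, hres, he⟩
  have honly := hfr2.1 ⟨e, hres, he⟩
  obtain ⟨c, hc⟩ := hC.exists_generator
  obtain ⟨x, hx⟩ := QuotientGroup.mk_surjective (c : H ⧸ Z)
  let K : Subgroup H := C.comap (QuotientGroup.mk' Z)
  have hmemK : ∀ g : H, g ∈ K ↔ (g : H ⧸ Z) ∈ C := fun g => Iff.rfl
  have hxK : x ∈ K := by
    rw [hmemK, hx]
    exact c.2
  have hZK : Z ≤ K := by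
    intro z hz
    rw [hmemK, (QuotientGroup.eq_one_iff z).2 hz]
    exact C.one_mem
  letI : Fintype K := Fintype.ofFinite _
  have hgen : ∀ t ∈ C, ∃ m : ℤ, (x : H ⧸ Z) ^ m = t := by
    intro t ht
    obtain ⟨m, hm⟩ := Subgroup.mem_zpowers_iff.1 (hc ⟨t, ht⟩)
    refine ⟨m, ?_⟩
    rw [hx]
    have := congrArg Subtype.val hm
    simpa using this
  have hxZ : x ∉ Z := by
    intro hxZ
    have h1 : (x : H ⧸ Z) = 1 := (QuotientGroup.eq_one_iff x).2 hxZ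
    have hCbot : ∀ t ∈ C, t = 1 := by
      intro t ht
      obtain ⟨m, rfl⟩ := hgen t ht
      rw [h1, one_zpow]
    apply hZ
    rw [eq_top_iff]
    intro g _
    have h2 : (g : H ⧸ Z) ∈ C := by
      rw [← hcent, Subgroup.mem_centralizer_iff]
      intro t ht
      rw [hCbot t ht, one_mul, mul_one]
    exact (QuotientGroup.eq_one_iff g).1 (hCbot _ h2)
  have hself : ∀ y : K, ((y : H) : H ⧸ Z) = (x : H ⧸ Z) → ∀ h : H, h⁻¹ * y * h * (y : H)⁻¹ ∈ Z → h ∈ K := by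
    intro y hy h hh
    rw [hmemK, ← hcent, Subgroup.mem_centralizer_iff]
    intro t ht
    obtain ⟨m, rfl⟩ := hgen t ht
    have h1 := (QuotientGroup.eq_one_iff _).2 hh
    have h2 : (h : H ⧸ Z)⁻¹ * (x : H ⧸ Z) * (h : H ⧸ Z) * (x : H ⧸ Z)⁻¹ = 1 := by
      rw [← hy]
      exact h1
    have h3 : Commute (x : H ⧸ Z) (h : H ⧸ Z) := by
      have h4 := mul_inv_eq_one.1 h2
      show (x : H ⧸ Z) * (h : H ⧸ Z) = (h : H ⧸ Z) * (x : H ⧸ Z)
      calc (x : H ⧸ Z) * (h : H ⧸ Z) = (h : H ⧸ Z) * ((h : H ⧸ Z)⁻¹ * (x : H ⧸ Z) * (h : H ⧸ Z)) := by group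
        _ = (h : H ⧸ Z) * (x : H ⧸ Z) := by rw [h4]
    exact (h3.zpow_left m).eq
  have hab : ∀ a b : K, a * b * a⁻¹ * b⁻¹ ∈ Z.subgroupOf K := by
    intro a b
    rw [Subgroup.mem_subgroupOf]
    apply (QuotientGroup.eq_one_iff _).1
    obtain ⟨m, hm⟩ := hgen _ a.2
    obtain ⟨n, hn⟩ := hgen _ b.2
    have h1 : ((a : H) : H ⧸ Z) * ((b : H) : H ⧸ Z) = ((b : H) : H ⧸ Z) * ((a : H) : H ⧸ Z) := by
      change _ = ((a : H) : H ⧸ Z) at hm
      change _ = ((b : H) : H ⧸ Z) at hn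
      rw [← hm, ← hn]
      exact ((Commute.refl _).zpow_zpow m n).eq
    have h2 : (((a * b * a⁻¹ * b⁻¹ : K) : H) : H ⧸ Z) =
      ((a : H) : H ⧸ Z) * ((b : H) : H ⧸ Z) * ((a : H) : H ⧸ Z)⁻¹ * ((b : H) : H ⧸ Z)⁻¹ := rfl
    rw [h2, h1]
    group
  have hcyc : IsCyclic (K ⧸ Z.subgroupOf K) := by
    refine ⟨⟨((⟨x, hxK⟩ : K) : K ⧸ Z.subgroupOf K), fun t => ?_⟩⟩
    obtain ⟨a, rfl⟩ := QuotientGroup.mk_surjective t
    obtain ⟨m, hm⟩ := hgen _ a.2
    refine ⟨m, ?_⟩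
    show ((⟨x, hxK⟩ : K) : K ⧸ Z.subgroupOf K) ^ m = _
    rw [← QuotientGroup.mk_zpow, QuotientGroup.eq, Subgroup.mem_subgroupOf]
    apply (QuotientGroup.eq_one_iff _).1
    have h1 : ((((⟨x, hxK⟩ : K) ^ m)⁻¹ * a : K) : H) = (x ^ m)⁻¹ * a := by
      simp
    rw [h1, QuotientGroup.mk_mul, QuotientGroup.mk_inv, QuotientGroup.mk_zpow]
    change _ = ((a : H) : H ⧸ Z) at hm
    rw [hm, inv_mul_cancel]
  let f : Z.subgroupOf K ≃* Z := Subgroup.subgroupOfEquivOfLe hZK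
  have hθ₁ : IsIrrCharacter (Z.subgroupOf K) (fun z => (θ : Z → ℂ) (f z)) :=
    θ.2.comp_surjective f.toMonoidHom f.surjective
  obtain ⟨η₀, hη₀, hηZ⟩ := CfsgLib.Char.extends_of_cyclic_quotient (Z.subgroupOf K) hcyc _ hθ₁ (by
    intro g n
    exact hinv g (f n))
  let η : IrrCharacter K := ⟨η₀, hη₀⟩
  have hη : ∀ z : Z, (η : K → ℂ) ⟨z, hZK z.2⟩ = (θ : Z → ℂ) z := by
    intro z
    exact hηZ ⟨⟨z, hZK z.2⟩, z.2⟩
  letI : Fintype (Z.subgroupOf K) := Fintype.ofFinite _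
  have hηirr : IsIrrCharacter (Z.subgroupOf K) (fun n : Z.subgroupOf K => (η : K → ℂ) n) := by
    convert hθ₁ using 1
    funext n
    exact hηZ n
  have hav := (coset_average (Z.subgroupOf K) η.2 hηirr η.2 rfl).2.2 rfl
  have hav1 := congrFun hav (⟨x, hxK⟩ : K)
  have hex : ∃ n : Z.subgroupOf K, (η : K → ℂ) ((n : K) * ⟨x, hxK⟩) ≠ 0 := by
    by_contra hcon
    push Not at hcon
    simp only [hcon, zero_mul, Finset.sum_const_zero, mul_zero] at hav1
    exact zero_ne_one hav1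
  obtain ⟨n, hn⟩ := hex
  apply hn
  have hnZ : (((n : K) : H) : H ⧸ Z) = 1 := (QuotientGroup.eq_one_iff _).2 n.2
  refine fourier_step Z K hZK hvan θ.2 (fun ψ hψ hne => (honly 1 1).2 ψ hψ hne) η hη hab _ ?_ ?_
  · intro h1
    apply hxZ
    have h2 := Z.mul_mem (Z.inv_mem n.2) h1
    simpa using h2
  · refine hself _ ?_
    show (((n : K) : H) : H ⧸ Z) * (x : H ⧸ Z) = (x : H ⧸ Z)
    rw [hnZ, one_mul]

end CfsgLib.Char.FR
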