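import Mathlib
import Cfsg.Agent.Lib.Char.Sums5
import Cfsg.Agent.Lib.Solv.SZ

/-!
# Normal abelian Sylow subgroups and degrees (Itô, Michler for `p`-solvable groups)
-/

set_option linter.unusedSectionVars false
set_option linter.style.haveILetI false
set_option linter.unusedSimpArgs false
set_option linter.unusedVariables false

namespace CfsgLib.Char

open Cfsg
open scoped ComplexConjugate Pointwise

universe u

/-- Jordan's lemma: a subgroup meeting every class is everything. -/
theorem eq_top_of_forall_conj_mem {A : Type*} [Group A] [Finite A] (C : Subgroup A)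
    (h : ∀ a : A, ∃ c : A, c * a * c⁻¹ ∈ C) : C = ⊤ := by
  classical
  letI := Fintype.ofFinite A
  letI : Fintype (A ⧸ C) := Fintype.ofFinite _
  letI : Fintype (MulAction.orbitRel.Quotient A (A ⧸ C)) := Fintype.ofFinite _
  have hb := MulAction.sum_card_fixedBy_eq_card_orbits_mul_card_group A (A ⧸ C)
  have horb : Fintype.card (MulAction.orbitRel.Quotient A (A ⧸ C)) = 1 := by
    haveI : Subsingleton (MulAction.orbitRel.Quotient A (A ⧸ C)) :=
      (MulAction.pretransitive_iff_subsingleton_quotient A (A ⧸ C)).mp inferInstance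
    haveI : Nonempty (MulAction.orbitRel.Quotient A (A ⧸ C)) :=
      ⟨Quotient.mk _ ((1 : A) : A ⧸ C)⟩
    exact Fintype.card_eq_one_iff.mpr ⟨Classical.arbitrary _, fun b => Subsingleton.elim _ _⟩
  rw [horb, one_mul] at hb
  have hfix : ∀ a : A, 1 ≤ Fintype.card (MulAction.fixedBy (A ⧸ C) a) := by
    intro a
    obtain ⟨c, hc⟩ := h a
    have hmem : ((c⁻¹ : A) : A ⧸ C) ∈ MulAction.fixedBy (A ⧸ C) a := by
      rw [MulAction.mem_fixedBy]
      show ((a * c⁻¹ : A) : A ⧸ C) = ((c⁻¹ : A) : A ⧸ C)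
      rw [QuotientGroup.eq]
      have : (a * c⁻¹)⁻¹ * c⁻¹ = c * a⁻¹ * c⁻¹ := by group
      rw [this]
      have h2 := C.inv_mem hc
      have h3 : (c * a * c⁻¹)⁻¹ = c * a⁻¹ * c⁻¹ := by group
      rwa [h3] at h2
    exact Fintype.card_pos_iff.mpr ⟨⟨_, hmem⟩⟩
  have hone : Fintype.card (MulAction.fixedBy (A ⧸ C) (1 : A)) = Fintype.card (A ⧸ C) := by
    apply Fintype.card_congr
    apply Equiv.subtypeUnivEquiv
    intro x
    rw [MulAction.mem_fixedBy, one_smul]
  have hsplit := Finset.add_sum_erase Finset.univ (fun a : A => Fintype.card (MulAction.fixedBy (A ⧸ C) a))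
    (Finset.mem_univ (1 : A))
  have hrest : (Finset.univ.erase (1 : A)).card ≤
      ∑ a ∈ Finset.univ.erase (1 : A), Fintype.card (MulAction.fixedBy (A ⧸ C) a) := by
    rw [Finset.card_eq_sum_ones]
    exact Finset.sum_le_sum fun a _ => hfix a
  rw [Finset.card_erase_of_mem (Finset.mem_univ _), Finset.card_univ] at hrest
  rw [hone, hb] at hsplit
  have hA : 0 < Fintype.card A := Fintype.card_pos
  have hidx : Fintype.card (A ⧸ C) ≤ 1 := by omega
  have h1 : C.index = 1 := by
    have h2 : C.index = Fintype.card (A ⧸ C) := by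
      rw [Subgroup.index, Nat.card_eq_fintype_card]
    have h3 : 0 < Fintype.card (A ⧸ C) := Fintype.card_pos
    omega
  exact Subgroup.index_eq_one.mp h1

section

variable {G : Type u} [Group G] [Fintype G] (N : Subgroup G) [hN : N.Normal] [Fintype N]

theorem exists_irr_over {θ : N → ℂ} (hθ : IsIrrCharacter N θ) :
    ∃ χ : IrrCharacter G, classInner (fun n : N => (χ : G → ℂ) n) θ ≠ 0 := by
  classical
  have hne : indFun N θ ≠ 0 := by
    intro h0
    have h1 := card_mul_classInner_ind N hθ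
    rw [h0, classInner_zero_left, mul_zero] at h1
    have h2 : (Nat.card {g : G // conjOn N g θ = θ} : ℂ) ≠ 0 := by
      haveI : Nonempty {g : G // conjOn N g θ = θ} := ⟨⟨1, conjOn_one N θ⟩⟩
      exact Nat.cast_ne_zero.mpr Nat.card_pos.ne'
    exact h2 h1.symm
  obtain ⟨χ, hχ, h⟩ := exists_constituent_classFunction (indFun_isClass N θ) hne
  refine ⟨⟨χ, hχ⟩, ?_⟩
  rw [frobenius N θ hχ.isClassFunction] at h
  intro h0
  apply h
  rw [← conj_classInner, h0, map_zero]

theorem degree_eq_mul_orbit {χ : G → ℂ} {θ : N → ℂ} (hχ : IsIrrCharacter G χ) (hθ : IsIrrCharacter N θ)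
    (h : classInner (fun n : N => χ n) θ ≠ 0) :
    ∃ e : ℕ, 0 < e ∧ χ 1 = (e : ℂ) * (conjOrbit N θ).card * θ 1 := by
  classical
  obtain ⟨e, he, heq⟩ := exists_nat_multiplicity N hχ hθ h
  have hcl := clifford N hχ hθ h
  rw [heq] at hcl
  refine ⟨e, he, ?_⟩
  have h1 := congrFun hcl 1
  simp only [Pi.smul_apply, smul_eq_mul, Finset.sum_apply] at h1
  have h3 : ∀ ψ ∈ conjOrbit N θ, ψ 1 = θ 1 := by
    intro ψ hψ
    obtain ⟨g, rfl⟩ := (mem_conjOrbit N).mp hψ
    simp only [conjOn_apply]
    congr 1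
    ext
    simp
  rw [Finset.sum_congr rfl h3] at h1
  simp only [Finset.sum_const, nsmul_eq_mul] at h1
  rw [mul_assoc, ← h1]
  simp

theorem charDegree_orbit_dvd {χ : G → ℂ} {θ : N → ℂ} (hχ : IsIrrCharacter G χ) (hθ : IsIrrCharacter N θ)
    (h : classInner (fun n : N => χ n) θ ≠ 0) :
    (conjOrbit N θ).card * charDegree θ ∣ charDegree χ := by
  classical
  obtain ⟨e, he, heq⟩ := degree_eq_mul_orbit N hχ hθ h
  obtain ⟨d, hd0, hd⟩ := hθ.map_one
  rw [charDegree_eq hd]
  have h1 : χ 1 = ((e * (conjOrbit N θ).card * d : ℕ) : ℂ) := by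
    rw [heq, hd]
    push_cast
    ring
  rw [charDegree_eq h1]
  exact ⟨e, by ring⟩

/-- Irreducible characters of a normal subgroup have degrees dividing those of characters above. -/
theorem not_dvd_degree_of_normal (p : ℕ) (hdeg : ∀ χ : IrrCharacter G, ¬ p ∣ charDegree (χ : G → ℂ))
    (ψ : IrrCharacter N) : ¬ p ∣ charDegree (ψ : N → ℂ) := by
  classical
  obtain ⟨χ, hχ⟩ := exists_irr_over N ψ.2
  intro hp
  apply hdeg χ
  exact hp.trans ((Dvd.intro_left _ rfl).trans (charDegree_orbit_dvd N χ.2 ψ.2 hχ))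

end

section

variable {G : Type u} [Group G] [Fintype G]

/-- An element acting coprimely and fixing all irreducible characters of a normal subgroup
centralizes it. -/
theorem centralizes_of_fixes_irr (K : Subgroup G) [hK : K.Normal] (x : G)
    (hcop : Nat.Coprime (orderOf x) (Nat.card K))
    (hfix : ∀ θ : K → ℂ, IsIrrCharacter K θ → conjOn K x θ = θ) : ∀ k ∈ K, x * k = k * x := by
  classical
  let α : K ≃* K := (MulAut.conjNormal x : MulAut K)
  have hcount := card_fixed_classes_eq_card_fixed_irr α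
  have hall : Nat.card {χ : IrrCharacter K // (χ : K → ℂ) ∘ α = (χ : K → ℂ)} = Nat.card (IrrCharacter K) := by
    apply Nat.card_congr
    apply Equiv.subtypeUnivEquiv
    intro χ
    have h1 := hfix χ.1 χ.2
    funext k
    have h2 := congrFun h1 k
    simp only [conjOn_apply] at h2
    rw [Function.comp_apply]
    rw [← h2]
    congr 1
  have hfixC : ∀ C : ConjClasses K, ConjClasses.map α.toMonoidHom C = C := by
    have h1 : Nat.card {C : ConjClasses K // ConjClasses.map α.toMonoidHom C = C} = Nat.card (ConjClasses K) := by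
      rw [hcount, hall, card_irr_eq]
    intro C
    have hinj : Function.Injective (Subtype.val : {C : ConjClasses K // ConjClasses.map α.toMonoidHom C = C} → ConjClasses K) :=
      Subtype.val_injective
    have hbij := hinj.bijective_of_nat_card_le h1.ge
    obtain ⟨⟨C', hC'⟩, rfl⟩ := hbij.2 C
    exact hC'
  let C₀ : Subgroup K := (Subgroup.centralizer ({x} : Set G)).subgroupOf K
  have htop : C₀ = ⊤ := by
    apply eq_top_of_forall_conj_mem
    intro a
    obtain ⟨k, hk, hkc⟩ := exists_commute_of_fixed_class K x hcop (ConjClasses.mk a) (hfixC _)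
    have h1 : IsConj k a := ConjClasses.mk_eq_mk_iff_isConj.mp hk
    obtain ⟨c, hc⟩ := isConj_iff.mp h1
    refine ⟨c⁻¹, ?_⟩
    rw [← hc]
    have : c⁻¹ * (c * k * c⁻¹) * c⁻¹⁻¹ = k := by group
    rw [this]
    rw [Subgroup.mem_subgroupOf, Subgroup.mem_centralizer_singleton_iff]
    exact hkc.symm
  intro k hk
  have h1 : (⟨k, hk⟩ : K) ∈ C₀ := by
    rw [htop]
    trivial
  rw [Subgroup.mem_subgroupOf, Subgroup.mem_centralizer_singleton_iff] at h1
  exact h1.symm

/-- The core case `G = N P`. -/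
theorem sylow_normal_of_sup_eq_top (p : ℕ) [hp : Fact p.Prime] (N : Subgroup G) [hN : N.Normal]
    (hcop : Nat.Coprime (Nat.card N) p) (P : Sylow p G) (hNP : N ⊔ (P : Subgroup G) = ⊤)
    (hdeg : ∀ χ : IrrCharacter G, ¬ p ∣ charDegree (χ : G → ℂ)) : (P : Subgroup G).Normal := by
  classical
  have hidx : N.index ∣ Nat.card (P : Subgroup G) := by
    have h1 : N.index = N.relIndex (P : Subgroup G) := by
      rw [← Subgroup.relIndex_sup_left, hNP, Subgroup.relIndex_top_right]
    rw [h1]
    exact Subgroup.relIndex_dvd_card _ _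
  obtain ⟨a, ha⟩ := IsPGroup.iff_card.mp P.isPGroup'
  have hfix : ∀ θ : N → ℂ, IsIrrCharacter N θ → ∀ x : G, conjOn N x θ = θ := by
    intro θ hθ x
    obtain ⟨χ, hχ⟩ := exists_irr_over N hθ
    have h1 := charDegree_orbit_dvd N χ.2 hθ hχ
    have h2 : (conjOrbit N θ).card ∣ charDegree (χ : G → ℂ) := (Dvd.intro _ rfl).trans h1
    have h3 : (conjOrbit N θ).card ∣ p ^ a := by
      rw [← ha]
      exact (card_conjOrbit_dvd_index N hθ).trans hidx
    obtain ⟨j, -, hj⟩ := (Nat.dvd_prime_pow hp.out).mp h3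
    have h4 : j = 0 := by
      by_contra hj0
      apply hdeg χ
      rw [hj] at h2
      exact (dvd_pow_self p hj0).trans h2
    rw [h4, pow_zero] at hj
    obtain ⟨ψ, hψ⟩ := Finset.card_eq_one.mp hj
    have h5 : conjOn N x θ ∈ conjOrbit N θ := (mem_conjOrbit N).mpr ⟨x, rfl⟩
    have h6 : θ ∈ conjOrbit N θ := (mem_conjOrbit N).mpr ⟨1, (conjOn_one N θ).symm⟩
    rw [hψ, Finset.mem_singleton] at h5 h6
    rw [h5, h6]
  have hcent : ∀ u ∈ (P : Subgroup G), ∀ n ∈ N, u * n = n * u := by
    intro u hu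
    have hord : orderOf u ∣ p ^ a := by
      rw [← ha]
      exact Subgroup.orderOf_dvd_natCard _ hu
    have hc : Nat.Coprime (orderOf u) (Nat.card N) := by
      apply Nat.Coprime.coprime_dvd_left hord
      exact (hcop.symm).pow_left a
    exact centralizes_of_fixes_irr N u hc fun θ hθ => hfix θ hθ u
  constructor
  intro x hx g
  have hg : g ∈ N ⊔ (P : Subgroup G) := by
    rw [hNP]
    trivial
  obtain ⟨n, hn, u, hu, rfl⟩ := Subgroup.mem_sup_of_normal_left.mp hg
  have hy : u * x * u⁻¹ ∈ (P : Subgroup G) :=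
    Subgroup.mul_mem _ (Subgroup.mul_mem _ hu hx) (Subgroup.inv_mem _ hu)
  have h1 := hcent _ hy n hn
  have : n * u * x * (n * u)⁻¹ = n * (u * x * u⁻¹) * n⁻¹ := by group
  rw [this, ← h1]
  simpa using hy

end

end CfsgLib.Char
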