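import Mathlib
import Cfsg.Agent.Lib.Char.ItoMichler
import Cfsg.Agent.Lib.Solv.Coprime

/-!
# Glauberman's lemma applied to characters: invariant constituents
-/

set_option linter.unusedSectionVars false
set_option linter.style.haveILetI false
set_option linter.unusedSimpArgs false
set_option linter.unusedVariables false

namespace CfsgLib.Char

open Cfsg
open scoped ComplexConjugate Pointwise

universe u v

/-- Glauberman's lemma in terms of one point. -/
theorem glauberman_point {A : Type u} [Group A] [Finite A] {Y : Type*} [MulAction A Y]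
    (K H : Subgroup A) (hHK : H ≤ Subgroup.normalizer (K : Set A))
    (hcop : (Nat.card H).Coprime (Nat.card K))
    (hsolv : Group.IsSolvable H ∨ Group.IsSolvable K) (y₀ : Y)
    (htrans : ∀ h ∈ H, ∃ k ∈ K, k • y₀ = h • y₀) :
    ∃ k ∈ K, ∀ h ∈ H, h • (k • y₀) = k • y₀ := by
  classical
  let S : Subgroup A := (K ⊔ H) ⊓ MulAction.stabilizer A y₀
  have hKn : K ≤ Subgroup.normalizer (K : Set A) := Subgroup.le_normalizer
  obtain ⟨k, hk, hk'⟩ := CfsgLib.Solv.glauberman_fix H K S hHK hcop hsolv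
    (inf_le_left.trans (sup_le hKn hHK)) inf_le_left (by
      intro h hh
      obtain ⟨k, hk, hkh⟩ := htrans h hh
      have h1 : k⁻¹ * h ∈ S := by
        refine ⟨Subgroup.mul_mem _ (Subgroup.mem_sup_left (K.inv_mem hk)) (Subgroup.mem_sup_right hh), ?_⟩
        show k⁻¹ * h ∈ MulAction.stabilizer A y₀
        rw [MulAction.mem_stabilizer_iff, mul_smul, ← hkh, inv_smul_smul]
      have h2 : h = k * (k⁻¹ * h) := by group
      rw [h2]
      exact Subgroup.mul_mem _ (Subgroup.mem_sup_left hk) (Subgroup.mem_sup_right h1))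
  refine ⟨k, hk, fun h hh => ?_⟩
  have h1 := hk' hh
  rw [CfsgLib.Solv.mem_conj_smul] at h1
  have h2 : k⁻¹ * h * k ∈ MulAction.stabilizer A y₀ := h1.2
  rw [MulAction.mem_stabilizer_iff, mul_smul, mul_smul, inv_smul_eq_iff] at h2
  exact h2

/-- The action of automorphisms on irreducible characters: `a • χ = χ ∘ a⁻¹`. -/
noncomputable def autPerm (A : Type u) [Group A] [Finite A] : MulAut A →* Equiv.Perm (IrrCharacter A) where
  toFun a :=
    { toFun := fun χ => ⟨χ.1 ∘ a.symm, isIrr_comp_mulEquiv a.symm χ.2⟩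
      invFun := fun χ => ⟨χ.1 ∘ a, isIrr_comp_mulEquiv a χ.2⟩
      left_inv := fun χ => by
        apply Subtype.ext
        funext x
        simp
      right_inv := fun χ => by
        apply Subtype.ext
        funext x
        simp }
  map_one' := by
    ext χ x
    rfl
  map_mul' a b := by
    ext χ x
    rfl

@[simp] theorem autPerm_apply (A : Type u) [Group A] [Finite A] (a : MulAut A) (χ : IrrCharacter A) (x : A) :
    ((autPerm A a χ : IrrCharacter A) : A → ℂ) x = (χ : A → ℂ) (a⁻¹ x) := rfl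

/-- Restriction of a family of automorphisms to an invariant subgroup. -/
noncomputable def resHom {G : Type u} [Group G] (N : Subgroup G) {T : Type v} [Group T] (φ : T →* MulAut G)
    (hφ : ∀ t, ∀ n ∈ N, φ t n ∈ N) : T →* MulAut N where
  toFun t :=
    { toFun := fun n => ⟨φ t n, hφ t n n.2⟩
      invFun := fun n => ⟨φ t⁻¹ n, hφ t⁻¹ n n.2⟩
      left_inv := fun n => by
        apply Subtype.ext
        show φ t⁻¹ (φ t n) = n
        rw [map_inv]
        exact (φ t).symm_apply_apply _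
      right_inv := fun n => by
        apply Subtype.ext
        show φ t (φ t⁻¹ n) = n
        rw [map_inv]
        exact (φ t).apply_symm_apply _
      map_mul' := fun a b => by
        apply Subtype.ext
        show φ t (a * b) = φ t a * φ t b
        exact map_mul _ _ _ }
  map_one' := by
    ext n
    show φ 1 n = n
    rw [map_one]
    rfl
  map_mul' a b := by
    ext n
    show φ (a * b) n = φ a (φ b n)
    rw [map_mul]
    rfl

@[simp] theorem resHom_coe {G : Type u} [Group G] (N : Subgroup G) {T : Type v} [Group T] (φ : T →* MulAut G)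
    (hφ : ∀ t, ∀ n ∈ N, φ t n ∈ N) (t : T) (n : N) : ((resHom N φ hφ t n : N) : G) = φ t n := rfl

theorem conj_mem_of_normal {G : Type u} [Group G] (N : Subgroup G) [hN : N.Normal] :
    ∀ (t : G), ∀ n ∈ N, MulAut.conj t n ∈ N := fun t n hn => hN.conj_mem n hn t

section Step

variable {G : Type u} [Group G] [Fintype G] (N : Subgroup G) [hN : N.Normal] [Fintype N]
variable {S : Type v} [Group S] [Finite S] (φ : S →* MulAut G) (hφ : ∀ t, ∀ n ∈ N, φ t n ∈ N)

/-- Restriction of characters through an automorphism. -/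
theorem classInner_res_aut {χ : G → ℂ} (θ : N → ℂ) (a : MulAut G) (ha : ∀ n ∈ N, a n ∈ N) (ha' : ∀ n ∈ N, a⁻¹ n ∈ N)
    (hχ : ∀ g, χ (a g) = χ g) (hθ : ∀ n : N, θ ⟨a n, ha n n.2⟩ = θ n) :
    classInner (fun n : N => χ n) θ = classInner (fun n : N => χ n) θ := rfl

/-- The transport of an inner product. -/
theorem classInner_res_comp (a : N ≃* N) (f h : N → ℂ) : classInner (f ∘ a) (h ∘ a) = classInner f h :=
  classInner_comp_mulEquiv a f h

/-- Invariant constituents of a restriction (Glauberman's lemma; S4447 abstractly). -/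
theorem exists_invariant_constituent (hcop : Nat.Coprime N.index (Nat.card S))
    (hsolv : Group.IsSolvable S ∨ Group.IsSolvable (G ⧸ N)) (χ : IrrCharacter G)
    (hinv : ∀ s g, (χ : G → ℂ) (φ s g) = (χ : G → ℂ) g) :
    ∃ θ : IrrCharacter N, classInner (fun n : N => (χ : G → ℂ) n) (θ : N → ℂ) ≠ 0 ∧
      ∀ s (n : N), (θ : N → ℂ) ⟨φ s n, hφ s n n.2⟩ = (θ : N → ℂ) n := by
  classical
  letI : Fintype (IrrCharacter N) := Fintype.ofFinite _
  have hne : (fun n : N => (χ : G → ℂ) n) 1 ≠ 0 := χ.2.map_one_ne_zero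
  obtain ⟨θ₀', hθ₀', hc₀⟩ := exists_constituent (χ.2.isCharacter.restrict N) hne
  let θ₀ : IrrCharacter N := ⟨θ₀', hθ₀'⟩
  let ψS : S →* Equiv.Perm (IrrCharacter N) := (autPerm N).comp (resHom N φ hφ)
  let ψG : G →* Equiv.Perm (IrrCharacter N) := (autPerm N).comp (resHom N MulAut.conj (conj_mem_of_normal N))
  have hψGN : N ≤ ψG.ker := by
    intro n hn
    rw [MonoidHom.mem_ker]
    ext χ' x
    show (χ' : N → ℂ) _ = (χ' : N → ℂ) x
    have h1 := conjOn_of_mem N χ'.2 (N.inv_mem hn)
    have h2 := congrFun h1 x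
    rw [conjOn_apply] at h2
    convert h2 using 2
    ext
    show MulAut.conj n⁻¹ (x : G) = _
    simp [MulAut.conj_apply]
  have hKcard : Nat.card ψG.range ∣ N.index := by
    rw [← Subgroup.index_ker]
    exact Subgroup.index_dvd_of_le hψGN
  have hHcard : Nat.card ψS.range ∣ Nat.card S := Subgroup.card_range_dvd ψS
  have hcop' : (Nat.card ψS.range).Coprime (Nat.card ψG.range) :=
    (Nat.Coprime.coprime_dvd_left hKcard (Nat.Coprime.coprime_dvd_right hHcard hcop)).symm
  have hnorm : ψS.range ≤ Subgroup.normalizer (ψG.range : Set (Equiv.Perm (IrrCharacter N))) := by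
    rintro _ ⟨s, rfl⟩
    have key : ∀ (s : S) (g : G), ψS s * ψG g * (ψS s)⁻¹ = ψG (φ s g) := by
      intro s g
      ext χ' x
      show (χ' : N → ℂ) _ = (χ' : N → ℂ) _
      apply congrArg
      ext
      show (φ s) (MulAut.conj g⁻¹ (φ s⁻¹ (x : G))) = MulAut.conj (φ s g)⁻¹ (x : G)
      simp [MulAut.conj_apply, map_inv, map_mul]
    rw [Subgroup.mem_normalizer_iff]
    intro y
    constructor
    · rintro ⟨g, rfl⟩
      exact ⟨φ s g, (key s g).symm⟩
    · rintro ⟨g, hg⟩
      refine ⟨φ s⁻¹ g, ?_⟩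
      have h1 := key s⁻¹ g
      rw [hg, map_inv ψS] at h1
      have h2 : (ψS s)⁻¹ * (ψS s * y * (ψS s)⁻¹) * (ψS s)⁻¹⁻¹ = y := by group
      rw [h2] at h1
      exact h1.symm
  have hsolv' : Group.IsSolvable ψS.range ∨ Group.IsSolvable ψG.range := by
    rcases hsolv with h | h
    · left
      exact Group.isSolvable_of_surjective (f := ψS.rangeRestrict) ψS.rangeRestrict_surjective
    · right
      let f : G ⧸ N →* ψG.range := QuotientGroup.lift N ψG.rangeRestrict (by
        intro n hn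
        apply Subtype.ext
        exact hψGN hn)
      apply Group.isSolvable_of_surjective (f := f)
      rintro ⟨_, g, rfl⟩
      exact ⟨(g : G ⧸ N), rfl⟩
  -- transitivity
  have hinner : ∀ s : S, classInner (fun n : N => (χ : G → ℂ) n) ((ψS s θ₀ : IrrCharacter N) : N → ℂ) ≠ 0 := by
    intro s
    let a : N ≃* N := (resHom N φ hφ s)⁻¹
    have h1 : (fun n : N => (χ : G → ℂ) n) = (fun n : N => (χ : G → ℂ) n) ∘ a := by
      funext n
      show (χ : G → ℂ) n = (χ : G → ℂ) (φ s⁻¹ n)
      rw [hinv]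
    rw [h1]
    have h2 := classInner_comp_mulEquiv a (fun n : N => (χ : G → ℂ) n) θ₀'
    rw [show ((ψS s θ₀ : IrrCharacter N) : N → ℂ) = θ₀' ∘ a from rfl, h2]
    exact hc₀
  have htrans : ∀ h ∈ ψS.range, ∃ k ∈ ψG.range, k • θ₀ = h • θ₀ := by
    rintro _ ⟨s, rfl⟩
    obtain ⟨g, hg⟩ := constituents_conj N χ.2 θ₀.2 (ψS s θ₀).2 hc₀ (hinner s)
    refine ⟨ψG g⁻¹, ⟨g⁻¹, rfl⟩, ?_⟩
    apply Subtype.ext
    show ((ψG g⁻¹ θ₀ : IrrCharacter N) : N → ℂ) = ((ψS s θ₀ : IrrCharacter N) : N → ℂ)
    rw [hg]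
    funext n
    show θ₀' _ = θ₀' _
    apply congrArg
    ext
    show MulAut.conj g⁻¹⁻¹ (n : G) = _
    simp [MulAut.conj_apply]
  obtain ⟨k, ⟨g, rfl⟩, hk⟩ := glauberman_point ψG.range ψS.range hnorm hcop' hsolv' θ₀ htrans
  refine ⟨ψG g θ₀, ?_, ?_⟩
  · have h1 := classInner_res_conjOn N χ.2.isClassFunction g⁻¹ θ₀'
    have h2 : ((ψG g θ₀ : IrrCharacter N) : N → ℂ) = conjOn N g⁻¹ θ₀' := by
      funext n
      show θ₀' _ = θ₀' _
      apply congrArg
      ext
      show MulAut.conj g⁻¹ (n : G) = _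
      simp [MulAut.conj_apply]
    rw [h2, h1]
    exact hc₀
  · intro s n
    have h1 := hk (ψS s⁻¹) ⟨s⁻¹, rfl⟩
    have h2 := congrArg (fun c : IrrCharacter N => (c : N → ℂ) n) h1
    have h3 : ((ψS s⁻¹ • ψG g • θ₀ : IrrCharacter N) : N → ℂ) n =
        ((ψG g θ₀ : IrrCharacter N) : N → ℂ) ⟨φ s n, hφ s n n.2⟩ := by
      show ((ψG g θ₀ : IrrCharacter N) : N → ℂ) _ = _
      apply congrArg
      ext
      show φ s⁻¹⁻¹ (n : G) = _
      simp
    rw [← h3]
    exact h2

end Step

end CfsgLib.Char
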