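import Mathlib
import Cfsg.Agent.Lib.Char.GlaubAct

/-!
# Invariant constituents of induced characters
-/

set_option linter.unusedSectionVars false
set_option linter.style.haveILetI false
set_option linter.unusedSimpArgs false
set_option linter.unusedVariables false

namespace CfsgLib.Char

open Cfsg
open scoped ComplexConjugate Pointwise

universe u v

section Twist

variable {G : Type u} [Group G] [Fintype G]

/-- Two irreducible characters of `G` with `G/H` abelian whose restrictions to `H` share a constituent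
differ by a linear character with kernel containing `H`. -/
theorem abelian_twist' (H : Subgroup G) [hN : H.Normal] [Fintype H]
    (hab : ∀ x y : G, x * y * x⁻¹ * y⁻¹ ∈ H) {a b : G → ℂ} (ha : IsIrrCharacter G a) (hb : IsIrrCharacter G b)
    (hne : classInner (fun n : H => b n) (fun n : H => a n) ≠ 0) :
    ∃ l : G →* ℂˣ, (∀ n ∈ H, l n = 1) ∧ b = (fun g => ((l g : ℂˣ) : ℂ)) * a := by
  classical
  set τ : G → ℂ := b * fun g => conj (a g) with hτ
  have hτc : IsCharacter G τ := hb.isCharacter.mul ha.isCharacter.conj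
  have hres : classInner (fun n : H => τ n) (fun _ => 1) = classInner (fun n : H => b n) (fun n : H => a n) := by
    rw [classInner_def, classInner_def]
    simp only [map_one, mul_one, hτ, Pi.mul_apply]
  have hne' : classInner τ (indFun H (fun _ => 1)) ≠ 0 := by
    rw [frobenius' H _ hτc.isClassFunction, hres]
    exact hne
  have hind : IsCharacter G (indFun H (fun _ => (1 : ℂ))) := isCharacter_indFun H isCharacter_one
  obtain ⟨c, hc⟩ := hind.exists_coeff
  rw [hc, classInner_sum_right] at hne'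
  obtain ⟨β, -, hβ⟩ := Finset.exists_ne_zero_of_sum_ne_zero hne'
  rw [← Nat.cast_smul_eq_nsmul ℂ (c β), classInner_smul_right] at hβ
  have hc0 : c β ≠ 0 := by
    intro h0
    apply hβ
    rw [h0]
    simp
  have hinner : classInner τ (β : G → ℂ) ≠ 0 := fun h0 => hβ (by rw [h0, mul_zero])
  have hβind : classInner (indFun H (fun _ => 1)) (β : G → ℂ) ≠ 0 := by
    rw [hc, classInner_sum_coeff_nat]
    exact_mod_cast hc0
  have hβc := irr_inner_quot_one H (β : G → ℂ) β.2 hβind
  have hβ1 : (β : G → ℂ) 1 = 1 := by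
    apply degree_one_of_abelian_quot H β.2 _ hab
    intro n hn
    have := hβc n hn 1
    simpa using this
  obtain ⟨l, hl⟩ := exists_hom_of_degree_one β.2.isCharacter hβ1
  refine ⟨l, ?_, ?_⟩
  · intro n hn
    have h1 := hβc n hn 1
    simp only [mul_one] at h1
    rw [hβ1, hl] at h1
    exact Units.ext h1
  by_contra hbne
  apply hinner
  have h0 := classInner_irr_ne hb (isIrr_hom_mul l ha) hbne
  rw [hl]
  rw [← h0, classInner_def, classInner_def]
  congr 1
  refine Finset.sum_congr rfl fun g _ => ?_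
  simp only [hτ, Pi.mul_apply, map_mul]
  ring

/-- Multiplication by linear characters as permutations of `Irr(G)`. -/
noncomputable def multPerm : (G →* ℂˣ) →* Equiv.Perm (IrrCharacter G) where
  toFun l :=
    { toFun := fun χ => ⟨(fun g => ((l g : ℂˣ) : ℂ)) * χ.1, isIrr_hom_mul l χ.2⟩
      invFun := fun χ => ⟨(fun g => ((l⁻¹ g : ℂˣ) : ℂ)) * χ.1, isIrr_hom_mul l⁻¹ χ.2⟩
      left_inv := fun χ => by
        apply Subtype.ext
        funext g
        simp only [Pi.mul_apply, MonoidHom.inv_apply, Units.val_inv_eq_inv_val]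
        field_simp
      right_inv := fun χ => by
        apply Subtype.ext
        funext g
        simp only [Pi.mul_apply, MonoidHom.inv_apply, Units.val_inv_eq_inv_val]
        field_simp }
  map_one' := by
    ext χ g
    simp
  map_mul' a b := by
    ext χ g
    simp only [Equiv.coe_fn_mk, Pi.mul_apply, MonoidHom.mul_apply, Units.val_mul, Equiv.Perm.coe_mul,
      Function.comp_apply]
    ring

@[simp] theorem multPerm_apply (l : G →* ℂˣ) (χ : IrrCharacter G) (g : G) :
    ((multPerm l χ : IrrCharacter G) : G → ℂ) g = ((l g : ℂˣ) : ℂ) * (χ : G → ℂ) g := rfl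

end Twist

section Step

variable {G : Type u} [Group G] [Fintype G] (N : Subgroup G) [hN : N.Normal] [Fintype N]
variable {S : Type v} [Group S] [Finite S] (φ : S →* MulAut G) (hφ : ∀ t, ∀ n ∈ N, φ t n ∈ N)

/-- The step with abelian quotient. -/
theorem exists_invariant_over_abelian (hab : ∀ x y : G, x * y * x⁻¹ * y⁻¹ ∈ N)
    (hcop : Nat.Coprime N.index (Nat.card S)) (θ : IrrCharacter N)
    (hθinv : ∀ s (n : N), (θ : N → ℂ) ⟨φ s n, hφ s n n.2⟩ = (θ : N → ℂ) n) :
    ∃ χ : IrrCharacter G, classInner (fun n : N => (χ : G → ℂ) n) (θ : N → ℂ) ≠ 0 ∧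
      ∀ s g, (χ : G → ℂ) (φ s g) = (χ : G → ℂ) g := by
  classical
  letI : Fintype (IrrCharacter G) := Fintype.ofFinite _
  obtain ⟨χ₀, hχ₀⟩ := exists_irr_over N θ.2
  let ψS : S →* Equiv.Perm (IrrCharacter G) := (autPerm G).comp φ
  let L : Subgroup (G →* ℂˣ) :=
    { carrier := {l | ∀ n ∈ N, l n = 1}
      mul_mem' := fun {a b} ha hb n hn => by
        rw [MonoidHom.mul_apply, ha n hn, hb n hn, one_mul]
      one_mem' := fun n hn => rfl
      inv_mem' := fun {a} ha n hn => by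
        rw [MonoidHom.inv_apply, ha n hn, inv_one] }
  let K₁ : Subgroup (Equiv.Perm (IrrCharacter G)) := L.map multPerm
  have hLpow : ∀ l ∈ L, ∀ g, (l ^ N.index) g = 1 := by
    intro l hl g
    rw [MonoidHom.pow_apply, ← map_pow]
    exact hl _ (Subgroup.pow_index_mem N g)
  have hcop' : (Nat.card ψS.range).Coprime (Nat.card K₁) := by
    apply Nat.coprime_of_dvd
    intro q hq h1 h2
    haveI : Fact q.Prime := ⟨hq⟩
    obtain ⟨x, hx⟩ := exists_prime_orderOf_dvd_card' q h2
    obtain ⟨l, hl, hlx⟩ := x.2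
    have h3 : x ^ N.index = 1 := by
      apply Subtype.ext
      simp only [Subgroup.coe_pow, OneMemClass.coe_one]
      rw [← hlx, ← map_pow]
      have h4 : l ^ N.index = 1 := by
        ext g
        rw [hLpow l hl g]
        rfl
      rw [h4, map_one]
    have h5 : q ∣ N.index := by
      rw [← hx]
      exact orderOf_dvd_of_pow_eq_one h3
    have h6 : q ∣ Nat.card S := h1.trans (Subgroup.card_range_dvd ψS)
    exact hq.one_lt.ne' (Nat.dvd_one.mp (hcop ▸ Nat.dvd_gcd h5 h6))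
  have hnorm : ψS.range ≤ Subgroup.normalizer (K₁ : Set (Equiv.Perm (IrrCharacter G))) := by
    rintro _ ⟨s, rfl⟩
    let twist : S → (G →* ℂˣ) → (G →* ℂˣ) := fun s l => l.comp (φ s⁻¹).toMonoidHom
    have htw : ∀ s, ∀ l ∈ L, twist s l ∈ L := by
      intro s l hl n hn
      exact hl _ (hφ s⁻¹ n hn)
    have key : ∀ (s : S) (l : G →* ℂˣ), ψS s * multPerm l * (ψS s)⁻¹ = multPerm (twist s l) := by
      intro s l
      ext χ' x
      show ((multPerm l ((ψS s)⁻¹ χ') : IrrCharacter G) : G → ℂ) ((φ s)⁻¹ x) = _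
      rw [multPerm_apply, multPerm_apply]
      have h1 : ((ψS s)⁻¹ χ' : IrrCharacter G) = ψS s⁻¹ χ' := by rw [map_inv]
      rw [h1]
      show _ * (χ' : G → ℂ) ((φ s⁻¹)⁻¹ ((φ s)⁻¹ x)) = ((l (φ s⁻¹ x) : ℂˣ) : ℂ) * _
      rw [map_inv]
      simp
    rw [Subgroup.mem_normalizer_iff]
    intro y
    constructor
    · rintro ⟨l, hl, rfl⟩
      exact ⟨twist s l, htw s l hl, (key s l).symm⟩
    · rintro ⟨l, hl, hg⟩
      refine ⟨twist s⁻¹ l, htw s⁻¹ l hl, ?_⟩
      have h1 := key s⁻¹ l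
      rw [hg, map_inv ψS] at h1
      have h2 : (ψS s)⁻¹ * (ψS s * y * (ψS s)⁻¹) * (ψS s)⁻¹⁻¹ = y := by group
      rw [h2] at h1
      exact h1.symm
  have hsolv' : Group.IsSolvable ψS.range ∨ Group.IsSolvable K₁ := by
    right
    apply Group.isSolvable_of_comm
    rintro ⟨_, a, ha, rfl⟩ ⟨_, b, hb, rfl⟩
    apply Subtype.ext
    show multPerm a * multPerm b = multPerm b * multPerm a
    rw [← map_mul, ← map_mul]
    congr 1
    ext g
    simp [mul_comm]
  -- transitivity
  have hinner : ∀ s : S, classInner (fun n : N => ((ψS s χ₀ : IrrCharacter G) : G → ℂ) n) (θ : N → ℂ) ≠ 0 := by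
    intro s
    let a : N ≃* N := (resHom N φ hφ s)⁻¹
    have h1 : (fun n : N => ((ψS s χ₀ : IrrCharacter G) : G → ℂ) n) = (fun n : N => (χ₀ : G → ℂ) n) ∘ a := by
      funext n
      show (χ₀ : G → ℂ) ((φ s)⁻¹ n) = (χ₀ : G → ℂ) (φ s⁻¹ n)
      rw [map_inv]
    have h2 : (θ : N → ℂ) ∘ a = (θ : N → ℂ) := by
      funext n
      exact hθinv s⁻¹ n
    have h4 := classInner_comp_mulEquiv a (fun n : N => (χ₀ : G → ℂ) n) (θ : N → ℂ)
    rw [h2] at h4
    rw [h1, h4]
    exact hχ₀
  have htrans : ∀ h ∈ ψS.range, ∃ k ∈ K₁, k • χ₀ = h • χ₀ := by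
    rintro _ ⟨s, rfl⟩
    have hne := classInner_ne_zero_of_common ((ψS s χ₀).2.isCharacter.restrict N) (χ₀.2.isCharacter.restrict N)
      θ.2 (hinner s) hχ₀
    obtain ⟨l, hl, hb⟩ := abelian_twist' N hab χ₀.2 (ψS s χ₀).2 hne
    refine ⟨multPerm l, ⟨l, hl, rfl⟩, ?_⟩
    apply Subtype.ext
    exact hb.symm
  obtain ⟨k, ⟨l, hl, rfl⟩, hk⟩ := glauberman_point K₁ ψS.range hnorm hcop' hsolv' χ₀ htrans
  refine ⟨multPerm l χ₀, ?_, ?_⟩
  · have h1 : (fun n : N => ((multPerm l χ₀ : IrrCharacter G) : G → ℂ) n) = fun n : N => (χ₀ : G → ℂ) n := by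
      funext n
      rw [multPerm_apply, hl _ n.2]
      simp
    rw [h1]
    exact hχ₀
  · intro s g
    have h1 := hk (ψS s⁻¹) ⟨s⁻¹, rfl⟩
    have h2 := congrArg (fun c : IrrCharacter G => (c : G → ℂ) g) h1
    have h3 : ((ψS s⁻¹ • multPerm l • χ₀ : IrrCharacter G) : G → ℂ) g =
        ((multPerm l χ₀ : IrrCharacter G) : G → ℂ) (φ s g) := by
      show ((multPerm l χ₀ : IrrCharacter G) : G → ℂ) ((φ s⁻¹)⁻¹ g) = _
      rw [map_inv, inv_inv]
    rw [← h3]
    exact h2

end Step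

section Induct

variable {G : Type u} [Group G] [Fintype G] {S : Type v} [Group S] [Finite S] (φ : S →* MulAut G)

/-- The induction on the index. -/
theorem exists_invariant_over : ∀ (m : ℕ) (N : Subgroup G) [hN : N.Normal] [hFN : Fintype N]
    (hφ : ∀ t, ∀ n ∈ N, φ t n ∈ N), N.index = m → Nat.Coprime N.index (Nat.card S) →
    Group.IsSolvable (G ⧸ N) → ∀ (θ : IrrCharacter N),
    (∀ s (n : N), (θ : N → ℂ) ⟨φ s n, hφ s n n.2⟩ = (θ : N → ℂ) n) →
    ∃ χ : IrrCharacter G, classInner (fun n : N => (χ : G → ℂ) n) (θ : N → ℂ) ≠ 0 ∧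
      ∀ s g, (χ : G → ℂ) (φ s g) = (χ : G → ℂ) g := by
  intro m
  induction m using Nat.strong_induction_on with
  | _ m IH =>
    intro N hN hFN hφ hm hcop hsolv θ hθ
    classical
    by_cases hNtop : N = ⊤
    · subst hNtop
      let e : (⊤ : Subgroup G) ≃* G := Subgroup.topEquiv
      refine ⟨⟨θ.1 ∘ e.symm, isIrr_comp_equiv e.symm θ.2⟩, ?_, ?_⟩
      · have h1 : (fun n : (⊤ : Subgroup G) => (θ.1 ∘ e.symm) (n : G)) = θ.1 := by
          funext n
          rfl
        show classInner (fun n : (⊤ : Subgroup G) => (θ.1 ∘ e.symm) (n : G)) (θ : _ → ℂ) ≠ 0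
        rw [h1, classInner_irr_self θ.2]
        exact one_ne_zero
      · intro s g
        exact hθ s ⟨g, trivial⟩
    let F : Set (Subgroup G) := {K | N < K ∧ K.Normal ∧ ∀ t, ∀ k ∈ K, φ t k ∈ K}
    have hF : F.Nonempty := ⟨⊤, lt_top_iff_ne_top.mpr hNtop, inferInstance, fun _ _ _ => trivial⟩
    obtain ⟨K, hKmin⟩ := (Set.toFinite F).exists_minimal hF
    obtain ⟨⟨hNK, hKn, hKφ⟩, hmin⟩ := hKmin
    haveI := hKn
    have hcomm : ⁅K, K⁆ ≤ N := by
      let K₂ : Subgroup G := ⁅K, K⁆ ⊔ N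
      have hK₂K : K₂ ≤ K := sup_le (Subgroup.commutator_le_self K) hNK.le
      have hK₂n : K₂.Normal := inferInstance
      have hK₂φ : ∀ t, ∀ k ∈ K₂, φ t k ∈ K₂ := by
        intro t k hk
        have h1 : K₂.map (φ t).toMonoidHom ≤ K₂ := by
          rw [Subgroup.map_sup, Subgroup.map_commutator]
          apply sup_le_sup
          · apply Subgroup.commutator_mono <;>
            · rintro _ ⟨x, hx, rfl⟩
              exact hKφ t x hx
          · rintro _ ⟨x, hx, rfl⟩
            exact hφ t x hx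
        exact h1 ⟨k, hk, rfl⟩
      have hne : K₂ ≠ K := by
        intro h
        let f := QuotientGroup.mk' N
        have hKb : K.map f ≠ ⊥ := by
          intro h0
          rw [Subgroup.map_eq_bot_iff, QuotientGroup.ker_mk'] at h0
          exact hNK.not_ge h0
        have hlt := Group.IsSolvable.commutator_lt_of_ne_bot hKb
        have h2 : K₂.map f = K.map f := by rw [h]
        rw [Subgroup.map_sup, Subgroup.map_commutator] at h2
        have h3 : N.map f = ⊥ := by
          rw [Subgroup.map_eq_bot_iff, QuotientGroup.ker_mk']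
        rw [h3, sup_bot_eq] at h2
        exact hlt.ne h2
      have hK₂N : K₂ = N := by
        by_contra hne2
        have hlt2 : N < K₂ := lt_of_le_of_ne le_sup_right (Ne.symm hne2)
        have h4 := hmin ⟨hlt2, hK₂n, hK₂φ⟩ hK₂K
        exact hne (le_antisymm hK₂K h4)
      rw [← hK₂N]
      exact le_sup_left
    -- the step on `K`
    letI : Fintype K := Fintype.ofFinite _
    let N' : Subgroup K := N.subgroupOf K
    letI : Fintype N' := Fintype.ofFinite _
    let e : N' ≃* N := Subgroup.subgroupOfEquivOfLe hNK.le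
    let φ' : S →* MulAut K := resHom K φ hKφ
    have hφ' : ∀ t, ∀ n ∈ N', φ' t n ∈ N' := fun t n hn => hφ t n hn
    let θ' : IrrCharacter N' := ⟨θ.1 ∘ e, isIrr_comp_equiv e θ.2⟩
    have hab : ∀ x y : K, x * y * x⁻¹ * y⁻¹ ∈ N' := by
      intro x y
      show ((x : G) * y * (x : G)⁻¹ * (y : G)⁻¹) ∈ N
      apply hcomm
      have := Subgroup.commutator_mem_commutator x.2 y.2
      rwa [commutatorElement_def] at this
    have hrel : N.relIndex K * K.index = N.index := Subgroup.relIndex_mul_index hNK.le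
    have hcop' : Nat.Coprime N'.index (Nat.card S) := by
      apply Nat.Coprime.coprime_dvd_left _ hcop
      show N.relIndex K ∣ N.index
      rw [← hrel]
      exact dvd_mul_right _ _
    obtain ⟨χ', hχ'1, hχ'2⟩ := exists_invariant_over_abelian N' φ' hφ' hab hcop' θ' (fun s n => hθ s (e n))
    have hidx : K.index < m := by
      rw [← hm, ← hrel]
      have h1 : 0 < K.index := Nat.pos_of_ne_zero Subgroup.index_ne_zero_of_finite
      have h2 : N.relIndex K ≠ 1 := fun h => by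
        rw [Subgroup.relIndex_eq_one] at h
        exact hNK.not_ge h
      have h3 : N.relIndex K ≠ 0 := by
        intro h0
        rw [h0, zero_mul] at hrel
        exact Subgroup.index_ne_zero_of_finite hrel.symm
      have h4 : 2 ≤ N.relIndex K := by omega
      nlinarith
    have hcop'' : Nat.Coprime K.index (Nat.card S) := by
      apply Nat.Coprime.coprime_dvd_left _ hcop
      rw [← hrel]
      exact dvd_mul_left _ _
    have hsolv'' : Group.IsSolvable (G ⧸ K) := by
      apply Group.isSolvable_of_surjective (f := QuotientGroup.map N K (MonoidHom.id G) (by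
        intro x hx
        exact hNK.le hx))
      intro y
      obtain ⟨x, rfl⟩ := QuotientGroup.mk_surjective y
      exact ⟨(x : G ⧸ N), rfl⟩
    obtain ⟨χ, hχ1, hχ2⟩ := IH K.index hidx K hKφ rfl hcop'' hsolv'' χ' (fun s n => hχ'2 s n)
    refine ⟨χ, ?_, hχ2⟩
    -- transitivity
    have hD := sub_isCharacter_of_classInner_ne_zero (χ.2.isCharacter.restrict K) χ'.2 hχ1
    have h1 : classInner (fun n : N => (χ : G → ℂ) n) (θ : N → ℂ) =
        classInner (fun n : N' => (χ' : K → ℂ) n) (θ' : N' → ℂ) +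
          classInner (fun n : N' => ((fun k : K => (χ : G → ℂ) k) - (χ' : K → ℂ)) n) (θ' : N' → ℂ) := by
      rw [← classInner_comp_mulEquiv e (fun n : N => (χ : G → ℂ) n) (θ : N → ℂ), ← classInner_add_left]
      congr 1
      funext n
      simp only [Pi.add_apply, Pi.sub_apply, Function.comp_apply]
      have h2 : ((e n : N) : G) = ((n : K) : G) := rfl
      rw [h2]
      ring
    obtain ⟨a, ha⟩ := (χ'.2.isCharacter.restrict N').classInner_nat θ'.2
    obtain ⟨b, hb⟩ := (hD.restrict N').classInner_nat θ'.2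
    rw [h1, ha, hb]
    rw [ha] at hχ'1
    have ha0 : a ≠ 0 := by
      rintro rfl
      exact hχ'1 (by simp)
    have : a + b ≠ 0 := by omega
    exact_mod_cast this

end Induct

section Conversion

variable {Γ : Type u} [Group Γ] [Fintype Γ]

/-- Conjugation by `S` on `G`. -/
noncomputable def conjHom (G S : Subgroup Γ) (hnorm : ∀ s ∈ S, ∀ g ∈ G, s * g * s⁻¹ ∈ G) : S →* MulAut G where
  toFun s :=
    { toFun := fun g => ⟨s * g * (s : Γ)⁻¹, hnorm s s.2 g g.2⟩
      invFun := fun g => ⟨(s : Γ)⁻¹ * g * (s : Γ)⁻¹⁻¹, hnorm _ (S.inv_mem s.2) g g.2⟩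
      left_inv := fun g => by
        apply Subtype.ext
        simp [mul_assoc]
      right_inv := fun g => by
        apply Subtype.ext
        simp [mul_assoc]
      map_mul' := fun a b => by
        apply Subtype.ext
        simp [mul_assoc] }
  map_one' := by
    ext g
    simp
  map_mul' a b := by
    ext g
    simp [mul_assoc]

@[simp] theorem conjHom_coe (G S : Subgroup Γ) (hnorm : ∀ s ∈ S, ∀ g ∈ G, s * g * s⁻¹ ∈ G) (s : S) (g : G) :
    ((conjHom G S hnorm s g : G) : Γ) = s * g * (s : Γ)⁻¹ := rfl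

/-- S4448 -/
theorem invariant_over_induced (G S N : Subgroup Γ) [Fintype G] [Fintype N]
    (hnorm : ∀ s ∈ S, ∀ g ∈ G, s * g * s⁻¹ ∈ G) (hNG : N ≤ G) [hNn : (N.subgroupOf G).Normal]
    (hNS : ∀ s ∈ S, ∀ n ∈ N, s * n * s⁻¹ ∈ N) (hcop : (N.relIndex G).Coprime (Nat.card S))
    (hsolv : Group.IsSolvable (G ⧸ N.subgroupOf G)) (θ : IrrCharacter N)
    (hinv : (∀ s ∈ S, ∀ g g' : N, (g' : Γ) = s * g * s⁻¹ → (θ : N → ℂ) g' = (θ : N → ℂ) g)) :
    ∃ χ : IrrCharacter G, classInner (fun n : N => (χ : G → ℂ) ⟨n, hNG n.2⟩) (θ : N → ℂ) ≠ 0 ∧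
      (∀ s ∈ S, ∀ g g' : G, (g' : Γ) = s * g * s⁻¹ → (χ : G → ℂ) g' = (χ : G → ℂ) g) := by
  classical
  let φ := conjHom G S hnorm
  let N' : Subgroup G := N.subgroupOf G
  letI : Fintype N' := Fintype.ofFinite _
  let e : N' ≃* N := Subgroup.subgroupOfEquivOfLe hNG
  have hφ : ∀ t, ∀ n ∈ N', φ t n ∈ N' := fun t n hn => hNS t t.2 n hn
  let θ' : IrrCharacter N' := ⟨θ.1 ∘ e, isIrr_comp_equiv e θ.2⟩
  have hθ' : ∀ s (n : N'), (θ' : N' → ℂ) ⟨φ s n, hφ s n n.2⟩ = (θ' : N' → ℂ) n := by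
    intro s n
    exact hinv s s.2 (e n) (e ⟨φ s n, hφ s n n.2⟩) rfl
  obtain ⟨χ, h1, h2⟩ := exists_invariant_over φ _ N' hφ rfl hcop hsolv θ' hθ'
  refine ⟨χ, ?_, ?_⟩
  · rw [← classInner_comp_mulEquiv e (fun n : N => (χ : G → ℂ) ⟨n, hNG n.2⟩) (θ : N → ℂ)]
    exact h1
  · intro s hs g g' hg'
    have h3 : g' = φ ⟨s, hs⟩ g := Subtype.ext hg'
    rw [h3]
    exact h2 _ _

/-- S4447 -/
theorem invariant_constituent_of_restriction (G S N : Subgroup Γ) [Fintype G] [Fintype N]
    (hnorm : ∀ s ∈ S, ∀ g ∈ G, s * g * s⁻¹ ∈ G) (hNG : N ≤ G) [hNn : (N.subgroupOf G).Normal]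
    (hNS : ∀ s ∈ S, ∀ n ∈ N, s * n * s⁻¹ ∈ N) (hcop : (N.relIndex G).Coprime (Nat.card S))
    (hsolv : Group.IsSolvable S ∨ Group.IsSolvable (G ⧸ N.subgroupOf G)) (χ : IrrCharacter G)
    (hinv : (∀ s ∈ S, ∀ g g' : G, (g' : Γ) = s * g * s⁻¹ → (χ : G → ℂ) g' = (χ : G → ℂ) g)) :
    ∃ θ : IrrCharacter N, classInner (fun n : N => (χ : G → ℂ) ⟨n, hNG n.2⟩) (θ : N → ℂ) ≠ 0 ∧
      (∀ s ∈ S, ∀ g g' : N, (g' : Γ) = s * g * s⁻¹ → (θ : N → ℂ) g' = (θ : N → ℂ) g) := by
  classical
  let φ := conjHom G S hnorm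
  let N' : Subgroup G := N.subgroupOf G
  letI : Fintype N' := Fintype.ofFinite _
  let e : N' ≃* N := Subgroup.subgroupOfEquivOfLe hNG
  have hφ : ∀ t, ∀ n ∈ N', φ t n ∈ N' := fun t n hn => hNS t t.2 n hn
  obtain ⟨θ', h1, h2⟩ := exists_invariant_constituent N' φ hφ hcop hsolv χ (fun s g => hinv s s.2 g _ rfl)
  refine ⟨⟨θ'.1 ∘ e.symm, isIrr_comp_equiv e.symm θ'.2⟩, ?_, ?_⟩
  · rw [← classInner_comp_mulEquiv e (fun n : N => (χ : G → ℂ) ⟨n, hNG n.2⟩) _]
    have h3 : (θ'.1 ∘ e.symm) ∘ e = θ'.1 := by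
      funext n
      simp
    show classInner _ ((θ'.1 ∘ e.symm) ∘ e) ≠ 0
    rw [h3]
    exact h1
  · intro s hs g g' hg'
    have h3 := h2 ⟨s, hs⟩ (e.symm g)
    have h4 : (⟨φ ⟨s, hs⟩ (e.symm g), hφ _ _ (e.symm g).2⟩ : N') = e.symm g' := by
      apply Subtype.ext
      apply Subtype.ext
      show s * g * s⁻¹ = (g' : Γ)
      exact hg'.symm
    rw [h4] at h3
    exact h3

end Conversion

end CfsgLib.Char
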