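import Mathlib
import Cfsg.Agent.Lib.Char.GlaubAct2

/-!
# The Glauberman correspondence, cyclic case: group-theoretic lemmas
-/

set_option linter.unusedSectionVars false
set_option linter.style.haveILetI false
set_option linter.unusedSimpArgs false
set_option linter.unusedVariables false

namespace CfsgLib.Char

open Cfsg
open scoped ComplexConjugate Pointwise

universe u

section Coset

variable {Γ : Type u} [Group Γ] [Finite Γ] (G : Subgroup Γ) [hG : G.Normal] (s : Γ)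

/-- A power of `c s` equal to `s`. -/
theorem exists_pow_eq_of_commute (hcop : Nat.Coprime (Nat.card G) (orderOf s)) :
    ∃ t : ℕ, t.Coprime (orderOf s) ∧ (∀ c ∈ G, c ^ t = 1) ∧ ∀ j : ℕ, s ^ (t * j) = s ^ j := by
  classical
  obtain ⟨e, h0, h1⟩ := Nat.chineseRemainder hcop 0 1
  refine ⟨e, ?_, ?_, ?_⟩
  · rw [Nat.Coprime, Nat.ModEq.gcd_eq h1]
    simp
  · intro c hc
    have h2 : Nat.card G ∣ e := (Nat.modEq_zero_iff_dvd).mp h0
    have h3 : orderOf c ∣ Nat.card G := Subgroup.orderOf_dvd_natCard _ hc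
    exact orderOf_dvd_iff_pow_eq_one.mp (h3.trans h2)
  · intro j
    apply (pow_eq_pow_iff_modEq).mpr
    have := h1.mul_right j
    simpa using this

/-- Conjugacy on the coset determines conjugacy in the centralizer. -/
theorem conj_coset_centralizer (hcop : Nat.Coprime (Nat.card G) (orderOf s)) {x c c' : Γ}
    (hc : c ∈ G) (hc' : c' ∈ G) (hcs : c * s = s * c) (hcs' : c' * s = s * c')
    (h : x * (c * s) * x⁻¹ = c' * s) : x * s = s * x ∧ x * c * x⁻¹ = c' := by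
  obtain ⟨t, -, ht1, ht2⟩ := exists_pow_eq_of_commute G s hcop
  have h1 : (c * s) ^ t = s ^ t := by
    rw [(show Commute c s from hcs).mul_pow, ht1 c hc, one_mul]
  have h2 : (c' * s) ^ t = s ^ t := by
    rw [(show Commute c' s from hcs').mul_pow, ht1 c' hc', one_mul]
  have h3 : x * s ^ t * x⁻¹ = s ^ t := by
    rw [← h1, ← conj_pow, h, h2, h1]
  have hst : s ^ t = s := by
    have := ht2 1
    simpa using this
  rw [hst] at h3
  have h4 : x * s = s * x := by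
    have h5 : x * s * x⁻¹ * x = s * x := by rw [h3]
    simpa using h5
  refine ⟨h4, ?_⟩
  have h6 : x * (c * s) * x⁻¹ = (x * c * x⁻¹) * s := by
    have : x * (c * s) * x⁻¹ = x * c * (s * x⁻¹) := by group
    rw [this]
    have h7 : s * x⁻¹ = x⁻¹ * s := by
      have : x⁻¹ * (x * s) * x⁻¹ = x⁻¹ * (s * x) * x⁻¹ := by rw [h4]
      simpa [mul_assoc] using this
    rw [h7]
    group
  rw [h6] at h
  exact mul_right_cancel h

end Coset

section Sum

variable {Γ : Type u} [Group Γ] [Fintype Γ] (G C : Subgroup Γ) [hG : G.Normal] [Fintype G] [Fintype C] (s : Γ)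

/-- The coset sum formula: the coset `G s` is fibred over `C s`. -/
theorem sum_coset_centralizer (hcop : Nat.Coprime (Nat.card G) (orderOf s))
    (hCG : C ≤ G) (hC : ∀ x, x ∈ C ↔ x ∈ G ∧ x * s = s * x)
    (F : Γ → ℂ) (hF : ∀ x ∈ G, ∀ y, F (x * y * x⁻¹) = F y) :
    (Nat.card C : ℂ) * ∑ g : G, F ((g : Γ) * s) = (Nat.card G : ℂ) * ∑ c : C, F ((c : Γ) * s) := by
  classical
  -- map of pairs
  have hmem : ∀ (x : G) (c : C), (x : Γ) * ((c : Γ) * s) * (x : Γ)⁻¹ * s⁻¹ ∈ G := by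
    intro x c
    have h1 : (x : Γ) * ((c : Γ) * s) * (x : Γ)⁻¹ * s⁻¹ = (x : Γ) * (c : Γ) * (s * (x : Γ)⁻¹ * s⁻¹) := by group
    rw [h1]
    exact G.mul_mem (G.mul_mem x.2 (hCG c.2)) (hG.conj_mem _ (G.inv_mem x.2) s)
  let f : G × C → G := fun p => ⟨(p.1 : Γ) * ((p.2 : Γ) * s) * (p.1 : Γ)⁻¹ * s⁻¹, hmem p.1 p.2⟩
  have hf : ∀ p : G × C, ((f p : G) : Γ) * s = (p.1 : Γ) * ((p.2 : Γ) * s) * (p.1 : Γ)⁻¹ := by
    intro p
    simp [f]
  have hnorm : s ∈ Subgroup.normalizer (G : Set Γ) := by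
    rw [Subgroup.normalizer_eq_top]
    trivial
  have hcop' : Nat.Coprime (orderOf s) (Nat.card G) := hcop.symm
  -- fibres have size |C|
  have hfib : ∀ g : G, (Finset.univ.filter (fun p : G × C => f p = g)).card = Nat.card C := by
    intro g
    obtain ⟨x₀, hx₀, c₀, hc₀, hcs₀, hconj⟩ := exists_conj_coset_centralizer G s hnorm hcop' g g.2
    have hc₀C : c₀ ∈ C := (hC c₀).mpr ⟨hc₀, hcs₀⟩
    rw [Nat.card_eq_fintype_card, ← Finset.card_univ]
    symm
    refine Finset.card_bij (fun (u : C) _ => ((⟨x₀⁻¹ * u, G.mul_mem (G.inv_mem hx₀) (hCG u.2)⟩ : G),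
      (⟨(u : Γ)⁻¹ * c₀ * u, C.mul_mem (C.mul_mem (C.inv_mem u.2) hc₀C) u.2⟩ : C))) ?_ ?_ ?_
    · intro u _
      rw [Finset.mem_filter]
      refine ⟨Finset.mem_univ _, ?_⟩
      apply Subtype.ext
      show x₀⁻¹ * u * (((u : Γ)⁻¹ * c₀ * u) * s) * (x₀⁻¹ * u)⁻¹ * s⁻¹ = g
      have hus : (u : Γ) * s = s * u := ((hC u).mp u.2).2
      have h1 : x₀⁻¹ * u * (((u : Γ)⁻¹ * c₀ * u) * s) * (x₀⁻¹ * u)⁻¹ =
          x₀⁻¹ * (c₀ * (u * s * (u : Γ)⁻¹)) * x₀ := by group
      have h2 : (u : Γ) * s * (u : Γ)⁻¹ = s := by rw [hus]; group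
      rw [h1, h2, ← hconj]
      group
    · intro u _ v _ huv
      have h1 := congrArg (fun p : G × C => (p.1 : Γ)) huv
      simp only at h1
      exact Subtype.ext (mul_left_cancel h1)
    · rintro ⟨x, c⟩ hp
      rw [Finset.mem_filter] at hp
      have h1 : (x : Γ) * ((c : Γ) * s) * (x : Γ)⁻¹ = (g : Γ) * s := by
        rw [← hf (x, c), hp.2]
      have h2 : (x₀ * x) * ((c : Γ) * s) * (x₀ * x)⁻¹ = c₀ * s := by
        rw [← hconj, ← h1]
        group
      obtain ⟨h3, h4⟩ := conj_coset_centralizer G s hcop (hCG c.2) hc₀ ((hC c).mp c.2).2 hcs₀ h2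
      have hu : x₀ * x ∈ C := (hC _).mpr ⟨G.mul_mem hx₀ x.2, h3⟩
      refine ⟨⟨x₀ * x, hu⟩, Finset.mem_univ _, ?_⟩
      apply Prod.ext
      · apply Subtype.ext
        show x₀⁻¹ * (x₀ * x) = x
        group
      · apply Subtype.ext
        show (x₀ * x)⁻¹ * c₀ * (x₀ * x) = c
        rw [← h4]
        group
  -- double counting
  have h1 : ∑ p : G × C, F (((p.1 : G) : Γ) * ((p.2 : Γ) * s) * ((p.1 : G) : Γ)⁻¹) =
      (Nat.card G : ℂ) * ∑ c : C, F ((c : Γ) * s) := by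
    rw [Fintype.sum_prod_type]
    simp only [fun (x : G) (c : C) => hF x x.2 ((c : Γ) * s)]
    simp [Nat.card_eq_fintype_card, Finset.card_univ]
  have h2 : ∑ p : G × C, F (((p.1 : G) : Γ) * ((p.2 : Γ) * s) * ((p.1 : G) : Γ)⁻¹) =
      (Nat.card C : ℂ) * ∑ g : G, F ((g : Γ) * s) := by
    have h3 : ∀ p : G × C, F (((p.1 : G) : Γ) * ((p.2 : Γ) * s) * ((p.1 : G) : Γ)⁻¹) = F ((f p : Γ) * s) := by
      intro p
      rw [hf]
    rw [Finset.sum_congr rfl fun p _ => h3 p]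
    rw [← Finset.sum_fiberwise_of_maps_to (s := Finset.univ) (t := Finset.univ) (g := f)
      (fun _ _ => Finset.mem_univ _), Finset.mul_sum]
    refine Finset.sum_congr rfl fun g _ => ?_
    have h4 : ∀ p ∈ Finset.univ.filter (fun p : G × C => f p = g), F ((f p : Γ) * s) = F ((g : Γ) * s) := by
      intro p hp
      rw [(Finset.mem_filter.mp hp).2]
    rw [Finset.sum_congr rfl h4, Finset.sum_const, hfib g]
    simp
  rw [← h2, h1]

end Sum

end CfsgLib.Char
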