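import Mathlib
import Cfsg.Agent.Lib.Char.GlaubCorr1

/-!
# The Glauberman correspondence, cyclic case: values of the canonical extension
-/

set_option linter.unusedSectionVars false
set_option linter.style.haveILetI false
set_option linter.unusedSimpArgs false
set_option linter.unusedVariables false

namespace CfsgLib.Char

open Cfsg
open scoped ComplexConjugate Pointwise

universe u

section Tensor

variable {A B : Type u} [Group A] [Fintype A] [Group B] [Fintype B]

theorem irr_tensor_factor (hB : ∀ a b : B, a * b = b * a) {ψ : A × B → ℂ} (hψ : IsIrrCharacter (A × B) ψ) :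
    ∃ l : B →* ℂˣ, ∀ a b, ψ (a, b) = ψ (a, 1) * ((l b : ℂˣ) : ℂ) := by
  classical
  obtain ⟨n, ρ, hρ, rfl⟩ := hψ
  have hV : Nontrivial (Fin n → ℂ) := ((isIrreducible_iff ρ).mp hρ).1
  obtain ⟨v, hv⟩ := exists_ne (0 : Fin n → ℂ)
  have hcomm : ∀ (b : B), ∀ g v, ρ (1, b) (ρ g v) = ρ g (ρ (1, b) v) := by
    intro b g v
    rw [← Module.End.mul_apply, ← Module.End.mul_apply, ← map_mul, ← map_mul]
    congr 2
    ext
    · simp
    · simp [hB]
  choose w hw using fun b => schur_scalar ρ (ρ (1, b)) (hcomm b)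
  have hscal : ∀ c d : ℂ, c • (LinearMap.id : (Fin n → ℂ) →ₗ[ℂ] (Fin n → ℂ)) = d • LinearMap.id → c = d := by
    intro c d h
    have h1 := congrArg (fun T : (Fin n → ℂ) →ₗ[ℂ] (Fin n → ℂ) => T v) h
    simp only [LinearMap.smul_apply, LinearMap.id_apply] at h1
    exact smul_left_injective ℂ hv h1
  have hw1 : w 1 = 1 := by
    apply hscal
    rw [← hw 1, one_smul]
    have : ((1 : A), (1 : B)) = 1 := rfl
    rw [this, map_one]
    rfl
  have hwmul : ∀ a b, w (a * b) = w a * w b := by
    intro a b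
    apply hscal
    rw [← hw (a * b), mul_smul]
    have : ((1 : A), a * b) = (1, a) * (1, b) := by simp
    rw [this, map_mul, hw a, hw b]
    ext x i
    simp [Module.End.mul_apply, mul_smul]
    ring
  let f : B →* ℂ := ⟨⟨w, hw1⟩, hwmul⟩
  refine ⟨f.toHomUnits, fun a b => ?_⟩
  rw [MonoidHom.coe_toHomUnits]
  have h1 : (a, b) = (a, (1 : B)) * (1, b) := by simp
  show LinearMap.trace ℂ _ (ρ (a, b)) = LinearMap.trace ℂ _ (ρ (a, 1)) * w b
  rw [h1, map_mul, hw b]
  have h2 : ρ (a, 1) * (w b • LinearMap.id) = w b • ρ (a, 1) := by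
    ext x i
    simp [Module.End.mul_apply]
  rw [h2, map_smul, smul_eq_mul, mul_comm]

theorem exists_tensor_decomp (hB : ∀ a b : B, a * b = b * a) {τ : A × B → ℂ} (hτ : IsCharacter (A × B) τ) :
    ∃ (γ : IrrCharacter (A × B) → (A → ℂ)) (l : IrrCharacter (A × B) → (B →* ℂˣ)),
      (∀ i, IsCharacter A (γ i)) ∧ ∀ a b, τ (a, b) = ∑ i, γ i a * ((l i b : ℂˣ) : ℂ) := by
  classical
  obtain ⟨c, hc⟩ := hτ.exists_coeff
  choose l hl using fun ψ : IrrCharacter (A × B) => irr_tensor_factor hB ψ.2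
  refine ⟨fun ψ => c ψ • (fun a => (ψ : A × B → ℂ) (a, 1)), l, ?_, ?_⟩
  · intro ψ
    exact (ψ.2.isCharacter.comp (MonoidHom.inl A B)).nsmul _
  · intro a b
    rw [hc, Finset.sum_apply]
    refine Finset.sum_congr rfl fun ψ _ => ?_
    show c ψ • (ψ : A × B → ℂ) (a, b) = (c ψ • (fun a => (ψ : A × B → ℂ) (a, 1))) a * _
    rw [Pi.smul_apply, hl ψ a b, nsmul_eq_mul, nsmul_eq_mul]
    ring

end Tensor

section Det

variable {Γ : Type u} [Group Γ] [Fintype Γ]

/-- The determinant of a power-twisted character. -/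
theorem detChar_powFun {χ : Γ → ℂ} (hχ : IsCharacter Γ χ) {m : ℕ} (hm : m.Coprime (Nat.card Γ)) (g : Γ) :
    detChar (fun x => χ (x ^ m)) g = (detChar χ g) ^ m := by
  classical
  obtain ⟨n, ρ, rfl⟩ := id hχ
  obtain ⟨k, σ, hσ⟩ := powFun_isChar hχ hm
  rw [← hσ, detChar_character, detChar_character]
  let A := Subgroup.zpowers g
  let pw : A →* A :=
    { toFun := fun a => a ^ m
      map_one' := one_pow _
      map_mul' := fun a b => by
        have hc : Commute a b := by
          obtain ⟨a, i, rfl⟩ := a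
          obtain ⟨b, j, rfl⟩ := b
          apply Subtype.ext
          exact (Commute.zpow_zpow_self g i j).eq
        exact hc.mul_pow m }
  let σA : Representation ℂ A (Fin k → ℂ) := MonoidHom.comp σ A.subtype
  let ρA : Representation ℂ A (Fin n → ℂ) := MonoidHom.comp (MonoidHom.comp ρ A.subtype) pw
  have hch : σA.character = ρA.character := by
    funext a
    have h1 := congrFun hσ (a : Γ)
    exact h1
  obtain ⟨E⟩ := equiv_of_character_eq _ _ _ σA ρA rfl hch
  let a₀ : A := ⟨g, Subgroup.mem_zpowers g⟩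
  have h1 : ρA a₀ = E.toLinearEquiv.toLinearMap ∘ₗ σA a₀ ∘ₗ E.toLinearEquiv.symm.toLinearMap := by
    refine LinearMap.ext fun v => ?_
    have h2 := equiv_apply_rep E a₀ (E.toLinearEquiv.symm v)
    simp only [LinearEquiv.apply_symm_apply] at h2
    simp only [LinearMap.comp_apply, LinearEquiv.coe_coe]
    exact h2.symm
  have h3 : LinearMap.det (ρA a₀) = LinearMap.det (σA a₀) := by
    rw [h1]
    exact LinearMap.det_conj _ _
  show LinearMap.det (σA a₀) = _
  rw [← h3]
  show LinearMap.det (ρ (g ^ m)) = _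
  rw [map_pow, map_pow]

/-- The order of a determinantal character. -/
theorem detOrder_dvd_card {χ : Γ → ℂ} (hχ : IsCharacter Γ χ) : detOrder χ ∣ Nat.card Γ := by
  classical
  apply orderOf_dvd_of_pow_eq_one
  obtain ⟨n, ρ, rfl⟩ := hχ
  funext g
  rw [Pi.pow_apply, detChar_character, ← map_pow, ← map_pow, pow_card_eq_one', map_one, map_one]
  rfl

theorem detOrder_powFun_dvd {χ : Γ → ℂ} (hχ : IsCharacter Γ χ) {m : ℕ} (hm : m.Coprime (Nat.card Γ)) :
    detOrder (fun x => χ (x ^ m)) ∣ detOrder χ := by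
  apply orderOf_dvd_of_pow_eq_one
  funext g
  have h1 : (detChar χ g) ^ detOrder χ = 1 := by
    have h2 := congrFun (pow_orderOf_eq_one (detChar χ)) g
    rw [Pi.pow_apply] at h2
    exact h2
  rw [Pi.pow_apply, detChar_powFun hχ hm, ← pow_mul, mul_comm, pow_mul, h1, one_pow]
  rfl

/-- The canonical extension is invariant under power maps that are trivial on the normal subgroup. -/
theorem canonical_pow (G : Subgroup Γ) [hG : G.Normal] {χ : Γ → ℂ} (hχ : IsIrrCharacter Γ χ)
    (hres : IsIrrCharacter G (fun g : G => χ g)) (hcop : Nat.Coprime (Nat.card G) G.index)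
    (hdet : Nat.Coprime G.index (detOrder χ)) {m : ℕ} (hm : m.Coprime (Nat.card Γ))
    (hm1 : m ≡ 1 [MOD Nat.card G]) (g : Γ) : χ (g ^ m) = χ g := by
  classical
  letI : Fintype G := Fintype.ofFinite _
  obtain ⟨d, hd0, hd⟩ := hres.map_one
  have hinv : ∀ (x : Γ) (n : G), (fun g : G => χ g) ⟨x * n * x⁻¹, hG.conj_mem (n : Γ) n.2 x⟩ =
      (fun g : G => χ g) n := fun x n => hχ.isClassFunction _ _
  have hcop' : Nat.Coprime G.index (detOrder (fun g : G => χ g) * d) := by
    apply Nat.Coprime.mul_right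
    · exact Nat.Coprime.coprime_dvd_right (detOrder_dvd_card hres.isCharacter) hcop.symm
    · exact Nat.Coprime.coprime_dvd_right (degree_dvd_card hres hd) hcop.symm
  obtain ⟨χc, -, huniq⟩ := exists_unique_extension_of_coprime G (fun g : G => χ g) hres hinv d hd hcop'
  have h1 : χ = χc := huniq χ hχ (fun n => rfl) hdet
  have hval : ∀ n : G, (n : Γ) ^ m = n := by
    intro n
    have h2 : (n : Γ) ^ m = (n : Γ) ^ 1 := by
      apply (pow_eq_pow_iff_modEq).mpr
      exact hm1.of_dvd (Subgroup.orderOf_dvd_natCard _ n.2)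
    rwa [pow_one] at h2
  have h2 : (fun x => χ (x ^ m)) = χc := huniq _ (powFun_isIrr hχ hm) (fun n => by
    show χ ((n : Γ) ^ m) = χ n
    rw [hval n]) (Nat.Coprime.coprime_dvd_right (detOrder_powFun_dvd hχ.isCharacter hm) hdet)
  have h3 := congrFun h2 g
  rw [← h1] at h3
  exact h3

end Det

end CfsgLib.Char
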