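import Mathlib
import Cfsg.Agent.Lib.Char.GlaubCorr2

/-!
# The Glauberman correspondence, cyclic case: the value theorem
-/

set_option linter.unusedSectionVars false
set_option linter.style.haveILetI false
set_option linter.unusedSimpArgs false
set_option linter.unusedVariables false

namespace CfsgLib.Char

open Cfsg
open scoped ComplexConjugate Pointwise

universe u

section Main

variable {Γ : Type u} [Group Γ] [Fintype Γ] (G S C : Subgroup Γ) [hG : G.Normal] [Fintype G] [Fintype C]

/-- The package of hypotheses. -/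
structure CorrData (s : Γ) : Prop where
  hcop : (Nat.card G).Coprime (Nat.card S)
  hs : Subgroup.zpowers s = S
  htop : G ⊔ S = ⊤
  hCG : C ≤ G
  hC : ∀ x, x ∈ C ↔ x ∈ G ∧ x * s = s * x

variable {G S C} {s : Γ} (hd : CorrData G S C s)

include hd

theorem CorrData.order : orderOf s = Nat.card S := by
  rw [← hd.hs, Nat.card_zpowers]

theorem CorrData.cop : (Nat.card G).Coprime (orderOf s) := by
  rw [hd.order]
  exact hd.hcop

theorem CorrData.smem : s ∈ S := by
  rw [← hd.hs]
  exact Subgroup.mem_zpowers s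

theorem CorrData.index : G.index = Nat.card S := by
  have hdisj : G ⊓ S = ⊥ := (Subgroup.disjoint_of_coprime_natCard hd.hcop).eq_bot
  exact (frob_isComplement G S hdisj hd.htop).symm.index_eq_card

theorem CorrData.card : Nat.card G * Nat.card S = Nat.card Γ := by
  rw [← hd.index]
  exact Subgroup.card_mul_index G

theorem CorrData.gen_val {χ : Γ → ℂ} (hχ : IsIrrCharacter Γ χ) (hres : IsIrrCharacter G (fun g : G => χ g))
    (hdet : (detOrder χ).Coprime (Nat.card S)) {c s' : Γ} (hc : c ∈ C) (hs' : Subgroup.zpowers s' = S) :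
    χ (c * s') = χ (c * s) := by
  obtain ⟨m₀, hm₀, rfl⟩ := exists_pow_of_same_zpowers (hs'.trans hd.hs.symm)
  have hcop' : Nat.Coprime (Nat.card S) (Nat.card G) := hd.hcop.symm
  obtain ⟨m, hm, h1, h2⟩ := exists_coprime_lift (N := Nat.card Γ) Nat.card_pos hcop'
    (by rw [mul_comm, hd.card]) hm₀
  have hcs : Commute c s := ((hd.hC c).mp hc).2
  have h3 : (c * s) ^ m = c * s ^ m₀ := by
    rw [hcs.mul_pow]
    have h4 : c ^ m = c ^ 1 := by
      apply (pow_eq_pow_iff_modEq).mpr
      exact h2.of_dvd (Subgroup.orderOf_dvd_natCard _ (hd.hCG hc))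
    have h5 : s ^ m = s ^ m₀ := by
      apply (pow_eq_pow_iff_modEq).mpr
      rw [hd.order]
      exact h1
    rw [h4, h5, pow_one]
  rw [← h3]
  refine canonical_pow G hχ hres ?_ ?_ hm h2 _
  · rw [hd.index]
    exact hd.hcop
  · rw [hd.index]
    exact hdet.symm

/-- Inner products on the centralizer are inner products on the coset. -/
theorem CorrData.inner_coset (χ χ' : Γ → ℂ) (hχ : IsClassFunction Γ χ) (hχ' : IsClassFunction Γ χ') :
    classInner (fun c : C => χ ((c : Γ) * s)) (fun c : C => χ' ((c : Γ) * s)) =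
      (Nat.card G : ℂ)⁻¹ * ∑ g : G, χ ((g : Γ) * s) * conj (χ' ((g : Γ) * s)) := by
  have hF : ∀ x ∈ G, ∀ y, (fun y => χ y * conj (χ' y)) (x * y * x⁻¹) = (fun y => χ y * conj (χ' y)) y := by
    intro x _ y
    simp only
    rw [hχ, hχ']
  have h1 := sum_coset_centralizer G C s hd.cop hd.hCG hd.hC (fun y => χ y * conj (χ' y)) hF
  rw [classInner_def]
  have hC0 : (Nat.card C : ℂ) ≠ 0 := Nat.cast_ne_zero.mpr Nat.card_pos.ne'
  have hG0 : (Nat.card G : ℂ) ≠ 0 := Nat.cast_ne_zero.mpr Nat.card_pos.ne'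
  field_simp
  linear_combination -h1

/-- Norm one. -/
theorem CorrData.norm_one {χ : Γ → ℂ} (hχ : IsIrrCharacter Γ χ) (hres : IsIrrCharacter G (fun g : G => χ g)) :
    classInner (fun c : C => χ ((c : Γ) * s)) (fun c : C => χ ((c : Γ) * s)) = 1 := by
  rw [hd.inner_coset χ χ hχ.isClassFunction hχ.isClassFunction]
  have h1 := (coset_average G hχ hres hχ rfl).2.2 rfl
  have h2 := congrFun h1 s
  exact h2

/-- Orthogonality of different characters. -/
theorem CorrData.orth {χ χ' : Γ → ℂ} (hχ : IsIrrCharacter Γ χ) (hres : IsIrrCharacter G (fun g : G => χ g))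
    (hχ' : IsIrrCharacter Γ χ') (hres' : IsIrrCharacter G (fun g : G => χ' g))
    (hne : (fun g : G => χ g) ≠ (fun g : G => χ' g)) :
    classInner (fun c : C => χ ((c : Γ) * s)) (fun c : C => χ' ((c : Γ) * s)) = 0 := by
  rw [hd.inner_coset χ χ' hχ.isClassFunction hχ'.isClassFunction]
  have h1 := (coset_average G hχ' hres' hχ rfl).2.1 (classInner_irr_ne hres hres' hne)
  have h2 := congrFun h1 s
  exact h2

theorem CorrData.commC {c : Γ} (hc : c ∈ C) {u : Γ} (hu : u ∈ S) : c * u = u * c := by
  rw [← hd.hs] at hu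
  obtain ⟨k, rfl⟩ := Subgroup.mem_zpowers_iff.mp hu
  have : Commute c s := ((hd.hC c).mp hc).2
  exact (this.zpow_right k).eq

/-- The main value theorem. -/
theorem CorrData.exists_corr {χ : Γ → ℂ} (hχ : IsIrrCharacter Γ χ) (hres : IsIrrCharacter G (fun g : G => χ g))
    (hdet : (detOrder χ).Coprime (Nat.card S)) :
    ∃ (β : IrrCharacter C) (ε : ℤ), (ε = 1 ∨ ε = -1) ∧
      (∀ c : C, ∀ s' : Γ, Subgroup.zpowers s' = S → χ ((c : Γ) * s') = (ε : ℂ) * (β : C → ℂ) c) ∧
      classInner (fun c : C => χ c) (β : C → ℂ) ≠ 0 := by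
  classical
  letI : Fintype S := Fintype.ofFinite _
  set F : C → ℂ := fun c => χ ((c : Γ) * s) with hF
  have hFclass : IsClassFunction C F := by
    intro c c'
    simp only [hF]
    have h1 : ((c' * c * c'⁻¹ : C) : Γ) * s = (c' : Γ) * ((c : Γ) * s) * (c' : Γ)⁻¹ := by
      have h2 := ((hd.hC c').mp c'.2).2
      have h3 : s * (c' : Γ)⁻¹ = (c' : Γ)⁻¹ * s := by
        have : (c' : Γ)⁻¹ * ((c' : Γ) * s) * (c' : Γ)⁻¹ = (c' : Γ)⁻¹ * (s * c') * (c' : Γ)⁻¹ := by rw [h2]
        simpa [mul_assoc] using this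
      simp only [Subgroup.coe_mul, Subgroup.coe_inv]
      rw [mul_assoc (c' * c : Γ), ← h3]
      group
    rw [h1]
    exact hχ.isClassFunction _ _
  -- the tensor decomposition
  have hcomm : ∀ (c : C) (u : S), Commute (C.subtype c) (S.subtype u) := fun c u => hd.commC c.2 u.2
  let ι : C × S →* Γ := MonoidHom.noncommCoprod C.subtype S.subtype hcomm
  have hι : ∀ c u, ι (c, u) = (c : Γ) * (u : Γ) := fun c u => rfl
  have hScomm : ∀ a b : S, a * b = b * a := by
    intro a b
    obtain ⟨a, ha⟩ := a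
    obtain ⟨b, hb⟩ := b
    apply Subtype.ext
    show a * b = b * a
    rw [← hd.hs] at ha hb
    obtain ⟨i, rfl⟩ := Subgroup.mem_zpowers_iff.mp ha
    obtain ⟨j, rfl⟩ := Subgroup.mem_zpowers_iff.mp hb
    exact (Commute.zpow_zpow_self s i j).eq
  obtain ⟨γ, l, hγ, hdec⟩ := exists_tensor_decomp hScomm (hχ.isCharacter.comp ι)
  have hdec' : ∀ (c : C) (u : S), χ ((c : Γ) * (u : Γ)) = ∑ i, γ i c * ((l i u : ℂˣ) : ℂ) := fun c u => hdec c u
  let s₀ : S := ⟨s, hd.smem⟩
  have hFdec : F = ∑ i, ((l i s₀ : ℂˣ) : ℂ) • γ i := by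
    funext c
    simp only [hF, Finset.sum_apply, Pi.smul_apply, smul_eq_mul]
    rw [show ((c : Γ) * s) = (c : Γ) * ((s₀ : S) : Γ) from rfl, hdec']
    exact Finset.sum_congr rfl fun i _ => mul_comm _ _
  have hinner : ∀ β : C → ℂ, classInner F β = ∑ i, ((l i s₀ : ℂˣ) : ℂ) * classInner (γ i) β := by
    intro β
    rw [hFdec, classInner_sum_left]
    refine Finset.sum_congr rfl fun i _ => ?_
    rw [classInner_smul_left]
  -- integrality
  have hint : ∀ β : IrrCharacter C, ∃ n : ℤ, classInner F (β : C → ℂ) = n := by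
    intro β
    choose n hn using fun i => (hγ i).classInner_nat β.2
    let E : S → ℂ := ∑ i, (n i) • (fun u : S => ((l i u : ℂˣ) : ℂ))
    have hE : IsCharacter S E := IsCharacter.sum _ _ fun i _ => ((isIrr_of_hom (l i)).isCharacter).nsmul _
    have hEval : ∀ u : S, E u = classInner (fun c : C => χ ((c : Γ) * (u : Γ))) (β : C → ℂ) := by
      intro u
      have h1 : (fun c : C => χ ((c : Γ) * (u : Γ))) = ∑ i, ((l i u : ℂˣ) : ℂ) • γ i := by
        funext c
        simp only [Finset.sum_apply, Pi.smul_apply, smul_eq_mul]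
        rw [hdec']
        exact Finset.sum_congr rfl fun i _ => mul_comm _ _
      rw [h1, classInner_sum_left]
      simp only [E, Finset.sum_apply]
      refine Finset.sum_congr rfl fun i _ => ?_
      show (n i • fun u : S => ((l i u : ℂˣ) : ℂ)) u = _
      rw [Pi.smul_apply, nsmul_eq_mul, classInner_smul_left, hn i]
      ring
    obtain ⟨z, hz⟩ := exists_int_of_fixed hE s₀ 1 (one_dvd _) (Nat.coprime_one_right _) (by
      intro m hm _
      rw [hEval, hEval]
      congr 1
      funext c
      apply hd.gen_val hχ hres hdet c.2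
      have h2 : ((s₀ ^ m : S) : Γ) = s ^ m := rfl
      have h3 := zpowers_pow_coprime s₀ hm
      have h4 := congrArg (fun A : Subgroup S => A.map S.subtype) h3
      simp only [MonoidHom.map_zpowers] at h4
      rw [h2] at *
      have h5 : Subgroup.zpowers (S.subtype s₀) = S := hd.hs
      rw [h5] at h4
      exact h4)
    refine ⟨z, ?_⟩
    rw [← hz, hEval]
  have hgen : IsGeneralizedCharacter C F := by
    rw [classFunction_eq_sum hFclass]
    apply IsGeneralizedCharacter.sum
    intro β _
    obtain ⟨n, hn⟩ := hint β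
    rw [hn]
    exact β.2.isGeneralized.int_smul n
  have hnorm : classInner F F = 1 := hd.norm_one hχ hres
  have hcons : ∀ β : IrrCharacter C, classInner F (β : C → ℂ) ≠ 0 →
      classInner (fun c : C => χ c) (β : C → ℂ) ≠ 0 := by
    intro β hβ h0
    apply hβ
    choose n hn using fun i => (hγ i).classInner_nat β.2
    have h1 : (fun c : C => χ c) = ∑ i, γ i := by
      funext c
      have h2 := hdec' c 1
      simp only [OneMemClass.coe_one, mul_one, map_one, Units.val_one] at h2
      rw [h2, Finset.sum_apply]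
    rw [h1, classInner_sum_left, Finset.sum_congr rfl fun i _ => hn i] at h0
    have h3 : ∑ i, n i = 0 := by exact_mod_cast h0
    have h4 : ∀ i, n i = 0 := fun i => (Finset.sum_eq_zero_iff.mp h3) i (Finset.mem_univ i)
    rw [hinner, Finset.sum_eq_zero]
    intro i _
    rw [hn i, h4 i]
    simp
  have hval : ∀ (c : C) (s' : Γ), Subgroup.zpowers s' = S → χ ((c : Γ) * s') = F c :=
    fun c s' hs' => hd.gen_val hχ hres hdet c.2 hs'
  rcases hgen.exists_of_norm_one hnorm with h | h
  · refine ⟨⟨F, h⟩, 1, Or.inl rfl, ?_, ?_⟩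
    · intro c s' hs'
      rw [hval c s' hs']
      simp
    · apply hcons
      show classInner F F ≠ 0
      rw [hnorm]
      exact one_ne_zero
  · refine ⟨⟨-F, h⟩, -1, Or.inr rfl, ?_, ?_⟩
    · intro c s' hs'
      rw [hval c s' hs']
      simp
    · apply hcons
      show classInner F (-F) ≠ 0
      have h1 : classInner F (-F) = -classInner F F := by
        have h2 : -F = (-1 : ℂ) • F := by simp
        rw [h2, classInner_smul_right]
        simp
      rw [h1, hnorm]
      simp

end Main

end CfsgLib.Char
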