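import Mathlib
import Cfsg.Agent.Lib.Char.GlaubCorr3

/-!
# The Glauberman correspondence, cyclic case: counting and the statement
-/

set_option linter.unusedSectionVars false
set_option linter.style.haveILetI false
set_option linter.unusedSimpArgs false
set_option linter.unusedVariables false

namespace CfsgLib.Char

open Cfsg
open scoped ComplexConjugate Pointwise

universe u

section Count

variable {Γ : Type u} [Group Γ] [Fintype Γ] (G C : Subgroup Γ) [hG : G.Normal] [Fintype G] [Fintype C] (s : Γ)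

/-- Elements of the fixed subgroup conjugate in `G` are conjugate in the fixed subgroup. -/
theorem conj_in_fixed (hcop : Nat.Coprime (orderOf s) (Nat.card G)) (hC : ∀ x, x ∈ C ↔ x ∈ G ∧ x * s = s * x)
    {c c' : C} (h : ∃ x ∈ G, x * (c : Γ) * x⁻¹ = c') : IsConj c c' := by
  classical
  let H : Subgroup Γ := G ⊓ Subgroup.centralizer ({(c' : Γ)} : Set Γ)
  have hHmem : ∀ x, x ∈ H ↔ x ∈ G ∧ x * (c' : Γ) = (c' : Γ) * x := by
    intro x
    show x ∈ G ⊓ _ ↔ _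
    rw [Subgroup.mem_inf, Subgroup.mem_centralizer_singleton_iff]
  have hc's : (c' : Γ) * s = s * c' := ((hC c').mp c'.2).2
  have hcs : (c : Γ) * s = s * c := ((hC c).mp c.2).2
  have hinv1 : s⁻¹ * (c' : Γ) * s = c' := by
    rw [mul_assoc, hc's]
    group
  have hinv2 : s * (c' : Γ) * s⁻¹ = c' := by
    rw [← hc's]
    group
  have hHnorm : s ∈ Subgroup.normalizer (H : Set Γ) := by
    rw [Subgroup.mem_normalizer_iff]
    intro x
    rw [hHmem, hHmem]
    constructor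
    · rintro ⟨hx, hx'⟩
      refine ⟨hG.conj_mem x hx s, ?_⟩
      calc s * x * s⁻¹ * (c' : Γ) = s * (x * (s⁻¹ * (c' : Γ) * s)) * s⁻¹ := by group
        _ = s * (x * c') * s⁻¹ := by rw [hinv1]
        _ = s * ((c' : Γ) * x) * s⁻¹ := by rw [hx']
        _ = (s * c') * x * s⁻¹ := by group
        _ = ((c' : Γ) * s) * x * s⁻¹ := by rw [hc's]
        _ = (c' : Γ) * (s * x * s⁻¹) := by group
    · rintro ⟨hx, hx'⟩
      refine ⟨?_, ?_⟩
      · have := hG.conj_mem _ hx s⁻¹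
        simpa [mul_assoc] using this
      · calc x * (c' : Γ) = s⁻¹ * ((s * x * s⁻¹) * (s * (c' : Γ) * s⁻¹)) * s := by group
          _ = s⁻¹ * ((s * x * s⁻¹) * c') * s := by rw [hinv2]
          _ = s⁻¹ * ((c' : Γ) * (s * x * s⁻¹)) * s := by rw [hx']
          _ = (s⁻¹ * (c' : Γ) * s) * x := by group
          _ = (c' : Γ) * x := by rw [hinv1]
  have hHcop : Nat.Coprime (orderOf s) (Nat.card H) :=
    Nat.Coprime.coprime_dvd_right (Subgroup.card_dvd_of_le inf_le_left) hcop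
  obtain ⟨x, hx, hxc⟩ := h
  -- the element `g = x s x⁻¹ s⁻¹`
  have hgH : x * s * x⁻¹ * s⁻¹ ∈ H := by
    rw [hHmem]
    refine ⟨?_, ?_⟩
    · have : x * s * x⁻¹ * s⁻¹ = x * (s * x⁻¹ * s⁻¹) := by group
      rw [this]
      exact G.mul_mem hx (hG.conj_mem _ (G.inv_mem hx) s)
    · have h1 : x * s * x⁻¹ * (c' : Γ) = (c' : Γ) * (x * s * x⁻¹) := by
        rw [← hxc]
        have : x * s * x⁻¹ * (x * (c : Γ) * x⁻¹) = x * (s * c) * x⁻¹ := by group
        rw [this, ← hcs]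
        group
      calc x * s * x⁻¹ * s⁻¹ * (c' : Γ) = x * s * x⁻¹ * ((s⁻¹ * (c' : Γ) * s) * s⁻¹) := by group
        _ = x * s * x⁻¹ * ((c' : Γ) * s⁻¹) := by rw [hinv1]
        _ = (x * s * x⁻¹ * (c' : Γ)) * s⁻¹ := by group
        _ = (c' : Γ) * (x * s * x⁻¹) * s⁻¹ := by rw [h1]
        _ = (c' : Γ) * (x * s * x⁻¹ * s⁻¹) := by group
  obtain ⟨z, hz, c₁, hc₁, hc₁s, hzc⟩ := exists_conj_coset_centralizer H s hHnorm hHcop _ hgH
  have hzG := ((hHmem z).mp hz)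
  have hc₁G := ((hHmem c₁).mp hc₁).1
  have hcopG : Nat.Coprime (Nat.card G) (orderOf s) := hcop.symm
  have h2 : (z * x) * ((1 : Γ) * s) * (z * x)⁻¹ = c₁ * s := by
    rw [← hzc]
    group
  obtain ⟨h3, h4⟩ := conj_coset_centralizer G s hcopG (G.one_mem) hc₁G (by simp) hc₁s h2
  have hw : z * x ∈ C := (hC _).mpr ⟨G.mul_mem hzG.1 hx, h3⟩
  refine isConj_iff.mpr ⟨⟨z * x, hw⟩, ?_⟩
  apply Subtype.ext
  show (z * x) * (c : Γ) * (z * x)⁻¹ = c'
  have h5 : (z * x) * (c : Γ) * (z * x)⁻¹ = z * (x * (c : Γ) * x⁻¹) * z⁻¹ := by group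
  rw [h5, hxc, hzG.2]
  group

/-- The number of classes of `C` is the number of `s`-fixed classes of `G`. -/
theorem card_fixed_classes_eq_classes (hcop : Nat.Coprime (orderOf s) (Nat.card G))
    (hCG : C ≤ G) (hC : ∀ x, x ∈ C ↔ x ∈ G ∧ x * s = s * x) :
    Nat.card {K : ConjClasses G // ConjClasses.map (MulEquiv.toMonoidHom ((MulAut.conjNormal s : MulAut G))) K = K} =
      Nat.card (ConjClasses C) := by
  classical
  let ι : C →* G := Subgroup.inclusion hCG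
  let f : ConjClasses C → ConjClasses G := ConjClasses.map ι
  have hfix : ∀ K : ConjClasses C,
      ConjClasses.map (MulEquiv.toMonoidHom ((MulAut.conjNormal s : MulAut G))) (f K) = f K := by
    intro K
    obtain ⟨c, rfl⟩ := ConjClasses.mk_surjective K
    show ConjClasses.mk _ = ConjClasses.mk _
    congr 1
    apply Subtype.ext
    show s * (c : Γ) * s⁻¹ = c
    rw [← ((hC c).mp c.2).2]
    group
  symm
  apply Nat.card_congr
  refine Equiv.ofBijective (fun K => ⟨f K, hfix K⟩) ⟨?_, ?_⟩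
  · intro K K' h
    obtain ⟨c, rfl⟩ := ConjClasses.mk_surjective K
    obtain ⟨c', rfl⟩ := ConjClasses.mk_surjective K'
    have h1 : f (ConjClasses.mk c) = f (ConjClasses.mk c') := congrArg Subtype.val h
    have h2 : IsConj (ι c) (ι c') := ConjClasses.mk_eq_mk_iff_isConj.mp h1
    obtain ⟨x, hx⟩ := isConj_iff.mp h2
    apply ConjClasses.mk_eq_mk_iff_isConj.mpr
    apply conj_in_fixed G C s hcop hC
    refine ⟨x, x.2, ?_⟩
    exact congrArg Subtype.val hx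
  · rintro ⟨K, hK⟩
    obtain ⟨k, hk, hcomm⟩ := exists_commute_of_fixed_class G s hcop K hK
    have hkC : (k : Γ) ∈ C := (hC _).mpr ⟨k.2, hcomm.symm⟩
    refine ⟨ConjClasses.mk ⟨k, hkC⟩, ?_⟩
    apply Subtype.ext
    show ConjClasses.mk (ι ⟨k, hkC⟩) = K
    rw [← hk]
    rfl

end Count

section Final

variable {Γ : Type u} [Group Γ] [Fintype Γ]

theorem normal_of_sup_eq_top (G S : Subgroup Γ) (hnorm : ∀ s ∈ S, ∀ g ∈ G, s * g * s⁻¹ ∈ G) (htop : G ⊔ S = ⊤) :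
    G.Normal := by
  have h1 : G ⊔ S ≤ Subgroup.normalizer (G : Set Γ) := by
    apply sup_le Subgroup.le_normalizer
    intro s hs
    rw [Subgroup.mem_normalizer_iff]
    intro x
    refine ⟨fun hx => hnorm s hs x hx, fun hx => ?_⟩
    have := hnorm s⁻¹ (S.inv_mem hs) _ hx
    simpa [mul_assoc] using this
  rw [htop] at h1
  exact ⟨fun x hx g => (Subgroup.mem_normalizer_iff.mp (h1 (Subgroup.mem_top g)) x).mp hx⟩

theorem exists_generator_of_cyclic (S : Subgroup Γ) (hcyc : IsCyclic S) : ∃ s : Γ, Subgroup.zpowers s = S := by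
  obtain ⟨g, hg⟩ := IsCyclic.exists_generator (α := S)
  refine ⟨g, le_antisymm ((Subgroup.zpowers_le).mpr g.2) ?_⟩
  intro x hx
  obtain ⟨k, hk⟩ := Subgroup.mem_zpowers_iff.mp (hg ⟨x, hx⟩)
  refine Subgroup.mem_zpowers_iff.mpr ⟨k, ?_⟩
  have := congrArg Subtype.val hk
  simpa using this

theorem sign_unique {A : Type u} [Group A] [Fintype A] (β β' : IrrCharacter A) (ε ε' : ℤ) (hε : ε = 1 ∨ ε = -1)
    (hε' : ε' = 1 ∨ ε' = -1) (h : ∀ c, (ε : ℂ) * (β : A → ℂ) c = (ε' : ℂ) * (β' : A → ℂ) c) : β = β' ∧ ε = ε' := by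
  obtain ⟨n, hn, hn'⟩ := β.2.map_one
  obtain ⟨m, hm, hm'⟩ := β'.2.map_one
  have h1 := h 1
  rw [hn', hm'] at h1
  have h2 : ε * (n : ℤ) = ε' * m := by exact_mod_cast h1
  have hεε : ε = ε' := by
    rcases hε with rfl | rfl <;> rcases hε' with rfl | rfl
    · rfl
    · omega
    · omega
    · rfl
  refine ⟨?_, hεε⟩
  apply Subtype.ext
  funext c
  have h3 := h c
  rw [hεε] at h3
  have h4 : (ε' : ℂ) ≠ 0 := by
    rcases hε' with rfl | rfl <;> simp
  exact mul_left_cancel₀ h4 h3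

/-- S4446 -/
theorem glauberman_cyclic (G S : Subgroup Γ) [Fintype G] (hnorm : ∀ s ∈ S, ∀ g ∈ G, s * g * s⁻¹ ∈ G)
    (hcop : (Nat.card G).Coprime (Nat.card S)) (htop : G ⊔ S = ⊤) (hcyc : IsCyclic S) (C : Subgroup Γ) [Fintype C]
    (hC : C = G ⊓ Subgroup.centralizer (S : Set Γ)) (hCG : C ≤ G) :
    (∀ (χ : IrrCharacter G) (χh : IrrCharacter Γ),
      (∀ s ∈ S, ∀ g g' : G, (g' : Γ) = s * g * s⁻¹ → (χ : G → ℂ) g' = (χ : G → ℂ) g) →
      (∀ g : G, (χh : Γ → ℂ) g = (χ : G → ℂ) g) → (detOrder (χh : Γ → ℂ)).Coprime (Nat.card S) →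
      (∃! βε : IrrCharacter C × ℤ, (βε.2 = 1 ∨ βε.2 = -1) ∧ ∀ c : C, ∀ s : Γ, Subgroup.zpowers s = S →
          (χh : Γ → ℂ) ((c : Γ) * s) = (βε.2 : ℂ) * (βε.1 : C → ℂ) c) ∧
      ∀ β : IrrCharacter C, ∀ ε : ℤ, (ε = 1 ∨ ε = -1) →
        (∀ c : C, ∀ s : Γ, Subgroup.zpowers s = S → (χh : Γ → ℂ) ((c : Γ) * s) = (ε : ℂ) * (β : C → ℂ) c) →
        classInner (fun c : C => (χ : G → ℂ) ⟨c, hCG c.2⟩) (β : C → ℂ) ≠ 0) ∧
    (∀ (χ χ' : IrrCharacter G) (χh χh' : IrrCharacter Γ),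
      (∀ s ∈ S, ∀ g g' : G, (g' : Γ) = s * g * s⁻¹ → (χ : G → ℂ) g' = (χ : G → ℂ) g) →
      (∀ s ∈ S, ∀ g g' : G, (g' : Γ) = s * g * s⁻¹ → (χ' : G → ℂ) g' = (χ' : G → ℂ) g) →
      (∀ g : G, (χh : Γ → ℂ) g = (χ : G → ℂ) g) → (∀ g : G, (χh' : Γ → ℂ) g = (χ' : G → ℂ) g) →
      (detOrder (χh : Γ → ℂ)).Coprime (Nat.card S) → (detOrder (χh' : Γ → ℂ)).Coprime (Nat.card S) →
      ∀ β : IrrCharacter C, ∀ ε ε' : ℤ, (ε = 1 ∨ ε = -1) → (ε' = 1 ∨ ε' = -1) →
      (∀ c : C, ∀ s : Γ, Subgroup.zpowers s = S → (χh : Γ → ℂ) ((c : Γ) * s) = (ε : ℂ) * (β : C → ℂ) c) →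
      (∀ c : C, ∀ s : Γ, Subgroup.zpowers s = S → (χh' : Γ → ℂ) ((c : Γ) * s) = (ε' : ℂ) * (β : C → ℂ) c) →
      χ = χ') ∧
    (∀ β : IrrCharacter C, ∃ (χ : IrrCharacter G) (χh : IrrCharacter Γ) (ε : ℤ),
      (∀ s ∈ S, ∀ g g' : G, (g' : Γ) = s * g * s⁻¹ → (χ : G → ℂ) g' = (χ : G → ℂ) g) ∧
      (∀ g : G, (χh : Γ → ℂ) g = (χ : G → ℂ) g) ∧ (detOrder (χh : Γ → ℂ)).Coprime (Nat.card S) ∧
      (ε = 1 ∨ ε = -1) ∧
      ∀ c : C, ∀ s : Γ, Subgroup.zpowers s = S → (χh : Γ → ℂ) ((c : Γ) * s) = (ε : ℂ) * (β : C → ℂ) c) := by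
  classical
  haveI hG : G.Normal := normal_of_sup_eq_top G S hnorm htop
  obtain ⟨s, hs⟩ := exists_generator_of_cyclic S hcyc
  have hsS : s ∈ S := hs ▸ Subgroup.mem_zpowers s
  have hC' : ∀ x, x ∈ C ↔ x ∈ G ∧ x * s = s * x := by
    intro x
    rw [hC, Subgroup.mem_inf, Subgroup.mem_centralizer_iff]
    constructor
    · rintro ⟨h1, h2⟩
      exact ⟨h1, (h2 s hsS).symm⟩
    · rintro ⟨h1, h2⟩
      refine ⟨h1, fun h hh => ?_⟩
      rw [SetLike.mem_coe, ← hs] at hh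
      obtain ⟨k, rfl⟩ := Subgroup.mem_zpowers_iff.mp hh
      have : Commute x s := h2
      exact (this.zpow_right k).eq.symm
  have hd : CorrData G S C s := ⟨hcop, hs, htop, hCG, hC'⟩
  have hresχ : ∀ (χ : IrrCharacter G) (χh : IrrCharacter Γ), (∀ g : G, (χh : Γ → ℂ) g = (χ : G → ℂ) g) →
      IsIrrCharacter G (fun g : G => (χh : Γ → ℂ) g) := by
    intro χ χh h
    have : (fun g : G => (χh : Γ → ℂ) g) = (χ : G → ℂ) := funext h
    rw [this]
    exact χ.2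
  have hpart2 : ∀ (χ χ' : IrrCharacter G) (χh χh' : IrrCharacter Γ),
      (∀ g : G, (χh : Γ → ℂ) g = (χ : G → ℂ) g) → (∀ g : G, (χh' : Γ → ℂ) g = (χ' : G → ℂ) g) →
      ∀ β : IrrCharacter C, ∀ ε ε' : ℤ, (ε = 1 ∨ ε = -1) → (ε' = 1 ∨ ε' = -1) →
      (∀ c : C, ∀ s : Γ, Subgroup.zpowers s = S → (χh : Γ → ℂ) ((c : Γ) * s) = (ε : ℂ) * (β : C → ℂ) c) →
      (∀ c : C, ∀ s : Γ, Subgroup.zpowers s = S → (χh' : Γ → ℂ) ((c : Γ) * s) = (ε' : ℂ) * (β : C → ℂ) c) →
      χ = χ' := by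
    intro χ χ' χh χh' h1 h2 β ε ε' hε hε' h3 h4
    by_contra hne
    have hne' : (fun g : G => (χh : Γ → ℂ) g) ≠ (fun g : G => (χh' : Γ → ℂ) g) := by
      intro h5
      apply hne
      apply Subtype.ext
      funext g
      have := congrFun h5 g
      simp only [h1, h2] at this
      exact this
    have h5 := hd.orth χh.2 (hresχ χ χh h1) χh'.2 (hresχ χ' χh' h2) hne'
    have h6 : (fun c : C => (χh : Γ → ℂ) ((c : Γ) * s)) = (ε : ℂ) • (β : C → ℂ) := by
      funext c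
      simp [h3 c s hs]
    have h7 : (fun c : C => (χh' : Γ → ℂ) ((c : Γ) * s)) = (ε' : ℂ) • (β : C → ℂ) := by
      funext c
      simp [h4 c s hs]
    rw [h6, h7, classInner_smul_left, classInner_smul_right, classInner_irr_self β.2] at h5
    have h8 : (ε : ℂ) ≠ 0 := by rcases hε with rfl | rfl <;> simp
    have h9 : (ε' : ℂ) ≠ 0 := by rcases hε' with rfl | rfl <;> simp
    simp [h8, h9] at h5
  refine ⟨?_, ?_, ?_⟩
  · intro χ χh hinv hext hdet
    obtain ⟨β, ε, hε, hval, hcons⟩ := hd.exists_corr χh.2 (hresχ χ χh hext) hdet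
    have huniq : ∀ (β' : IrrCharacter C) (ε' : ℤ), (ε' = 1 ∨ ε' = -1) →
        (∀ c : C, ∀ s : Γ, Subgroup.zpowers s = S → (χh : Γ → ℂ) ((c : Γ) * s) = (ε' : ℂ) * (β' : C → ℂ) c) →
        β' = β ∧ ε' = ε := by
      intro β' ε' hε' hval'
      apply sign_unique β' β ε' ε hε' hε
      intro c
      rw [← hval' c s hs, hval c s hs]
    refine ⟨⟨(β, ε), ⟨hε, hval⟩, ?_⟩, ?_⟩
    · rintro ⟨β', ε'⟩ ⟨h1, h2⟩
      obtain ⟨h3, h4⟩ := huniq β' ε' h1 h2
      rw [h3, h4]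
    · intro β' ε' hε' hval'
      obtain ⟨rfl, rfl⟩ := huniq β' ε' hε' hval'
      have h1 : (fun c : C => (χ : G → ℂ) ⟨c, hCG c.2⟩) = fun c : C => (χh : Γ → ℂ) c := by
        funext c
        rw [← hext]
      rw [h1]
      exact hcons
  · intro χ χ' χh χh' _ _ h1 h2 _ _ β ε ε' hε hε' h3 h4
    exact hpart2 χ χ' χh χh' h1 h2 β ε ε' hε hε' h3 h4
  · -- surjectivity by counting
    have hdata : ∀ χ : {χ : IrrCharacter G // ∀ s ∈ S, ∀ g g' : G, (g' : Γ) = s * g * s⁻¹ →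
        (χ : G → ℂ) g' = (χ : G → ℂ) g}, ∃ (χh : IrrCharacter Γ) (β : IrrCharacter C) (ε : ℤ),
        (∀ g : G, (χh : Γ → ℂ) g = (χ.1 : G → ℂ) g) ∧ (detOrder (χh : Γ → ℂ)).Coprime (Nat.card S) ∧
        (ε = 1 ∨ ε = -1) ∧
        ∀ c : C, ∀ s : Γ, Subgroup.zpowers s = S → (χh : Γ → ℂ) ((c : Γ) * s) = (ε : ℂ) * (β : C → ℂ) c := by
      rintro ⟨χ, hinv⟩
      obtain ⟨d, hd0, hdχ⟩ := χ.2.map_one
      have hinv' : ∀ (x : Γ) (n : G), (χ : G → ℂ) ⟨x * n * x⁻¹, hG.conj_mem (n : Γ) n.2 x⟩ = (χ : G → ℂ) n := by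
        intro x n
        have hx : x ∈ G ⊔ S := by
          rw [htop]
          trivial
        obtain ⟨g, hg, t, ht, rfl⟩ := Subgroup.mem_sup_of_normal_left.mp hx
        have h1 : (χ : G → ℂ) ⟨t * n * t⁻¹, hG.conj_mem (n : Γ) n.2 t⟩ = (χ : G → ℂ) n := hinv t ht n _ rfl
        rw [← h1]
        have h2 := χ.2.isClassFunction ⟨t * n * t⁻¹, hG.conj_mem (n : Γ) n.2 t⟩ ⟨g, hg⟩
        rw [← h2]
        apply congrArg (χ : G → ℂ)
        apply Subtype.ext
        simp only [Subgroup.coe_mul, InvMemClass.coe_inv]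
        group
      have hidx := hd.index
      have hcopG : Nat.Coprime (Nat.card G) G.index := by
        rw [hidx]
        exact hcop
      have hcop' : Nat.Coprime G.index (detOrder (χ : G → ℂ) * d) := by
        apply Nat.Coprime.mul_right
        · exact Nat.Coprime.coprime_dvd_right (detOrder_dvd_card χ.2.isCharacter) hcopG.symm
        · exact Nat.Coprime.coprime_dvd_right (degree_dvd_card χ.2 hdχ) hcopG.symm
      obtain ⟨χc, ⟨h1, h2, h3⟩, -⟩ := exists_unique_extension_of_coprime G (χ : G → ℂ) χ.2 hinv' d hdχ hcop'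
      have hdet : (detOrder χc).Coprime (Nat.card S) := by
        rw [h3]
        exact Nat.Coprime.coprime_dvd_left (detOrder_dvd_card χ.2.isCharacter) hcop
      have hres : ∀ g : G, ((⟨χc, h1⟩ : IrrCharacter Γ) : Γ → ℂ) g = (χ : G → ℂ) g := h2
      obtain ⟨β, ε, hε, hval, -⟩ := hd.exists_corr h1 (hresχ χ ⟨χc, h1⟩ hres) hdet
      exact ⟨⟨χc, h1⟩, β, ε, hres, hdet, hε, hval⟩
    choose χhf βf εf hf1 hf2 hf3 hf4 using hdata
    have hinj : Function.Injective βf := by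
      intro a b hab
      apply Subtype.ext
      apply hpart2 a.1 b.1 (χhf a) (χhf b) (hf1 a) (hf1 b) (βf a) (εf a) (εf b) (hf3 a) (hf3 b) (hf4 a)
      rw [hab]
      exact hf4 b
    have hsG : Nat.Coprime (orderOf s) (Nat.card G) := hd.cop.symm
    let α : G ≃* G := (MulAut.conjNormal s : MulAut G)
    have hαapp : ∀ g : G, ((α g : G) : Γ) = s * g * s⁻¹ := fun g => MulAut.conjNormal_apply s g
    have hcount := card_fixed_classes_eq_card_fixed_irr α
    have hclasses := card_fixed_classes_eq_classes G C s hsG hCG hC'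
    have hcard : Nat.card {χ : IrrCharacter G // ∀ s ∈ S, ∀ g g' : G, (g' : Γ) = s * g * s⁻¹ →
        (χ : G → ℂ) g' = (χ : G → ℂ) g} = Nat.card (IrrCharacter C) := by
      rw [card_irr_eq, ← hclasses, show (ConjClasses.map (MulEquiv.toMonoidHom (MulAut.conjNormal s : MulAut G)) : ConjClasses G → ConjClasses G) = ConjClasses.map α.toMonoidHom from rfl, hcount]
      apply Nat.card_congr
      apply Equiv.subtypeEquivRight
      intro χ
      constructor
      · intro h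
        funext g
        exact h s hsS g (α g) (hαapp g)
      · intro h t ht g g' hg'
        rw [← hs] at ht
        obtain ⟨k, hk⟩ := (mem_powers_iff_mem_zpowers (x := s) (y := t)).mpr ht
        subst hk
        have key : ∀ (k : ℕ) (g : G), (χ : G → ℂ) ⟨s ^ k * g * (s ^ k)⁻¹, hG.conj_mem (g : Γ) g.2 _⟩ = (χ : G → ℂ) g := by
          intro k
          induction k with
          | zero =>
            intro g
            apply congrArg (χ : G → ℂ)
            apply Subtype.ext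
            simp
          | succ k ih =>
            intro g
            have h1 := congrFun h ⟨s ^ k * g * (s ^ k)⁻¹, hG.conj_mem (g : Γ) g.2 _⟩
            rw [Function.comp_apply, ih g] at h1
            rw [← h1]
            apply congrArg (χ : G → ℂ)
            apply Subtype.ext
            rw [hαapp]
            simp only
            rw [pow_succ']
            group
        have h3 : g' = ⟨s ^ k * g * (s ^ k)⁻¹, hG.conj_mem (g : Γ) g.2 _⟩ := Subtype.ext hg'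
        rw [h3]
        exact key k g
    have hbij := hinj.bijective_of_nat_card_le hcard.ge
    intro β
    obtain ⟨a, rfl⟩ := hbij.2 β
    exact ⟨a.1, χhf a, εf a, a.2, hf1 a, hf2 a, hf3 a, hf4 a⟩

end Final

end CfsgLib.Char
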