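import Mathlib
import Cfsg.Agent.Lib.Char.GlaubCorr4

/-!
# The Glauberman correspondence: multiplicity congruence and compatibility in the cyclic case
-/

set_option linter.unusedSectionVars false
set_option linter.style.haveILetI false
set_option linter.unusedSimpArgs false
set_option linter.unusedVariables false

namespace CfsgLib.Char

open Cfsg
open scoped ComplexConjugate Pointwise

universe u

section Main

variable {Γ : Type u} [Group Γ] [Fintype Γ] {G S C : Subgroup Γ} [hG : G.Normal] [Fintype G] [Fintype C]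
  {s : Γ} (hd : CorrData G S C s)

include hd

/-- The functional `u ↦ [τ(· u), β]` on `S` is a character of `S`. -/
theorem CorrData.coset_char {τ : Γ → ℂ} (hτ : IsCharacter Γ τ) {β : C → ℂ} (hβ : IsIrrCharacter C β) [Fintype S] :
    ∃ E : S → ℂ, IsCharacter S E ∧ ∀ u : S, E u = classInner (fun c : C => τ ((c : Γ) * (u : Γ))) β := by
  classical
  have hcomm : ∀ (c : C) (u : S), Commute (C.subtype c) (S.subtype u) := fun c u => hd.commC c.2 u.2
  let ι : C × S →* Γ := MonoidHom.noncommCoprod C.subtype S.subtype hcomm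
  have hScomm : ∀ a b : S, a * b = b * a := by
    intro a b
    obtain ⟨a, ha⟩ := a
    obtain ⟨b, hb⟩ := b
    apply Subtype.ext
    show a * b = b * a
    rw [← hd.hs] at ha hb
    obtain ⟨i, rfl⟩ := Subgroup.mem_zpowers_iff.mp ha
    obtain ⟨j, rfl⟩ := Subgroup.mem_zpowers_iff.mp hb
    exact (Commute.zpow_zpow_self s i j).eq
  obtain ⟨γ, l, hγ, hdec⟩ := exists_tensor_decomp hScomm (hτ.comp ι)
  have hdec' : ∀ (c : C) (u : S), τ ((c : Γ) * (u : Γ)) = ∑ i, γ i c * ((l i u : ℂˣ) : ℂ) := fun c u => hdec c u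
  choose n hn using fun i => (hγ i).classInner_nat hβ
  refine ⟨∑ i, (n i) • (fun u : S => ((l i u : ℂˣ) : ℂ)),
    IsCharacter.sum _ _ fun i _ => ((isIrr_of_hom (l i)).isCharacter).nsmul _, ?_⟩
  intro u
  have h1 : (fun c : C => τ ((c : Γ) * (u : Γ))) = ∑ i, ((l i u : ℂˣ) : ℂ) • γ i := by
    funext c
    simp only [Finset.sum_apply, Pi.smul_apply, smul_eq_mul]
    rw [hdec']
    exact Finset.sum_congr rfl fun i _ => mul_comm _ _
  rw [h1, classInner_sum_left, Finset.sum_apply]
  refine Finset.sum_congr rfl fun i _ => ?_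
  show (n i • fun u : S => ((l i u : ℂˣ) : ℂ)) u = _
  rw [Pi.smul_apply, nsmul_eq_mul, classInner_smul_left, hn i]
  ring

/-- The multiplicity congruence for a cyclic `p`-group of operators. -/
theorem CorrData.mult_congr (p a : ℕ) (hp : p.Prime) (hord : Nat.card S = p ^ a) {χ : Γ → ℂ}
    (hχ : IsCharacter Γ χ) {β : IrrCharacter C} {ε : ℤ}
    (hval : ∀ c : C, χ ((c : Γ) * s) = (ε : ℂ) * (β : C → ℂ) c) (β' : IrrCharacter C) :
    ∃ N : ℕ, classInner (fun c : C => χ c) (β' : C → ℂ) = N ∧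
      (p : ℤ) ∣ (N : ℤ) - ε * (if β' = β then 1 else 0) := by
  classical
  letI : Fintype S := Fintype.ofFinite _
  obtain ⟨E, hE, hEv⟩ := hd.coset_char hχ β'.2
  have hnat : ∃ N : ℕ, classInner (fun c : C => χ c) (β' : C → ℂ) = N := by
    have h := (hχ.comp C.subtype).classInner_nat β'.2
    exact h
  obtain ⟨N, hN⟩ := hnat
  refine ⟨N, hN, ?_⟩
  let s₀ : S := ⟨s, hd.smem⟩
  have hE1 : E 1 = N := by
    rw [hEv, ← hN]
    congr 1
    funext c
    simp
  have hEs : E s₀ = ((ε * (if β' = β then 1 else 0) : ℤ) : ℂ) := by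
    rw [hEv]
    have h1 : (fun c : C => χ ((c : Γ) * ((s₀ : S) : Γ))) = (ε : ℂ) • (β : C → ℂ) := by
      funext c
      simp only [Pi.smul_apply, smul_eq_mul]
      exact hval c
    rw [h1, classInner_smul_left]
    by_cases h : β' = β
    · rw [h, if_pos rfl, classInner_irr_self β.2]
      simp
    · have h2 : (β : C → ℂ) ≠ (β' : C → ℂ) := fun h3 => h (Subtype.ext h3.symm)
      rw [if_neg h, classInner_irr_ne β.2 β'.2 h2]
      simp
  cases a with
  | zero =>
    have h1 : s₀ = 1 := by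
      have : Subsingleton S := (Nat.card_eq_one_iff_unique.mp (by simpa using hord)).1
      exact Subsingleton.elim _ _
    have h2 : E 1 = E s₀ := by rw [h1]
    rw [hE1, hEs] at h2
    have h3 : (N : ℤ) = ε * (if β' = β then 1 else 0) := by exact_mod_cast h2
    rw [h3]
    simp
  | succ a =>
    have h1 : s₀ ^ (p ^ (a + 1)) = 1 := by
      rw [← hord]
      exact pow_card_eq_one'
    obtain ⟨ω, hω, h2⟩ := character_one_sub_value hE s₀ (p ^ (a + 1)) (pow_pos hp.pos _) h1
    rw [hE1, hEs] at h2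
    apply prime_dvd_int_of_mul_one_sub_pow p a hp _ ω hω
    rw [← h2]
    push_cast
    ring

/-- If the coset inner product of a character with a canonical extension does not vanish then neither does
the inner product over `G`. -/
theorem CorrData.compat_char {τ θh : Γ → ℂ} (hτ : IsCharacter Γ τ) (hθ : IsIrrCharacter Γ θh)
    (hres : IsIrrCharacter G (fun g : G => θh g))
    (h : classInner (fun c : C => τ ((c : Γ) * s)) (fun c : C => θh ((c : Γ) * s)) ≠ 0) :
    classInner (fun g : G => τ g) (fun g : G => θh g) ≠ 0 := by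
  classical
  intro h0
  apply h
  rw [hd.inner_coset τ θh hτ.isClassFunction hθ.isClassFunction]
  obtain ⟨a, ha⟩ := hτ.exists_coeff
  -- the inner product over `G` vanishes on each constituent
  have hnat : ∀ ψ : IrrCharacter Γ, ∃ n : ℕ, classInner (fun g : G => (ψ : Γ → ℂ) g) (fun g : G => θh g) = n :=
    fun ψ => (ψ.2.isCharacter.comp G.subtype).classInner_nat hres
  choose n hn using hnat
  have hsum : (fun g : G => τ g) = ∑ ψ : IrrCharacter Γ, a ψ • (fun g : G => (ψ : Γ → ℂ) g) := by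
    funext g
    rw [ha]
    simp [Finset.sum_apply]
  rw [hsum, classInner_sum_left] at h0
  have h1 : ∀ ψ, a ψ * n ψ = 0 := by
    have h2 : ∑ ψ, a ψ * n ψ = 0 := by
      have h3 : ∑ ψ, classInner (a ψ • fun g : G => (ψ : Γ → ℂ) g) (fun g : G => θh g) =
          ((∑ ψ, a ψ * n ψ : ℕ) : ℂ) := by
        push_cast
        refine Finset.sum_congr rfl fun ψ _ => ?_
        rw [← Nat.cast_smul_eq_nsmul ℂ, classInner_smul_left, hn ψ]
      rw [h3] at h0
      exact_mod_cast h0
    intro ψ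
    exact (Finset.sum_eq_zero_iff.mp h2) ψ (Finset.mem_univ ψ)
  have h4 : ∀ ψ : IrrCharacter Γ, ((a ψ : ℂ)) * ((Nat.card G : ℂ)⁻¹ *
      ∑ g : G, (ψ : Γ → ℂ) ((g : Γ) * s) * conj (θh ((g : Γ) * s))) = 0 := by
    intro ψ
    by_cases hψ : a ψ = 0
    · simp [hψ]
    · have h5 : n ψ = 0 := (Nat.mul_eq_zero.mp (h1 ψ)).resolve_left hψ
      have h6 := (coset_average G hθ hres ψ.2 rfl).2.1 (by rw [hn ψ, h5]; simp)
      have h7 := congrFun h6 s
      simp only [Pi.zero_apply] at h7
      rw [h7, mul_zero]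
  have h8 : (Nat.card G : ℂ)⁻¹ * ∑ g : G, τ ((g : Γ) * s) * conj (θh ((g : Γ) * s)) =
      ∑ ψ : IrrCharacter Γ, ((a ψ : ℂ)) * ((Nat.card G : ℂ)⁻¹ *
        ∑ g : G, (ψ : Γ → ℂ) ((g : Γ) * s) * conj (θh ((g : Γ) * s))) := by
    have hτv : ∀ y, τ y = ∑ ψ : IrrCharacter Γ, (a ψ : ℂ) * (ψ : Γ → ℂ) y := by
      intro y
      rw [ha, Finset.sum_apply]
      refine Finset.sum_congr rfl fun ψ _ => ?_
      show (a ψ • (ψ : Γ → ℂ)) y = _
      rw [Pi.smul_apply, nsmul_eq_mul]
    simp only [hτv, Finset.sum_mul, Finset.mul_sum]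
    rw [Finset.sum_comm]
    refine Finset.sum_congr rfl fun ψ _ => Finset.sum_congr rfl fun g _ => ?_
    ring
  rw [h8]
  exact Finset.sum_eq_zero fun ψ _ => h4 ψ

end Main

end CfsgLib.Char
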