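import Mathlib
import Cfsg.Agent.Lib.Char.GlaubP1

/-!
# The Glauberman correspondence: the cyclic step inside a fixed ambient group
-/

set_option linter.unusedSectionVars false
set_option linter.style.haveILetI false
set_option linter.unusedSimpArgs false
set_option linter.unusedVariables false

namespace CfsgLib.Char

open Cfsg
open scoped ComplexConjugate Pointwise

universe u

namespace GP

/-- Every subgroup of a finite group is given its `Fintype` structure through `Finite`. -/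
noncomputable scoped instance subFin {X : Type*} [Group X] [Finite X] (H : Subgroup X) : Fintype H :=
  Fintype.ofFinite H

section Canon

variable {Γ : Type u} [Group Γ] [Fintype Γ] {G S C : Subgroup Γ} [hG : G.Normal] [Fintype G] [Fintype C]
  {s : Γ} (hd : CorrData G S C s)

include hd

/-- The canonical extension exists. -/
theorem canon_ext (χ : IrrCharacter G)
    (hinv : ∀ t ∈ S, ∀ g g' : G, (g' : Γ) = t * g * t⁻¹ → (χ : G → ℂ) g' = (χ : G → ℂ) g) :
    ∃ χh : IrrCharacter Γ, (∀ g : G, (χh : Γ → ℂ) g = (χ : G → ℂ) g) ∧ (detOrder (χh : Γ → ℂ)).Coprime (Nat.card S) := by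
  classical
  obtain ⟨d, hd0, hdχ⟩ := χ.2.map_one
  have hinv' : ∀ (x : Γ) (n : G), (χ : G → ℂ) ⟨x * n * x⁻¹, hG.conj_mem (n : Γ) n.2 x⟩ = (χ : G → ℂ) n := by
    intro x n
    have hx : x ∈ G ⊔ S := by
      rw [hd.htop]
      trivial
    obtain ⟨g, hg, t, ht, rfl⟩ := Subgroup.mem_sup_of_normal_left.mp hx
    have h1 : (χ : G → ℂ) ⟨t * n * t⁻¹, hG.conj_mem (n : Γ) n.2 t⟩ = (χ : G → ℂ) n := hinv t ht n _ rfl
    rw [← h1]
    have h2 := χ.2.isClassFunction ⟨t * n * t⁻¹, hG.conj_mem (n : Γ) n.2 t⟩ ⟨g, hg⟩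
    rw [← h2]
    apply congrArg (χ : G → ℂ)
    apply Subtype.ext
    simp only [Subgroup.coe_mul, InvMemClass.coe_inv]
    group
  have hidx := hd.index
  have hcopG : Nat.Coprime (Nat.card G) G.index := by
    rw [hidx]
    exact hd.hcop
  have hcop' : Nat.Coprime G.index (detOrder (χ : G → ℂ) * d) := by
    apply Nat.Coprime.mul_right
    · exact Nat.Coprime.coprime_dvd_right (detOrder_dvd_card χ.2.isCharacter) hcopG.symm
    · exact Nat.Coprime.coprime_dvd_right (degree_dvd_card χ.2 hdχ) hcopG.symm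
  obtain ⟨χc, ⟨h1, h2, h3⟩, -⟩ := exists_unique_extension_of_coprime G (χ : G → ℂ) χ.2 hinv' d hdχ hcop'
  have hdet : (detOrder χc).Coprime (Nat.card S) := by
    rw [h3]
    exact Nat.Coprime.coprime_dvd_left (detOrder_dvd_card χ.2.isCharacter) hd.hcop
  exact ⟨⟨χc, h1⟩, h2, hdet⟩

end Canon

section Amb

variable {Γ : Type u} [Group Γ] [Finite Γ] (A : Subgroup Γ) (z : Γ)

/-- the ambient subgroup generated by `A` and `z` -/
abbrev ambS : Subgroup Γ := A ⊔ Subgroup.zpowers z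

/-- `z` as an element of the ambient group -/
def ambZ : ambS A z := ⟨z, Subgroup.mem_sup_right (Subgroup.mem_zpowers z)⟩

/-- `A` inside the ambient group -/
abbrev ambA : Subgroup (ambS A z) := A.subgroupOf (ambS A z)

/-- `⟨z⟩` inside the ambient group -/
abbrev ambP : Subgroup (ambS A z) := (Subgroup.zpowers z).subgroupOf (ambS A z)

/-- the fixed points of `z` on `A` -/
abbrev fixZ : Subgroup Γ := A ⊓ Subgroup.centralizer ({z} : Set Γ)

/-- the fixed points inside the ambient group -/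
abbrev ambC : Subgroup (ambS A z) := (fixZ A z).subgroupOf (ambS A z)

theorem fixZ_le : fixZ A z ≤ A := inf_le_left

theorem fixZ_le_amb : fixZ A z ≤ ambS A z := inf_le_left.trans le_sup_left

/-- the equivalence of `A` with its copy -/
noncomputable abbrev eA : ambA A z ≃* A := Subgroup.subgroupOfEquivOfLe le_sup_left

/-- the equivalence of the fixed points with their copy -/
noncomputable abbrev eC : ambC A z ≃* fixZ A z := Subgroup.subgroupOfEquivOfLe (fixZ_le_amb A z)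

theorem amb_normal (hz : z ∈ Subgroup.normalizer (A : Set Γ)) : (ambA A z).Normal := by
  apply (Subgroup.normal_subgroupOf_iff_le_normalizer le_sup_left).mpr
  apply sup_le Subgroup.le_normalizer
  exact (Subgroup.zpowers_le).mpr hz

theorem ambZ_zpowers : Subgroup.zpowers (ambZ A z) = ambP A z := by
  ext x
  rw [Subgroup.mem_zpowers_iff]
  show _ ↔ (x : Γ) ∈ Subgroup.zpowers z
  rw [Subgroup.mem_zpowers_iff]
  constructor
  · rintro ⟨k, rfl⟩
    exact ⟨k, rfl⟩
  · rintro ⟨k, hk⟩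
    exact ⟨k, Subtype.ext hk⟩

theorem card_ambA : Nat.card (ambA A z) = Nat.card A := Nat.card_congr (eA A z).toEquiv

theorem card_ambP : Nat.card (ambP A z) = orderOf z := by
  rw [← Nat.card_zpowers]
  exact Nat.card_congr (Subgroup.subgroupOfEquivOfLe le_sup_right).toEquiv

theorem amb_top : ambA A z ⊔ ambP A z = ⊤ := by
  rw [← Subgroup.subgroupOf_sup le_sup_left le_sup_right, Subgroup.subgroupOf_self]

/-- the data of the cyclic correspondence -/
theorem amb_data (hz : z ∈ Subgroup.normalizer (A : Set Γ)) (hcop : (Nat.card A).Coprime (orderOf z)) :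
    haveI := amb_normal A z hz
    CorrData (ambA A z) (ambP A z) (ambC A z) (ambZ A z) := by
  haveI := amb_normal A z hz
  refine ⟨?_, ambZ_zpowers A z, amb_top A z, ?_, ?_⟩
  · rw [card_ambA, card_ambP]
    exact hcop
  · intro x hx
    exact hx.1
  · intro x
    show (x : Γ) ∈ fixZ A z ↔ (x : Γ) ∈ A ∧ _
    rw [Subgroup.mem_inf, Subgroup.mem_centralizer_singleton_iff]
    constructor
    · rintro ⟨h1, h2⟩
      exact ⟨h1, Subtype.ext h2⟩
    · rintro ⟨h1, h2⟩
      exact ⟨h1, congrArg Subtype.val h2⟩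

/-- the `z`-invariant characters -/
def ZInv (χ : IrrCharacter A) : Prop := ∀ g g' : A, (g' : Γ) = z * g * z⁻¹ → (χ : A → ℂ) g' = (χ : A → ℂ) g

/-- The relation of the cyclic correspondence. -/
def CycRel (χ : IrrCharacter A) (β : IrrCharacter (fixZ A z)) (ε : ℤ) : Prop :=
  ∃ χh : IrrCharacter (ambS A z),
    (∀ g : A, (χh : ambS A z → ℂ) ⟨g, Subgroup.mem_sup_left g.2⟩ = (χ : A → ℂ) g) ∧
    (detOrder (χh : ambS A z → ℂ)).Coprime (orderOf z) ∧
    ∀ c : fixZ A z, (χh : ambS A z → ℂ) (⟨c, fixZ_le_amb A z c.2⟩ * ambZ A z) = (ε : ℂ) * (β : fixZ A z → ℂ) c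

variable {A z}

theorem zinv_pow {χ : IrrCharacter A} (hz : z ∈ Subgroup.normalizer (A : Set Γ)) (h : ZInv A z χ) (k : ℕ) (g g' : A)
    (hg : (g' : Γ) = z ^ k * g * (z ^ k)⁻¹) : (χ : A → ℂ) g' = (χ : A → ℂ) g := by
  induction k generalizing g g' with
  | zero =>
    have : g' = g := by
      apply Subtype.ext
      rw [hg]
      simp
    rw [this]
  | succ k ih =>
    have h1 : z ^ k * (g : Γ) * (z ^ k)⁻¹ ∈ A := by
      have hn : z ^ k ∈ Subgroup.normalizer (A : Set Γ) := Subgroup.pow_mem _ hz k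
      exact (Subgroup.mem_normalizer_iff.mp hn _).mp g.2
    rw [← ih g ⟨_, h1⟩ rfl]
    apply h ⟨_, h1⟩ g'
    rw [hg, pow_succ']
    simp only
    group

theorem zinv_of_amb {χ : IrrCharacter A} (hz : z ∈ Subgroup.normalizer (A : Set Γ)) (h : ZInv A z χ) :
    ∀ t ∈ ambP A z, ∀ g g' : ambA A z, (g' : ambS A z) = t * g * t⁻¹ →
      ((χ : A → ℂ) ∘ (eA A z)) g' = ((χ : A → ℂ) ∘ (eA A z)) g := by
  intro t ht g g' hg
  obtain ⟨t, ht'⟩ := t
  have ht2 : t ∈ Subgroup.zpowers z := ht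
  obtain ⟨k, hk⟩ := (mem_powers_iff_mem_zpowers (x := z) (y := t)).mpr ht2
  subst hk
  apply zinv_pow hz h k (eA A z g) (eA A z g')
  exact congrArg Subtype.val hg

/-- The transferred character. -/
theorem irr_eA (χ : IrrCharacter A) : IsIrrCharacter (ambA A z) ((χ : A → ℂ) ∘ (eA A z)) :=
  isIrr_comp_equiv (eA A z) χ.2

theorem irr_eC (β : IrrCharacter (fixZ A z)) : IsIrrCharacter (ambC A z) ((β : fixZ A z → ℂ) ∘ (eC A z)) :=
  isIrr_comp_equiv (eC A z) β.2

/-- F1: the correspondent exists. -/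
theorem exists_cycRel (hz : z ∈ Subgroup.normalizer (A : Set Γ)) (hcop : (Nat.card A).Coprime (orderOf z))
    (χ : IrrCharacter A) (hχ : ZInv A z χ) :
    ∃ (β : IrrCharacter (fixZ A z)) (ε : ℤ), (ε = 1 ∨ ε = -1) ∧ CycRel A z χ β ε := by
  classical
  haveI := amb_normal A z hz
  have hd := amb_data A z hz hcop
  obtain ⟨χh, hext, hdet⟩ := canon_ext hd ⟨_, irr_eA χ⟩ (zinv_of_amb hz hχ)
  have hres : IsIrrCharacter (ambA A z) (fun g : ambA A z => (χh : ambS A z → ℂ) g) := by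
    have : (fun g : ambA A z => (χh : ambS A z → ℂ) g) = (χ : A → ℂ) ∘ (eA A z) := funext hext
    rw [this]
    exact irr_eA χ
  obtain ⟨β, ε, hε, hval, -⟩ := hd.exists_corr χh.2 hres hdet
  refine ⟨⟨(β : ambC A z → ℂ) ∘ (eC A z).symm, isIrr_comp_equiv (eC A z).symm β.2⟩, ε, hε, χh, ?_, ?_, ?_⟩
  · intro g
    exact hext ((eA A z).symm g)
  · rw [← card_ambP]
    exact hdet
  · intro c
    exact hval ((eC A z).symm c) (ambZ A z) (ambZ_zpowers A z)

/-- F2: the multiplicity congruence. -/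
theorem cyc_mult (hz : z ∈ Subgroup.normalizer (A : Set Γ)) (hcop : (Nat.card A).Coprime (orderOf z))
    (p a : ℕ) (hp : p.Prime) (hord : orderOf z = p ^ a) {χ : IrrCharacter A} {β : IrrCharacter (fixZ A z)} {ε : ℤ}
    (h : CycRel A z χ β ε) (β' : IrrCharacter (fixZ A z)) :
    ∃ N : ℕ, classInner (fun c : fixZ A z => (χ : A → ℂ) ⟨c, c.2.1⟩) (β' : fixZ A z → ℂ) = N ∧
      (p : ℤ) ∣ (N : ℤ) - ε * (if β' = β then 1 else 0) := by
  classical
  haveI := amb_normal A z hz
  have hd := amb_data A z hz hcop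
  obtain ⟨χh, hext, hdet, hval⟩ := h
  have hinj : ∀ b b' : IrrCharacter (fixZ A z),
      ((⟨_, irr_eC b⟩ : IrrCharacter (ambC A z)) = ⟨_, irr_eC b'⟩) ↔ b = b' := by
    intro b b'
    constructor
    · intro h
      apply Subtype.ext
      funext c
      have h1 := congrFun (congrArg Subtype.val h) ((eC A z).symm c)
      simpa using h1
    · rintro rfl
      rfl
  obtain ⟨N, hN, hdvd⟩ := hd.mult_congr p a hp (by rw [card_ambP, hord]) χh.2.isCharacter
    (β := ⟨_, irr_eC β⟩) (ε := ε) (fun c => hval (eC A z c)) ⟨_, irr_eC β'⟩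
  refine ⟨N, ?_, ?_⟩
  · rw [← hN]
    have h1 : (fun c : ambC A z => (χh : ambS A z → ℂ) c) =
        (fun c : fixZ A z => (χ : A → ℂ) ⟨c, c.2.1⟩) ∘ (eC A z) := by
      funext c
      exact hext ⟨c.1.1, c.2.1⟩
    rw [h1]
    exact (classInner_comp_mulEquiv (eC A z) _ _).symm
  · by_cases hb : β' = β
    · rw [if_pos hb]
      rwa [if_pos ((hinj β' β).mpr hb)] at hdvd
    · rw [if_neg hb]
      rwa [if_neg (fun h => hb ((hinj β' β).mp h))] at hdvd

/-- F3: injectivity. -/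
theorem cyc_inj (hz : z ∈ Subgroup.normalizer (A : Set Γ)) (hcop : (Nat.card A).Coprime (orderOf z))
    {χ χ' : IrrCharacter A} {β : IrrCharacter (fixZ A z)} {ε ε' : ℤ} (hε : ε = 1 ∨ ε = -1) (hε' : ε' = 1 ∨ ε' = -1)
    (h : CycRel A z χ β ε) (h' : CycRel A z χ' β ε') : χ = χ' := by
  classical
  haveI := amb_normal A z hz
  have hd := amb_data A z hz hcop
  obtain ⟨χh, hext, -, hval⟩ := h
  obtain ⟨χh', hext', -, hval'⟩ := h'
  by_contra hne
  have h1 : (fun g : ambA A z => (χh : ambS A z → ℂ) g) = (χ : A → ℂ) ∘ (eA A z) := funext fun g => hext (eA A z g)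
  have h2 : (fun g : ambA A z => (χh' : ambS A z → ℂ) g) = (χ' : A → ℂ) ∘ (eA A z) := funext fun g => hext' (eA A z g)
  have hres : IsIrrCharacter (ambA A z) (fun g : ambA A z => (χh : ambS A z → ℂ) g) := by
    rw [h1]
    exact irr_eA χ
  have hres' : IsIrrCharacter (ambA A z) (fun g : ambA A z => (χh' : ambS A z → ℂ) g) := by
    rw [h2]
    exact irr_eA χ'
  have hne' : (fun g : ambA A z => (χh : ambS A z → ℂ) g) ≠ (fun g : ambA A z => (χh' : ambS A z → ℂ) g) := by
    rw [h1, h2]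
    intro h3
    apply hne
    apply Subtype.ext
    funext g
    have h4 := congrFun h3 ((eA A z).symm g)
    simpa using h4
  have h5 := hd.orth χh.2 hres χh'.2 hres' hne'
  have h6 : (fun c : ambC A z => (χh : ambS A z → ℂ) ((c : ambS A z) * ambZ A z)) =
      (ε : ℂ) • ((β : fixZ A z → ℂ) ∘ (eC A z)) := by
    funext c
    simp only [Pi.smul_apply, smul_eq_mul, Function.comp_apply]
    exact hval (eC A z c)
  have h7 : (fun c : ambC A z => (χh' : ambS A z → ℂ) ((c : ambS A z) * ambZ A z)) =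
      (ε' : ℂ) • ((β : fixZ A z → ℂ) ∘ (eC A z)) := by
    funext c
    simp only [Pi.smul_apply, smul_eq_mul, Function.comp_apply]
    exact hval' (eC A z c)
  rw [h6, h7, classInner_smul_left, classInner_smul_right, classInner_irr_self (irr_eC β)] at h5
  have h8 : (ε : ℂ) ≠ 0 := by rcases hε with rfl | rfl <;> simp
  have h9 : (ε' : ℂ) ≠ 0 := by rcases hε' with rfl | rfl <;> simp
  simp [h8, h9] at h5

/-- F4: surjectivity. -/
theorem cyc_surj (hz : z ∈ Subgroup.normalizer (A : Set Γ)) (hcop : (Nat.card A).Coprime (orderOf z))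
    (β : IrrCharacter (fixZ A z)) :
    ∃ (χ : IrrCharacter A) (ε : ℤ), ZInv A z χ ∧ (ε = 1 ∨ ε = -1) ∧ CycRel A z χ β ε := by
  classical
  haveI hn := amb_normal A z hz
  have hd := amb_data A z hz hcop
  have hnorm : ∀ s ∈ ambP A z, ∀ g ∈ ambA A z, s * g * s⁻¹ ∈ ambA A z := fun s _ g hg => hn.conj_mem g hg s
  have hcop' : (Nat.card (ambA A z)).Coprime (Nat.card (ambP A z)) := by
    rw [card_ambA, card_ambP]
    exact hcop
  have hcyc : IsCyclic (ambP A z) := by
    rw [← ambZ_zpowers]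
    infer_instance
  have hC : ambC A z = ambA A z ⊓ Subgroup.centralizer ((ambP A z : Subgroup (ambS A z)) : Set (ambS A z)) := by
    ext x
    constructor
    · intro hx
      refine ⟨hx.1, ?_⟩
      refine Subgroup.mem_centralizer_iff.mpr ?_
      intro t ht
      exact (hd.commC hx ht).symm
    · rintro ⟨h1, h2⟩
      exact (hd.hC x).mpr ⟨h1, ((Subgroup.mem_centralizer_iff.mp h2) _ hd.smem).symm⟩
  obtain ⟨χ', χh, ε, hinv, hext, hdet, hε, hval⟩ := (glauberman_cyclic (ambA A z) (ambP A z) hnorm hcop'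
    (amb_top A z) hcyc (ambC A z) hC hd.hCG).2.2 ⟨_, irr_eC β⟩
  refine ⟨⟨(χ' : ambA A z → ℂ) ∘ (eA A z).symm, isIrr_comp_equiv (eA A z).symm χ'.2⟩, ε, ?_, hε, χh, ?_, ?_, ?_⟩
  · intro g g' hg
    exact hinv (ambZ A z) hd.smem ((eA A z).symm g) ((eA A z).symm g') (Subtype.ext hg)
  · intro g
    exact hext ((eA A z).symm g)
  · rw [← card_ambP]
    exact hdet
  · intro c
    exact hval ((eC A z).symm c) (ambZ A z) (ambZ_zpowers A z)

/-- F5: compatibility with subgroups normalized by `z`. -/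
theorem cyc_compat {N : Subgroup Γ} (hNA : N ≤ A) (hzN : z ∈ Subgroup.normalizer (N : Set Γ))
    (hcop : (Nat.card N).Coprime (orderOf z))
    {χ : IrrCharacter A} {β₁ : IrrCharacter (fixZ A z)} {ε₁ : ℤ} (hε₁ : ε₁ = 1 ∨ ε₁ = -1) (h₁ : CycRel A z χ β₁ ε₁)
    {θ : IrrCharacter N} {θ₁ : IrrCharacter (fixZ N z)} {ε₂ : ℤ} (hε₂ : ε₂ = 1 ∨ ε₂ = -1) (h₂ : CycRel N z θ θ₁ ε₂)
    (hne : classInner (fun c : fixZ N z => (β₁ : fixZ A z → ℂ) ⟨c, hNA c.2.1, c.2.2⟩) (θ₁ : fixZ N z → ℂ) ≠ 0) :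
    classInner (fun n : N => (χ : A → ℂ) ⟨n, hNA n.2⟩) (θ : N → ℂ) ≠ 0 := by
  classical
  haveI := amb_normal N z hzN
  have hd := amb_data N z hzN hcop
  obtain ⟨χh, hext, -, hval⟩ := h₁
  obtain ⟨θh, hextθ, -, hvalθ⟩ := h₂
  have hle : ambS N z ≤ ambS A z := sup_le_sup_right hNA _
  let incl : ambS N z →* ambS A z := Subgroup.inclusion hle
  have hτ : IsCharacter (ambS N z) ((χh : ambS A z → ℂ) ∘ incl) := χh.2.isCharacter.comp incl
  have h2 : (fun g : ambA N z => (θh : ambS N z → ℂ) g) = (θ : N → ℂ) ∘ (eA N z) := funext fun g => hextθ (eA N z g)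
  have hres : IsIrrCharacter (ambA N z) (fun g : ambA N z => (θh : ambS N z → ℂ) g) := by
    rw [h2]
    exact irr_eA θ
  have key := hd.compat_char hτ θh.2 hres
  have h3 : (fun c : ambC N z => ((χh : ambS A z → ℂ) ∘ incl) ((c : ambS N z) * ambZ N z)) =
      (ε₁ : ℂ) • ((fun c : fixZ N z => (β₁ : fixZ A z → ℂ) ⟨c, hNA c.2.1, c.2.2⟩) ∘ (eC N z)) := by
    funext c
    simp only [Pi.smul_apply, smul_eq_mul, Function.comp_apply]
    exact hval ⟨c.1.1, hNA c.2.1, c.2.2⟩
  have h4 : (fun c : ambC N z => (θh : ambS N z → ℂ) ((c : ambS N z) * ambZ N z)) =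
      (ε₂ : ℂ) • ((θ₁ : fixZ N z → ℂ) ∘ (eC N z)) := by
    funext c
    simp only [Pi.smul_apply, smul_eq_mul, Function.comp_apply]
    exact hvalθ (eC N z c)
  have h5 : (fun g : ambA N z => ((χh : ambS A z → ℂ) ∘ incl) g) =
      (fun n : N => (χ : A → ℂ) ⟨n, hNA n.2⟩) ∘ (eA N z) := by
    funext g
    exact hext ⟨g.1.1, hNA g.2⟩
  have key2 := key (by
    rw [h3, h4, classInner_smul_left, classInner_smul_right, classInner_comp_mulEquiv]
    have h8 : (ε₁ : ℂ) ≠ 0 := by rcases hε₁ with rfl | rfl <;> simp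
    have h9 : (starRingEnd ℂ) (ε₂ : ℂ) ≠ 0 := by rcases hε₂ with rfl | rfl <;> simp
    exact mul_ne_zero h8 (mul_ne_zero h9 hne))
  rw [h5, h2, classInner_comp_mulEquiv] at key2
  exact key2

end Amb

end GP

end CfsgLib.Char
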