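import Mathlib
import Cfsg.Agent.Lib.Char.GlaubP2

/-!
# The Glauberman correspondence for operator groups acting as `p`-groups
-/

set_option linter.unusedSectionVars false
set_option linter.style.haveILetI false
set_option linter.unusedSimpArgs false
set_option linter.unusedVariables false

namespace CfsgLib.Char

open Cfsg
open scoped ComplexConjugate Pointwise

universe u

namespace GP

variable {Γ : Type u} [Group Γ] [Finite Γ]

/-- `S`-invariance of a character of `A`. -/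
def Inv (S A : Subgroup Γ) (χ : IrrCharacter A) : Prop :=
  ∀ s ∈ S, ∀ g g' : A, (g' : Γ) = s * g * s⁻¹ → (χ : A → ℂ) g' = (χ : A → ℂ) g

/-- Multiplicity prime to `p`. -/
def MultRel (p : ℕ) {A C : Subgroup Γ} (hCA : C ≤ A) (χ : IrrCharacter A) (β : IrrCharacter C) : Prop :=
  ∃ N : ℕ, classInner (fun c : C => (χ : A → ℂ) ⟨c, hCA c.2⟩) (β : C → ℂ) = N ∧ ¬ p ∣ N

/-- All multiplicities in `χ_C` are known modulo `p`. -/
def CongrRel (p : ℕ) {A C : Subgroup Γ} (hCA : C ≤ A) (χ : IrrCharacter A) (β : IrrCharacter C) (ε : ℤ) : Prop :=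
  ∀ β' : IrrCharacter C, ∃ N : ℕ, classInner (fun c : C => (χ : A → ℂ) ⟨c, hCA c.2⟩) (β' : C → ℂ) = N ∧
    (p : ℤ) ∣ (N : ℤ) - ε * (if β' = β then 1 else 0)

theorem sign_not_dvd {p : ℕ} (hp : p.Prime) {ε : ℤ} (hε : ε = 1 ∨ ε = -1) : ¬ (p : ℤ) ∣ ε := by
  intro h
  have h1 : (p : ℤ) ∣ 1 := by
    rcases hε with rfl | rfl
    · exact h
    · simpa using h
  have h2 : p ∣ 1 := by exact_mod_cast h1
  exact hp.one_lt.ne' (Nat.dvd_one.mp h2)

variable {p : ℕ} {A C : Subgroup Γ} {hCA : C ≤ A} {χ : IrrCharacter A} {β : IrrCharacter C} {ε : ℤ}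

theorem CongrRel.multRel (hp : p.Prime) (h : CongrRel p hCA χ β ε) (hε : ε = 1 ∨ ε = -1) : MultRel p hCA χ β := by
  obtain ⟨N, hN, hd⟩ := h β
  refine ⟨N, hN, fun hdvd => ?_⟩
  rw [if_pos rfl, mul_one] at hd
  have h1 : (p : ℤ) ∣ (N : ℤ) := by exact_mod_cast hdvd
  have h2 : (p : ℤ) ∣ ε := by
    have := dvd_sub h1 hd
    simpa using this
  exact sign_not_dvd hp hε h2

theorem CongrRel.eq_of_multRel (h : CongrRel p hCA χ β ε) {β' : IrrCharacter C} (h' : MultRel p hCA χ β') :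
    β' = β := by
  by_contra hne
  obtain ⟨N, hN, hd⟩ := h β'
  obtain ⟨N', hN', hnd⟩ := h'
  rw [if_neg hne, mul_zero, sub_zero] at hd
  have h1 : (N' : ℂ) = N := by rw [← hN, hN']
  have h2 : N' = N := by exact_mod_cast h1
  rw [h2] at hnd
  exact hnd (by exact_mod_cast hd)

/-- Composition of congruence relations. -/
theorem CongrRel.comp {D : Subgroup Γ} {hDC : D ≤ C} {δ : IrrCharacter D} {ε' : ℤ} (h : CongrRel p hCA χ β ε)
    (h' : CongrRel p hDC β δ ε') : CongrRel p (hDC.trans hCA) χ δ (ε * ε') := by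
  classical
  intro δ'
  choose N hN hNd using h
  have hnat : ∀ γ : IrrCharacter C, ∃ M : ℕ, classInner (fun c : D => (γ : C → ℂ) ⟨c, hDC c.2⟩) (δ' : D → ℂ) = M :=
    fun γ => (γ.2.isCharacter.comp (Subgroup.inclusion hDC)).classInner_nat δ'.2
  choose M hM using hnat
  have hcl : IsClassFunction C (fun c : C => (χ : A → ℂ) ⟨c, hCA c.2⟩) :=
    (χ.2.isCharacter.comp (Subgroup.inclusion hCA)).isClassFunction
  have hdec := classFunction_eq_sum hcl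
  have h1 : ∀ c : D, (χ : A → ℂ) ⟨c, (hDC.trans hCA) c.2⟩ =
      ∑ γ : IrrCharacter C, (N γ : ℂ) * (γ : C → ℂ) ⟨c, hDC c.2⟩ := by
    intro c
    have h2 := congrFun hdec ⟨c, hDC c.2⟩
    simp only [Finset.sum_apply, Pi.smul_apply, smul_eq_mul] at h2
    rw [show (⟨c, (hDC.trans hCA) c.2⟩ : A) = ⟨((⟨c, hDC c.2⟩ : C) : Γ), hCA (hDC c.2)⟩ from rfl, h2]
    refine Finset.sum_congr rfl fun γ _ => ?_
    rw [hN γ]
  have h3 : (fun c : D => (χ : A → ℂ) ⟨c, (hDC.trans hCA) c.2⟩) =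
      ∑ γ : IrrCharacter C, (N γ : ℂ) • (fun c : D => (γ : C → ℂ) ⟨c, hDC c.2⟩) := by
    funext c
    rw [h1 c, Finset.sum_apply]
    rfl
  refine ⟨∑ γ, N γ * M γ, ?_, ?_⟩
  · rw [h3, classInner_sum_left]
    push_cast
    refine Finset.sum_congr rfl fun γ _ => ?_
    rw [classInner_smul_left, hM γ]
  · obtain ⟨M₁, hM₁, hM₁d⟩ := h' δ'
    have hM₁' : M₁ = M β := by
      have : (M₁ : ℂ) = M β := by rw [← hM₁, hM β]
      exact_mod_cast this
    subst hM₁'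
    have hsum : ((∑ γ, N γ * M γ : ℕ) : ℤ) - ε * ε' * (if δ' = δ then 1 else 0) =
        ∑ γ, ((N γ : ℤ) - ε * (if γ = β then 1 else 0)) * (M γ : ℤ) +
          ε * ((M β : ℤ) - ε' * (if δ' = δ then 1 else 0)) := by
      push_cast
      have h4 : ∑ γ, ((N γ : ℤ) - ε * (if γ = β then 1 else 0)) * (M γ : ℤ) =
          ∑ γ, (N γ : ℤ) * (M γ : ℤ) - ε * (M β : ℤ) := by
        simp only [sub_mul, Finset.sum_sub_distrib]
        congr 1
        rw [← Finset.sum_erase_add _ _ (Finset.mem_univ β), Finset.sum_eq_zero]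
        · simp
        · intro γ hγ
          simp [(Finset.mem_erase.mp hγ).1]
      rw [h4]
      ring
    rw [hsum]
    apply dvd_add
    · exact Finset.dvd_sum fun γ _ => (hNd γ).mul_right _
    · exact hM₁d.mul_left _

section Conj

/-- Conjugation by an element of the normalizer. -/
def conjSub (A : Subgroup Γ) (s : Γ) (hs : s ∈ Subgroup.normalizer (A : Set Γ)) : A ≃* A where
  toFun g := ⟨s * g * s⁻¹, (Subgroup.mem_normalizer_iff.mp hs g).mp g.2⟩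
  invFun g := ⟨s⁻¹ * g * s⁻¹⁻¹, (Subgroup.mem_normalizer_iff.mp (Subgroup.inv_mem _ hs) g).mp g.2⟩
  left_inv g := by
    apply Subtype.ext
    simp [mul_assoc]
  right_inv g := by
    apply Subtype.ext
    simp [mul_assoc]
  map_mul' a b := by
    apply Subtype.ext
    simp [mul_assoc]

@[simp] theorem conjSub_coe (A : Subgroup Γ) (s : Γ) (hs : s ∈ Subgroup.normalizer (A : Set Γ)) (g : A) :
    ((conjSub A s hs g : A) : Γ) = s * g * s⁻¹ := rfl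

/-- The conjugate character. -/
def conjChar {A : Subgroup Γ} {s : Γ} (hs : s ∈ Subgroup.normalizer (A : Set Γ)) (χ : IrrCharacter A) : IrrCharacter A :=
  ⟨(χ : A → ℂ) ∘ conjSub A s hs, isIrr_comp_equiv _ χ.2⟩

theorem conjChar_apply {A : Subgroup Γ} {s : Γ} (hs : s ∈ Subgroup.normalizer (A : Set Γ)) (χ : IrrCharacter A) (g : A) :
    (conjChar hs χ : A → ℂ) g = (χ : A → ℂ) (conjSub A s hs g) := rfl

theorem conjChar_eq_of_inv {S A : Subgroup Γ} {s : Γ} (hs : s ∈ S) (hsA : s ∈ Subgroup.normalizer (A : Set Γ))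
    {χ : IrrCharacter A} (h : Inv S A χ) : conjChar hsA χ = χ := by
  apply Subtype.ext
  funext g
  exact h s hs g _ rfl

theorem inv_of_conjChar {S A : Subgroup Γ} (hS : ∀ s ∈ S, s ∈ Subgroup.normalizer (A : Set Γ)) {χ : IrrCharacter A}
    (h : ∀ s (hs : s ∈ S), conjChar (hS s hs) χ = χ) : Inv S A χ := by
  intro s hs g g' hg
  have h1 : g' = conjSub A s (hS s hs) g := Subtype.ext hg
  rw [h1, ← conjChar_apply (hS s hs), h s hs]

theorem MultRel.conj {s : Γ} (hsA : s ∈ Subgroup.normalizer (A : Set Γ)) (hsC : s ∈ Subgroup.normalizer (C : Set Γ))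
    (h : MultRel p hCA χ β) : MultRel p hCA (conjChar hsA χ) (conjChar hsC β) := by
  obtain ⟨N, hN, hnd⟩ := h
  refine ⟨N, ?_, hnd⟩
  rw [← hN]
  exact classInner_comp_mulEquiv (conjSub C s hsC) (fun c : C => (χ : A → ℂ) ⟨c, hCA c.2⟩) (β : C → ℂ)

end Conj

/-- The hypotheses on a group `A` acted upon by `S` as a `p`-group. -/
structure PHyp (S A : Subgroup Γ) (p : ℕ) : Prop where
  norm : ∀ s ∈ S, s ∈ Subgroup.normalizer (A : Set Γ)
  cop : (Nat.card A).Coprime (Nat.card S)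
  pow : ∀ s ∈ S, ∃ k, ∀ g ∈ A, s ^ (p ^ k) * g = g * s ^ (p ^ k)

/-- The conclusions. -/
def PConcl (S A : Subgroup Γ) (p : ℕ) : Prop :=
  ∀ (C : Subgroup Γ) (hC : C = A ⊓ Subgroup.centralizer (S : Set Γ)) (hCA : C ≤ A),
    (∀ χ, Inv S A χ → ∃ (β : IrrCharacter C) (ε : ℤ), (ε = 1 ∨ ε = -1) ∧ CongrRel p hCA χ β ε) ∧
    (∀ χ χ', Inv S A χ → Inv S A χ' → ∀ β : IrrCharacter C, MultRel p hCA χ β → MultRel p hCA χ' β → χ = χ') ∧
    (∀ β : IrrCharacter C, ∃ χ, Inv S A χ ∧ MultRel p hCA χ β) ∧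
    (∀ (N : Subgroup Γ) (hNA : N ≤ A), PHyp S N p → ∀ (Nst : Subgroup Γ) (hNst : Nst = N ⊓ Subgroup.centralizer (S : Set Γ))
      (hNstC : Nst ≤ C) (hNstN : Nst ≤ N) (χ : IrrCharacter A) (θ : IrrCharacter N) (β : IrrCharacter C)
      (θs : IrrCharacter Nst), Inv S A χ → Inv S N θ → MultRel p hCA χ β → MultRel p hNstN θ θs →
      classInner (fun c : Nst => (β : C → ℂ) ⟨c, hNstC c.2⟩) (θs : Nst → ℂ) ≠ 0 →
      classInner (fun n : N => (χ : A → ℂ) ⟨n, hNA n.2⟩) (θ : N → ℂ) ≠ 0)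

/-- The case of a trivial action. -/
theorem pconcl_trivial {S A : Subgroup Γ} (hp : p.Prime) (htriv : ∀ s ∈ S, ∀ g ∈ A, s * g = g * s) : PConcl S A p := by
  classical
  have hself : ∀ {B : Subgroup Γ} (χ : IrrCharacter B), CongrRel p (le_refl B) χ χ 1 := by
    intro B χ β'
    refine ⟨if β' = χ then 1 else 0, ?_, ?_⟩
    · by_cases h : β' = χ
      · subst h
        simp only [if_true]
        have := classInner_irr_self β'.2
        simpa using this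
      · rw [if_neg h]
        have h2 : (χ : B → ℂ) ≠ (β' : B → ℂ) := fun h3 => h (Subtype.ext h3.symm)
        have := classInner_irr_ne χ.2 β'.2 h2
        simpa using this
    · by_cases h : β' = χ <;> simp [h]
  have hcentr : ∀ {B : Subgroup Γ}, (∀ s ∈ S, ∀ g ∈ B, s * g = g * s) → B = B ⊓ Subgroup.centralizer (S : Set Γ) := by
    intro B hB
    apply le_antisymm
    · intro g hg
      exact ⟨hg, Subgroup.mem_centralizer_iff.mpr fun s hs => hB s hs g hg⟩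
    · exact inf_le_left
  intro C hC hCA
  have hCeq : C = A := hC.trans (hcentr htriv).symm
  subst hCeq
  refine ⟨fun χ _ => ⟨χ, 1, Or.inl rfl, hself χ⟩, ?_, ?_, ?_⟩
  · intro χ χ' _ _ β h h'
    rw [← (hself χ).eq_of_multRel h, ← (hself χ').eq_of_multRel h']
  · intro β
    refine ⟨β, ?_, (hself β).multRel hp (Or.inl rfl)⟩
    intro s hs g g' hg
    have : g' = g := by
      apply Subtype.ext
      rw [hg, htriv s hs g g.2]
      simp
    rw [this]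
  · intro N hNA hN Nst hNst hNstC hNstN χ θ β θs _ _ h h' hne
    have htN : ∀ s ∈ S, ∀ g ∈ N, s * g = g * s := fun s hs g hg => htriv s hs g (hNA hg)
    have hNeq : Nst = N := hNst.trans (hcentr htN).symm
    subst hNeq
    have h1 := (hself χ).eq_of_multRel h
    have h2 := (hself θ).eq_of_multRel h'
    subst h1
    subst h2
    exact hne

/-- Existence of a suitable element. -/
theorem exists_central_action {S A : Subgroup Γ} (hp : p.Prime) (hA : PHyp S A p)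
    (hne : ∃ s ∈ S, ∃ g ∈ A, s * g ≠ g * s) :
    ∃ z ∈ S, (∃ g ∈ A, z * g ≠ g * z) ∧ (∃ a, orderOf z = p ^ a) ∧
      ∀ s ∈ S, ∀ g ∈ A, (s * z * s⁻¹) * g * (s * z * s⁻¹)⁻¹ = z * g * z⁻¹ := by
  classical
  haveI : Fact p.Prime := ⟨hp⟩
  have hnorm : ∀ s ∈ S, ∀ g ∈ A, s * g * s⁻¹ ∈ A := fun s hs g hg =>
    (Subgroup.mem_normalizer_iff.mp (hA.norm s hs) g).mp hg
  let φ : S →* MulAut A := conjHom A S hnorm
  have hφ : ∀ (s : S) (g : A), ((φ s g : A) : Γ) = s * g * (s : Γ)⁻¹ := fun s g => rfl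
  have hφ1 : ∀ s : S, φ s = 1 ↔ ∀ g ∈ A, (s : Γ) * g = g * s := by
    intro s
    constructor
    · intro h g hg
      have h1 := hφ s ⟨g, hg⟩
      rw [h] at h1
      have h2 : g = s * g * (s : Γ)⁻¹ := h1
      calc (s : Γ) * g = s * g * (s : Γ)⁻¹ * s := by group
        _ = g * s := by rw [← h2]
    · intro h
      ext g
      show s * (g : Γ) * (s : Γ)⁻¹ = g
      rw [h g g.2]
      group
  let I : Subgroup (MulAut A) := φ.range
  have hI : IsPGroup p I := by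
    rintro ⟨_, s, rfl⟩
    obtain ⟨k, hk⟩ := hA.pow s s.2
    refine ⟨k, ?_⟩
    apply Subtype.ext
    show φ s ^ (p ^ k) = 1
    rw [← map_pow, hφ1]
    exact hk
  obtain ⟨s₁, hs₁, g₁, hg₁, hsg⟩ := hne
  have hφs₁ : φ ⟨s₁, hs₁⟩ ≠ 1 := fun h => hsg ((hφ1 _).mp h g₁ hg₁)
  haveI : Nontrivial I := by
    refine ⟨⟨⟨φ ⟨s₁, hs₁⟩, _, rfl⟩, 1, fun h => hφs₁ (congrArg Subtype.val h)⟩⟩
  haveI := hI.center_nontrivial
  obtain ⟨⟨⟨_, s₀, rfl⟩, hc⟩, hne1⟩ := exists_ne (1 : Subgroup.center I)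
  have hs₀ne : φ s₀ ≠ 1 := fun h => hne1 (Subtype.ext (Subtype.ext h))
  have hord0 : orderOf (s₀ : Γ) ≠ 0 := (orderOf_pos _).ne'
  set m := ordCompl[p] (orderOf (s₀ : Γ)) with hm
  have hm0 : m ≠ 0 := (Nat.ordCompl_pos p hord0).ne'
  have hmdvd : m ∣ orderOf (s₀ : Γ) := Nat.ordCompl_dvd _ _
  have hmp : ¬ p ∣ m := Nat.not_dvd_ordCompl hp hord0
  have hz : ((s₀ : Γ) ^ m) ∈ S := S.pow_mem s₀.2 m
  refine ⟨(s₀ : Γ) ^ m, hz, ?_, ?_, ?_⟩
  · -- acts nontrivially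
    by_contra hall
    push Not at hall
    have h1 : φ (s₀ ^ m) = 1 := (hφ1 _).mpr hall
    rw [map_pow] at h1
    obtain ⟨k, hk⟩ := hI ⟨φ s₀, s₀, rfl⟩
    have hk' : φ s₀ ^ (p ^ k) = 1 := congrArg Subtype.val hk
    have h2 := pow_gcd_eq_one.mpr ⟨hk', h1⟩
    have h3 : Nat.gcd (p ^ k) m = 1 := (Nat.Coprime.pow_left k ((Nat.Prime.coprime_iff_not_dvd hp).mpr hmp))
    rw [h3, pow_one] at h2
    exact hs₀ne h2
  · refine ⟨(orderOf (s₀ : Γ)).factorization p, ?_⟩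
    rw [orderOf_pow_of_dvd hm0 hmdvd]
    have h1 := Nat.ordProj_mul_ordCompl_eq_self (orderOf (s₀ : Γ)) p
    rw [← hm] at h1
    exact Nat.div_eq_of_eq_mul_left (Nat.pos_of_ne_zero hm0) h1.symm
  · intro s hs g hg
    have hcomm : φ ⟨s, hs⟩ * φ s₀ = φ s₀ * φ ⟨s, hs⟩ := by
      have h1 := (Subgroup.mem_center_iff.mp hc) ⟨φ ⟨s, hs⟩, _, rfl⟩
      exact congrArg Subtype.val h1
    have h2 : φ (⟨s, hs⟩ * s₀ ^ m * (⟨s, hs⟩ : S)⁻¹) = φ (s₀ ^ m) := by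
      simp only [map_mul, map_inv, map_pow]
      have h3 : Commute (φ ⟨s, hs⟩) (φ s₀ ^ m) := (show Commute (φ ⟨s, hs⟩) (φ s₀) from hcomm).pow_right m
      rw [h3.eq]
      group
    have h3 := congrArg (fun f : MulAut A => ((f ⟨g, hg⟩ : A) : Γ)) h2
    simp only [hφ] at h3
    simpa using h3

section Step

variable {S : Subgroup Γ} {z : Γ}

theorem fixZ_hyp {A : Subgroup Γ} (hA : PHyp S A p) (hzS : z ∈ S)
    (hzc : ∀ s ∈ S, ∀ g ∈ A, (s * z * s⁻¹) * g * (s * z * s⁻¹)⁻¹ = z * g * z⁻¹) : PHyp S (fixZ A z) p := by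
  have hk : ∀ s ∈ S, ∀ g ∈ fixZ A z, s * g * s⁻¹ ∈ fixZ A z := by
    intro s hs g hg
    refine ⟨(Subgroup.mem_normalizer_iff.mp (hA.norm s hs) g).mp hg.1, Subgroup.mem_centralizer_singleton_iff.mpr ?_⟩
    have h1 := hzc s⁻¹ (S.inv_mem hs) g hg.1
    have h2 : g * z = z * g := Subgroup.mem_centralizer_singleton_iff.mp hg.2
    have h3 : z * g * z⁻¹ = g := by
      rw [← h2]
      group
    rw [h3] at h1
    have h4 : (s⁻¹ * z * s⁻¹⁻¹) * g * (s⁻¹ * z * s⁻¹⁻¹)⁻¹ = s⁻¹ * (z * (s * g * s⁻¹) * z⁻¹) * s := by group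
    rw [h4] at h1
    have h5 : z * (s * g * s⁻¹) * z⁻¹ = s * g * s⁻¹ := by
      have : s * (s⁻¹ * (z * (s * g * s⁻¹) * z⁻¹) * s) * s⁻¹ = s * g * s⁻¹ := by rw [h1]
      simpa [mul_assoc] using this
    calc s * g * s⁻¹ * z = (z * (s * g * s⁻¹) * z⁻¹) * z := by rw [h5]
      _ = z * (s * g * s⁻¹) := by group
  refine ⟨?_, ?_, ?_⟩
  · intro s hs
    rw [Subgroup.mem_normalizer_iff]
    intro g
    refine ⟨hk s hs g, fun hg => ?_⟩
    have := hk s⁻¹ (S.inv_mem hs) _ hg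
    simpa [mul_assoc] using this
  · exact Nat.Coprime.coprime_dvd_left (Subgroup.card_dvd_of_le (fixZ_le A z)) hA.cop
  · intro s hs
    obtain ⟨k, hk⟩ := hA.pow s hs
    exact ⟨k, fun g hg => hk g hg.1⟩

/-- Congruence for the cyclic correspondent. -/
theorem congr_of_cycRel {A : Subgroup Γ} (hz : z ∈ Subgroup.normalizer (A : Set Γ))
    (hcop : (Nat.card A).Coprime (orderOf z)) (a : ℕ) (hp : p.Prime) (hord : orderOf z = p ^ a) {χ : IrrCharacter A}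
    {β : IrrCharacter (fixZ A z)} {ε : ℤ} (h : CycRel A z χ β ε) : CongrRel p (fixZ_le A z) χ β ε :=
  fun β' => cyc_mult hz hcop p a hp hord h β'

theorem inv_of_congr {A C : Subgroup Γ} {hCA : C ≤ A} {χ : IrrCharacter A} {β : IrrCharacter C} {ε : ℤ} (hp : p.Prime)
    (hsA : ∀ s ∈ S, s ∈ Subgroup.normalizer (A : Set Γ)) (hsC : ∀ s ∈ S, s ∈ Subgroup.normalizer (C : Set Γ))
    (hχ : Inv S A χ) (h : CongrRel p hCA χ β ε) (hε : ε = 1 ∨ ε = -1) : Inv S C β := by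
  apply inv_of_conjChar hsC
  intro s hs
  have h1 := (h.multRel hp hε).conj (hsA s hs) (hsC s hs)
  rw [conjChar_eq_of_inv hs (hsA s hs) hχ] at h1
  exact h.eq_of_multRel h1

theorem inv_of_cyc {A : Subgroup Γ} (hp : p.Prime) (hA : PHyp S A p) (hzS : z ∈ S)
    (hzc : ∀ s ∈ S, ∀ g ∈ A, (s * z * s⁻¹) * g * (s * z * s⁻¹)⁻¹ = z * g * z⁻¹) (a : ℕ) (hord : orderOf z = p ^ a)
    (hcop : (Nat.card A).Coprime (orderOf z))
    {χ : IrrCharacter A} {β₁ : IrrCharacter (fixZ A z)} {ε : ℤ} (hε : ε = 1 ∨ ε = -1) (hχ : ZInv A z χ)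
    (hc : CycRel A z χ β₁ ε) (hβ₁ : Inv S (fixZ A z) β₁) : Inv S A χ := by
  have hzA := hA.norm z hzS
  have h₁ := fixZ_hyp hA hzS hzc
  apply inv_of_conjChar hA.norm
  intro s hs
  have hzinv : ZInv A z (conjChar (hA.norm s hs) χ) := by
    intro g g' hg
    rw [conjChar_apply, conjChar_apply]
    have hmem : s * g * s⁻¹ ∈ A := (Subgroup.mem_normalizer_iff.mp (hA.norm s hs) g).mp g.2
    have h2 := hχ ⟨_, hmem⟩ (conjSub A s (hA.norm s hs) g') (by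
      show s * (g' : Γ) * s⁻¹ = z * (s * g * s⁻¹) * z⁻¹
      rw [hg, ← hzc s hs (s * g * s⁻¹) hmem]
      group)
    have h3 := hzc s hs (s * g * s⁻¹) hmem
    rw [h2]
    rfl
  obtain ⟨β₂, ε₂, hε₂, hc₂⟩ := exists_cycRel hzA hcop _ hzinv
  have h4 : CongrRel p (fixZ_le A z) _ _ _ := congr_of_cycRel hzA hcop a hp hord hc₂
  have h5 : MultRel p (fixZ_le A z) χ β₁ := (congr_of_cycRel hzA hcop a hp hord hc).multRel hp hε
  have h6 := h5.conj (hA.norm s hs) (h₁.norm s hs)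
  rw [conjChar_eq_of_inv hs (h₁.norm s hs) hβ₁] at h6
  have h7 := h4.eq_of_multRel h6
  subst h7
  exact cyc_inj hzA hcop hε₂ hε hc₂ hc

end Step

/-- The main theorem for groups acting as `p`-groups. -/
theorem pgroup_main {S : Subgroup Γ} (hp : p.Prime) : ∀ (n : ℕ) (A : Subgroup Γ), Nat.card A = n → PHyp S A p →
    PConcl S A p := by
  classical
  intro n
  induction n using Nat.strong_induction_on with
  | _ n ih =>
  intro A hn hA
  by_cases htriv : ∀ s ∈ S, ∀ g ∈ A, s * g = g * s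
  · exact pconcl_trivial hp htriv
  push Not at htriv
  obtain ⟨z, hzS, ⟨g₀, hg₀, hzg₀⟩, ⟨a, hord⟩, hzc⟩ := exists_central_action hp hA htriv
  have hzA := hA.norm z hzS
  have hordS : orderOf z ∣ Nat.card S := Subgroup.orderOf_dvd_natCard _ hzS
  have hcopA : (Nat.card A).Coprime (orderOf z) := Nat.Coprime.coprime_dvd_right hordS hA.cop
  have hlt : Nat.card (fixZ A z) < Nat.card A := by
    have h1 : fixZ A z ≤ A := fixZ_le A z
    have h2 : fixZ A z ≠ A := by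
      intro h3
      have h4 : g₀ ∈ fixZ A z := by
        rw [h3]
        exact hg₀
      exact hzg₀ (Subgroup.mem_centralizer_singleton_iff.mp h4.2).symm
    have h3 : Nat.card (fixZ A z) ≠ Nat.card A := by
      intro h4
      exact h2 (Subgroup.eq_of_le_of_card_ge h1 h4.ge)
    exact lt_of_le_of_ne (Nat.le_of_dvd Nat.card_pos (Subgroup.card_dvd_of_le h1)) h3
  have hzcent : ∀ {B : Subgroup Γ}, B ≤ A → ∀ s ∈ S, ∀ g ∈ B, (s * z * s⁻¹) * g * (s * z * s⁻¹)⁻¹ = z * g * z⁻¹ :=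
    fun hB s hs g hg => hzc s hs g (hB hg)
  have h₁ : PHyp S (fixZ A z) p := fixZ_hyp hA hzS hzc
  have hle_fix : ∀ {B : Subgroup Γ}, B ⊓ Subgroup.centralizer (S : Set Γ) = fixZ B z ⊓ Subgroup.centralizer (S : Set Γ) := by
    intro B
    ext x
    constructor
    · rintro ⟨hx1, hx2⟩
      refine ⟨⟨hx1, ?_⟩, hx2⟩
      exact Subgroup.mem_centralizer_singleton_iff.mpr ((Subgroup.mem_centralizer_iff.mp hx2) z hzS).symm
    · rintro ⟨⟨hx1, -⟩, hx2⟩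
      exact ⟨hx1, hx2⟩
  intro C hC hCA
  have hC₁ : C = fixZ A z ⊓ Subgroup.centralizer (S : Set Γ) := hC.trans hle_fix
  have hCA₁ : C ≤ fixZ A z := by
    rw [hC₁]
    exact inf_le_left
  have IHA := ih _ (by rw [← hn]; exact hlt) (fixZ A z) rfl h₁ C hC₁ hCA₁
  obtain ⟨I1, I2, I3, I4⟩ := IHA
  have key : ∀ χ, Inv S A χ → ∃ (β₁ : IrrCharacter (fixZ A z)) (ε₁ : ℤ) (β : IrrCharacter C) (ε₂ : ℤ),
      (ε₁ = 1 ∨ ε₁ = -1) ∧ (ε₂ = 1 ∨ ε₂ = -1) ∧ CycRel A z χ β₁ ε₁ ∧ Inv S (fixZ A z) β₁ ∧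
      CongrRel p hCA₁ β₁ β ε₂ ∧ CongrRel p hCA χ β (ε₁ * ε₂) := by
    intro χ hχ
    obtain ⟨β₁, ε₁, hε₁, hc₁⟩ := exists_cycRel hzA hcopA χ (fun g g' hg => hχ z hzS g g' hg)
    have hg₁ := congr_of_cycRel hzA hcopA a hp hord hc₁
    have inv₁ : Inv S (fixZ A z) β₁ := inv_of_congr hp hA.norm h₁.norm hχ hg₁ hε₁
    obtain ⟨β, ε₂, hε₂, hg₂⟩ := I1 β₁ inv₁
    exact ⟨β₁, ε₁, β, ε₂, hε₁, hε₂, hc₁, inv₁, hg₂, hg₁.comp hg₂⟩
  have hsign : ∀ {a b : ℤ}, (a = 1 ∨ a = -1) → (b = 1 ∨ b = -1) → (a * b = 1 ∨ a * b = -1) := by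
    rintro a b (rfl | rfl) (rfl | rfl) <;> simp
  refine ⟨?_, ?_, ?_, ?_⟩
  · intro χ hχ
    obtain ⟨β₁, ε₁, β, ε₂, hε₁, hε₂, hc₁, inv₁, hg₂, hg⟩ := key χ hχ
    exact ⟨β, ε₁ * ε₂, hsign hε₁ hε₂, hg⟩
  · intro χ χ' hχ hχ' β h h'
    obtain ⟨β₁, ε₁, β₀, ε₂, hε₁, hε₂, hc₁, inv₁, hg₂, hg⟩ := key χ hχ
    obtain ⟨β₁', ε₁', β₀', ε₂', hε₁', hε₂', hc₁', inv₁', hg₂', hg'⟩ := key χ' hχ'
    have e1 := hg.eq_of_multRel h
    have e2 := hg'.eq_of_multRel h'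
    subst e1
    subst e2
    have e3 := I2 β₁ β₁' inv₁ inv₁' β (hg₂.multRel hp hε₂) (hg₂'.multRel hp hε₂')
    subst e3
    exact cyc_inj hzA hcopA hε₁ hε₁' hc₁ hc₁'
  · intro β
    obtain ⟨β₁, inv₁, hm₁⟩ := I3 β
    obtain ⟨χ, ε, hzinv, hε, hc⟩ := cyc_surj hzA hcopA β₁
    have hχ : Inv S A χ := inv_of_cyc hp hA hzS hzc a hord hcopA hε hzinv hc inv₁
    refine ⟨χ, hχ, ?_⟩
    obtain ⟨β₂, ε₂, hε₂, hg₂⟩ := I1 β₁ inv₁
    have e1 := hg₂.eq_of_multRel hm₁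
    subst e1
    exact ((congr_of_cycRel hzA hcopA a hp hord hc).comp hg₂).multRel hp (hsign hε hε₂)
  · intro N hNA hN Nst hNst hNstC hNstN χ θ β θs hχ hθ hm hm' hne
    obtain ⟨β₁, ε₁, β₀, ε₂, hε₁, hε₂, hc₁, inv₁, hg₂, hg⟩ := key χ hχ
    have e1 := hg.eq_of_multRel hm
    subst e1
    have hzN := hN.norm z hzS
    have hcopN : (Nat.card N).Coprime (orderOf z) := Nat.Coprime.coprime_dvd_right hordS hN.cop
    have hN₁ : PHyp S (fixZ N z) p := fixZ_hyp hN hzS (hzcent hNA)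
    have hN₁A₁ : fixZ N z ≤ fixZ A z := inf_le_inf_right _ hNA
    have hNst₁ : Nst = fixZ N z ⊓ Subgroup.centralizer (S : Set Γ) := hNst.trans hle_fix
    have hNstN₁ : Nst ≤ fixZ N z := by
      rw [hNst₁]
      exact inf_le_left
    have hcardN₁ : Nat.card (fixZ N z) < n := by
      rw [← hn]
      exact lt_of_le_of_lt (Nat.le_of_dvd Nat.card_pos (Subgroup.card_dvd_of_le hN₁A₁)) hlt
    obtain ⟨θ₁, ε₃, hε₃, hc₃⟩ := exists_cycRel hzN hcopN θ (fun g g' hg => hθ z hzS g g' hg)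
    have hg₃ := congr_of_cycRel hzN hcopN a hp hord hc₃
    have inv₃ : Inv S (fixZ N z) θ₁ := inv_of_congr hp hN.norm hN₁.norm hθ hg₃ hε₃
    obtain ⟨θ₂, ε₄, hε₄, hg₄⟩ := (ih _ hcardN₁ (fixZ N z) rfl hN₁ Nst hNst₁ hNstN₁).1 θ₁ inv₃
    have e2 := (hg₃.comp hg₄).eq_of_multRel hm'
    subst e2
    have h8 := I4 (fixZ N z) hN₁A₁ hN₁ Nst hNst₁ hNstC hNstN₁ β₁ θ₁ β θs inv₁ inv₃ (hg₂.multRel hp hε₂)
      (hg₄.multRel hp hε₄) hne
    exact cyc_compat hNA hzN hcopN hε₁ hc₁ hε₃ hc₃ h8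

end GP

end CfsgLib.Char
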