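import Mathlib
import Cfsg.Agent.Lib.Char.GlaubP3

/-!
# The Glauberman correspondence for solvable groups of operators
-/

set_option linter.unusedSectionVars false
set_option linter.style.haveILetI false
set_option linter.unusedSimpArgs false
set_option linter.unusedVariables false

namespace CfsgLib.Char

open Cfsg
open scoped ComplexConjugate Pointwise

universe u

namespace GP

variable {Γ : Type u} [Group Γ] [Finite Γ]

/-- A coprime action. -/
structure Act (S G : Subgroup Γ) : Prop where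
  norm : ∀ s ∈ S, s ∈ Subgroup.normalizer (G : Set Γ)
  cop : (Nat.card G).Coprime (Nat.card S)

theorem fix_norm {S G : Subgroup Γ} {x : Γ} (hxS : x ∈ Subgroup.normalizer (S : Set Γ))
    (hxG : x ∈ Subgroup.normalizer (G : Set Γ)) :
    x ∈ Subgroup.normalizer ((G ⊓ Subgroup.centralizer (S : Set Γ) : Subgroup Γ) : Set Γ) := by
  have key : ∀ y ∈ Subgroup.normalizer (S : Set Γ), ∀ y' ∈ Subgroup.normalizer (G : Set Γ), y = y' →
      ∀ g ∈ G ⊓ Subgroup.centralizer (S : Set Γ), y * g * y⁻¹ ∈ G ⊓ Subgroup.centralizer (S : Set Γ) := by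
    rintro y hy _ hy' rfl g ⟨hg1, hg2⟩
    refine ⟨(Subgroup.mem_normalizer_iff.mp hy' g).mp hg1, Subgroup.mem_centralizer_iff.mpr ?_⟩
    intro s hs
    have h1 : y⁻¹ * s * y ∈ S := by
      have := (Subgroup.mem_normalizer_iff.mp (Subgroup.inv_mem _ hy) s).mp hs
      simpa [mul_assoc] using this
    have h2 := (Subgroup.mem_centralizer_iff.mp hg2) _ h1
    calc s * (y * g * y⁻¹) = y * ((y⁻¹ * s * y) * g) * y⁻¹ := by group
      _ = y * (g * (y⁻¹ * s * y)) * y⁻¹ := by rw [h2]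
      _ = (y * g * y⁻¹) * s := by group
  rw [Subgroup.mem_normalizer_iff]
  intro g
  refine ⟨key x hxS x hxG rfl g, fun hg => ?_⟩
  have := key x⁻¹ (Subgroup.inv_mem _ hxS) x⁻¹ (Subgroup.inv_mem _ hxG) rfl _ hg
  simpa [mul_assoc] using this

/-- A family of correspondences for the operator group `S`. -/
structure IsFam (S : Subgroup Γ)
    (Rel : ∀ G : Subgroup Γ, IrrCharacter G → IrrCharacter ↥(G ⊓ Subgroup.centralizer (S : Set Γ)) → Prop) : Prop where
  inv : ∀ G, Act S G → ∀ χ β, Rel G χ β → Inv S G χ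
  ex : ∀ G, Act S G → ∀ χ, Inv S G χ → ∃ β, Rel G χ β
  uniq : ∀ G, Act S G → ∀ χ β β', Rel G χ β → Rel G χ β' → β = β'
  inj : ∀ G, Act S G → ∀ χ χ' β, Rel G χ β → Rel G χ' β → χ = χ'
  surj : ∀ G, Act S G → ∀ β, ∃ χ, Rel G χ β
  nat : ∀ G, Act S G → ∀ x (hxS : x ∈ Subgroup.normalizer (S : Set Γ)) (hxG : x ∈ Subgroup.normalizer (G : Set Γ)) χ β,
    Rel G χ β → Rel G (conjChar hxG χ) (conjChar (fix_norm hxS hxG) β)
  compat : ∀ (G N : Subgroup Γ) (hNG : N ≤ G), Act S G → Act S N → ∀ χ θ β θs, Rel G χ β → Rel N θ θs →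
    classInner (fun c : ↥(N ⊓ Subgroup.centralizer (S : Set Γ)) =>
        (β : ↥(G ⊓ Subgroup.centralizer (S : Set Γ)) → ℂ) ⟨c, hNG c.2.1, c.2.2⟩)
      (θs : ↥(N ⊓ Subgroup.centralizer (S : Set Γ)) → ℂ) ≠ 0 →
    classInner (fun n : N => (χ : G → ℂ) ⟨n, hNG n.2⟩) (θ : N → ℂ) ≠ 0

/-- The trivial group of operators. -/
theorem fam_bot : IsFam (⊥ : Subgroup Γ) (fun G χ β => MultRel 2 inf_le_left χ β) := by
  classical
  have htriv : ∀ G : Subgroup Γ, PConcl (⊥ : Subgroup Γ) G 2 := fun G =>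
    pconcl_trivial Nat.prime_two (by
      intro s hs g _
      rw [Subgroup.mem_bot.mp hs]
      simp)
  have hphyp : ∀ G : Subgroup Γ, Act (⊥ : Subgroup Γ) G → PHyp (⊥ : Subgroup Γ) G 2 := fun G h =>
    ⟨h.norm, h.cop, fun s hs => ⟨0, fun g _ => by
      rw [Subgroup.mem_bot.mp hs]
      simp⟩⟩
  have hinv : ∀ G : Subgroup Γ, ∀ χ : IrrCharacter G, Inv (⊥ : Subgroup Γ) G χ := by
    intro G χ s hs g g' hg
    have h1 : g' = g := by
      apply Subtype.ext
      rw [hg, Subgroup.mem_bot.mp hs]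
      simp
    rw [h1]
  refine ⟨fun G _ χ _ _ => hinv G χ, ?_, ?_, ?_, ?_, ?_, ?_⟩
  · intro G _ χ hχ
    obtain ⟨β, ε, hε, hc⟩ := (htriv G _ rfl inf_le_left).1 χ hχ
    exact ⟨β, hc.multRel Nat.prime_two hε⟩
  · intro G _ χ β β' h h'
    obtain ⟨β₀, ε, hε, hc⟩ := (htriv G _ rfl inf_le_left).1 χ (hinv G χ)
    rw [hc.eq_of_multRel h, hc.eq_of_multRel h']
  · intro G _ χ χ' β h h'
    exact (htriv G _ rfl inf_le_left).2.1 χ χ' (hinv G χ) (hinv G χ') β h h'
  · intro G _ β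
    obtain ⟨χ, -, h⟩ := (htriv G _ rfl inf_le_left).2.2.1 β
    exact ⟨χ, h⟩
  · intro G _ x hxS hxG χ β h
    exact h.conj hxG (fix_norm hxS hxG)
  · intro G N hNG hG hN χ θ β θs h h' hne
    exact (htriv G _ rfl inf_le_left).2.2.2 N hNG (hphyp N hN) _ rfl (inf_le_inf_right _ hNG) inf_le_left χ θ β θs
      (hinv G χ) (hinv N θ) h h' hne

section Step

variable {S T : Subgroup Γ} {p : ℕ} {RelT : ∀ G : Subgroup Γ, IrrCharacter G →
  IrrCharacter ↥(G ⊓ Subgroup.centralizer (T : Set Γ)) → Prop}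

theorem centr_anti (hTS : T ≤ S) : Subgroup.centralizer (S : Set Γ) ≤ Subgroup.centralizer (T : Set Γ) :=
  Subgroup.centralizer_le hTS

/-- The fixed points of `S` lie in the fixed points of `T`. -/
theorem fix_le_fix (hTS : T ≤ S) (G : Subgroup Γ) :
    G ⊓ Subgroup.centralizer (S : Set Γ) ≤ G ⊓ Subgroup.centralizer (T : Set Γ) :=
  inf_le_inf_left _ (centr_anti hTS)

theorem fix_eq_fix (hTS : T ≤ S) (G : Subgroup Γ) :
    G ⊓ Subgroup.centralizer (S : Set Γ) =
      (G ⊓ Subgroup.centralizer (T : Set Γ)) ⊓ Subgroup.centralizer (S : Set Γ) := by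
  apply le_antisymm
  · exact le_inf (fix_le_fix hTS G) inf_le_right
  · exact inf_le_inf_right _ inf_le_left

theorem act_mono (hTS : T ≤ S) {G : Subgroup Γ} (h : Act S G) : Act T G :=
  ⟨fun s hs => h.norm s (hTS hs), Nat.Coprime.coprime_dvd_right (Subgroup.card_dvd_of_le hTS) h.cop⟩

theorem inv_mono (hTS : T ≤ S) {G : Subgroup Γ} {χ : IrrCharacter G} (h : Inv S G χ) : Inv T G χ :=
  fun s hs => h s (hTS hs)

theorem phyp_of_act (hTS : T ≤ S) (hST : ∀ s ∈ S, s ∈ Subgroup.normalizer (T : Set Γ))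
    (hpow : ∀ s ∈ S, ∃ k, s ^ (p ^ k) ∈ T) {G : Subgroup Γ} (h : Act S G) :
    PHyp S (G ⊓ Subgroup.centralizer (T : Set Γ)) p := by
  refine ⟨fun s hs => fix_norm (hST s hs) (h.norm s hs), ?_, ?_⟩
  · exact Nat.Coprime.coprime_dvd_left (Subgroup.card_dvd_of_le inf_le_left) h.cop
  · intro s hs
    obtain ⟨k, hk⟩ := hpow s hs
    exact ⟨k, fun g hg => (Subgroup.mem_centralizer_iff.mp hg.2 _ hk)⟩

/-- The composite relation. -/
def stepRel (S T : Subgroup Γ) (hTS : T ≤ S) (p : ℕ) (RelT : ∀ G : Subgroup Γ, IrrCharacter G →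
    IrrCharacter ↥(G ⊓ Subgroup.centralizer (T : Set Γ)) → Prop) (G : Subgroup Γ) (χ : IrrCharacter G)
    (β : IrrCharacter ↥(G ⊓ Subgroup.centralizer (S : Set Γ))) : Prop :=
  ∃ β₁ : IrrCharacter ↥(G ⊓ Subgroup.centralizer (T : Set Γ)), RelT G χ β₁ ∧
    Inv S (G ⊓ Subgroup.centralizer (T : Set Γ)) β₁ ∧ MultRel p (fix_le_fix hTS G) β₁ β

/-- The step: from `T` to `S`. -/
theorem fam_step (hp : p.Prime) (hTS : T ≤ S) (hST : ∀ s ∈ S, s ∈ Subgroup.normalizer (T : Set Γ))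
    (hpow : ∀ s ∈ S, ∃ k, s ^ (p ^ k) ∈ T)
    (hchar : ∀ x ∈ Subgroup.normalizer (S : Set Γ), x ∈ Subgroup.normalizer (T : Set Γ))
    (hT : IsFam T RelT) : IsFam S (stepRel S T hTS p RelT) := by
  classical
  have hP : ∀ G : Subgroup Γ, Act S G → _ := fun G hG =>
    pgroup_main hp _ (G ⊓ Subgroup.centralizer (T : Set Γ)) rfl (phyp_of_act hTS hST hpow hG)
      (G ⊓ Subgroup.centralizer (S : Set Γ)) (fix_eq_fix hTS G) (fix_le_fix hTS G)
  have hinv₁ : ∀ G, Act S G → ∀ (χ : IrrCharacter G) β₁, RelT G χ β₁ → Inv S G χ →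
      Inv S (G ⊓ Subgroup.centralizer (T : Set Γ)) β₁ := by
    intro G hG χ β₁ h hχ
    apply inv_of_conjChar (phyp_of_act hTS hST hpow hG).norm
    intro s hs
    have h1 := hT.nat G (act_mono hTS hG) s (hST s hs) (hG.norm s hs) χ β₁ h
    rw [conjChar_eq_of_inv hs (hG.norm s hs) hχ] at h1
    exact hT.uniq G (act_mono hTS hG) χ _ _ h1 h
  refine ⟨?_, ?_, ?_, ?_, ?_, ?_, ?_⟩
  · rintro G hG χ β ⟨β₁, h, hinv, -⟩
    apply inv_of_conjChar hG.norm
    intro s hs
    have h1 := hT.nat G (act_mono hTS hG) s (hST s hs) (hG.norm s hs) χ β₁ h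
    rw [conjChar_eq_of_inv hs (fix_norm (hST s hs) (hG.norm s hs)) hinv] at h1
    exact hT.inj G (act_mono hTS hG) _ _ β₁ h1 h
  · intro G hG χ hχ
    obtain ⟨β₁, h⟩ := hT.ex G (act_mono hTS hG) χ (inv_mono hTS hχ)
    have hinv := hinv₁ G hG χ β₁ h hχ
    obtain ⟨β, ε, hε, hc⟩ := (hP G hG).1 β₁ hinv
    exact ⟨β, β₁, h, hinv, hc.multRel hp hε⟩
  · rintro G hG χ β β' ⟨β₁, h, hinv, hm⟩ ⟨β₁', h', hinv', hm'⟩
    have e := hT.uniq G (act_mono hTS hG) χ _ _ h h'
    subst e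
    obtain ⟨β₀, ε, hε, hc⟩ := (hP G hG).1 β₁ hinv
    rw [hc.eq_of_multRel hm, hc.eq_of_multRel hm']
  · rintro G hG χ χ' β ⟨β₁, h, hinv, hm⟩ ⟨β₁', h', hinv', hm'⟩
    have e := (hP G hG).2.1 β₁ β₁' hinv hinv' β hm hm'
    subst e
    exact hT.inj G (act_mono hTS hG) _ _ _ h h'
  · intro G hG β
    obtain ⟨β₁, hinv, hm⟩ := (hP G hG).2.2.1 β
    obtain ⟨χ, h⟩ := hT.surj G (act_mono hTS hG) β₁
    exact ⟨χ, β₁, h, hinv, hm⟩
  · rintro G hG x hxS hxG χ β ⟨β₁, h, hinv, hm⟩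
    refine ⟨conjChar (fix_norm (hchar x hxS) hxG) β₁, hT.nat G (act_mono hTS hG) x (hchar x hxS) hxG χ β₁ h, ?_,
      hm.conj _ _⟩
    intro s hs g g' hg
    rw [conjChar_apply, conjChar_apply]
    have hs' : x * s * x⁻¹ ∈ S := (Subgroup.mem_normalizer_iff.mp hxS s).mp hs
    apply hinv _ hs'
    show x * (g' : Γ) * x⁻¹ = (x * s * x⁻¹) * (x * g * x⁻¹) * (x * s * x⁻¹)⁻¹
    rw [hg]
    group
  · rintro G N hNG hG hN χ θ β θs ⟨β₁, h, hinv, hm⟩ ⟨θ₁, h', hinv', hm'⟩ hne
    have hle : N ⊓ Subgroup.centralizer (T : Set Γ) ≤ G ⊓ Subgroup.centralizer (T : Set Γ) :=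
      inf_le_inf_right _ hNG
    have h1 := (hP G hG).2.2.2 (N ⊓ Subgroup.centralizer (T : Set Γ)) hle (phyp_of_act hTS hST hpow hN)
      (N ⊓ Subgroup.centralizer (S : Set Γ)) (fix_eq_fix hTS N) (inf_le_inf_right _ hNG) (fix_le_fix hTS N)
      β₁ θ₁ β θs hinv hinv' hm hm' hne
    exact hT.compat G N hNG (act_mono hTS hG) (act_mono hTS hN) χ θ β₁ θ₁ h h' h1

end Step

/-- The residual subgroup of `S` generated by elements of order prime to `p`. -/
def resid (S : Subgroup Γ) (p : ℕ) : Subgroup Γ :=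
  Subgroup.closure {g | g ∈ S ∧ Nat.Coprime (orderOf g) p}

theorem resid_le (S : Subgroup Γ) (p : ℕ) : resid S p ≤ S := by
  apply (Subgroup.closure_le _).mpr
  exact fun g hg => hg.1

theorem resid_char (S : Subgroup Γ) (p : ℕ) {x : Γ} (hx : x ∈ Subgroup.normalizer (S : Set Γ)) :
    x ∈ Subgroup.normalizer (resid S p : Set Γ) := by
  have key : ∀ y ∈ Subgroup.normalizer (S : Set Γ), ∀ g ∈ resid S p, y * g * y⁻¹ ∈ resid S p := by
    intro y hy g hg
    unfold resid at hg ⊢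
    induction hg using Subgroup.closure_induction with
    | mem a ha =>
      apply Subgroup.subset_closure
      refine ⟨(Subgroup.mem_normalizer_iff.mp hy a).mp ha.1, ?_⟩
      have h1 := MulEquiv.orderOf_eq (MulAut.conj y) a
      rw [MulAut.conj_apply] at h1
      rw [h1]
      exact ha.2
    | one => simp
    | mul a b _ _ ha hb =>
      have : y * (a * b) * y⁻¹ = (y * a * y⁻¹) * (y * b * y⁻¹) := by group
      rw [this]
      exact Subgroup.mul_mem _ ha hb
    | inv a _ ha =>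
      have : y * a⁻¹ * y⁻¹ = (y * a * y⁻¹)⁻¹ := by group
      rw [this]
      exact Subgroup.inv_mem _ ha
  rw [Subgroup.mem_normalizer_iff]
  intro g
  refine ⟨key x hx g, fun hg => ?_⟩
  have := key x⁻¹ (Subgroup.inv_mem _ hx) _ hg
  simpa [mul_assoc] using this

theorem resid_pow (S : Subgroup Γ) {p : ℕ} (hp : p.Prime) {s : Γ} (hs : s ∈ S) : ∃ k, s ^ (p ^ k) ∈ resid S p := by
  refine ⟨(orderOf s).factorization p, ?_⟩
  apply Subgroup.subset_closure
  refine ⟨S.pow_mem hs _, ?_⟩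
  have h0 : orderOf s ≠ 0 := (orderOf_pos s).ne'
  have h2 : p ^ (orderOf s).factorization p ∣ orderOf s := Nat.ordProj_dvd _ _
  rw [orderOf_pow_of_dvd (pow_ne_zero _ hp.ne_zero) h2]
  exact (Nat.coprime_ordCompl hp h0).symm

/-- A nontrivial solvable group has a prime with a proper residual. -/
theorem exists_resid_lt {S : Subgroup Γ} (hsolv : Group.IsSolvable S) (hne : S ≠ ⊥) :
    ∃ p : ℕ, p.Prime ∧ resid S p ≠ S := by
  classical
  let H := ↥S
  have hH : (⊤ : Subgroup H) ≠ ⊥ := by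
    intro h
    apply hne
    rw [eq_bot_iff]
    intro x hx
    have h1 : (⟨x, hx⟩ : H) ∈ (⊤ : Subgroup H) := trivial
    rw [h] at h1
    have h2 := Subgroup.mem_bot.mp h1
    exact Subgroup.mem_bot.mpr (congrArg Subtype.val h2)
  haveI : Nontrivial H := by
    rcases subsingleton_or_nontrivial H with h | h
    · exact absurd (Subsingleton.elim _ _) hH
    · exact h
  have hlt := Group.IsSolvable.commutator_lt_top_of_nontrivial (G := H)
  let Ab := Abelianization H
  have hcard : 1 < Nat.card Ab := by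
    apply Finite.one_lt_card_iff_nontrivial.mpr
    by_contra h
    rw [not_nontrivial_iff_subsingleton] at h
    apply hlt.ne
    rw [eq_top_iff]
    intro x _
    have h1 : Abelianization.of x = 1 := Subsingleton.elim _ _
    exact (QuotientGroup.eq_one_iff x).mp h1
  set p := (Nat.card Ab).minFac with hpdef
  have hp : p.Prime := Nat.minFac_prime hcard.ne'
  haveI : Fact p.Prime := ⟨hp⟩
  have hpd : p ∣ Nat.card Ab := Nat.minFac_dvd _
  obtain ⟨a, ha⟩ := exists_prime_orderOf_dvd_card' p hpd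
  set m := ordCompl[p] (Nat.card Ab) with hm
  have hcard0 : Nat.card Ab ≠ 0 := Nat.card_pos.ne'
  have hmp : ¬ p ∣ m := Nat.not_dvd_ordCompl hp hcard0
  let F : H →* Ab := (powMonoidHom m).comp Abelianization.of
  have hF : ∀ g : H, Nat.Coprime (orderOf g) p → F g = 1 := by
    intro g hg
    have h1 : (Abelianization.of g ^ m) ^ (p ^ (Nat.card Ab).factorization p) = 1 := by
      rw [← pow_mul, mul_comm, Nat.ordProj_mul_ordCompl_eq_self]
      exact pow_card_eq_one'
    have h2 : (Abelianization.of g ^ m) ^ (orderOf g) = 1 := by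
      rw [← pow_mul, mul_comm, pow_mul, ← map_pow, pow_orderOf_eq_one, map_one, one_pow]
    have h3 := pow_gcd_eq_one.mpr ⟨h1, h2⟩
    rw [Nat.Coprime.pow_left _ hg.symm, pow_one] at h3
    exact h3
  obtain ⟨h, hh⟩ := QuotientGroup.mk_surjective a
  have hFh : F h ≠ 1 := by
    intro h1
    have h2 : a ^ m = 1 := by
      rw [← hh]
      exact h1
    have h3 := orderOf_dvd_of_pow_eq_one h2
    rw [ha] at h3
    exact hmp h3
  refine ⟨p, hp, fun heq => ?_⟩
  apply hFh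
  have hmem : (h : Γ) ∈ resid S p := by
    rw [heq]
    exact h.2
  have key : ∀ g ∈ resid S p, ∀ hg : g ∈ S, F ⟨g, hg⟩ = 1 := by
    intro g hg
    unfold resid at hg
    induction hg using Subgroup.closure_induction with
    | mem a ha =>
      intro hg
      apply hF
      rw [Subgroup.orderOf_mk]
      exact ha.2
    | one =>
      intro hg
      exact map_one F
    | mul a b ha' hb' ha hb =>
      intro hg
      have h1 := ha (resid_le S p ha')
      have h2 := hb (resid_le S p hb')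
      have h3 : (⟨a * b, hg⟩ : H) = ⟨a, resid_le S p ha'⟩ * ⟨b, resid_le S p hb'⟩ := rfl
      rw [h3, map_mul, h1, h2, one_mul]
    | inv a ha' ha =>
      intro hg
      have h1 := ha (resid_le S p ha')
      have h3 : (⟨a⁻¹, hg⟩ : H) = (⟨a, resid_le S p ha'⟩ : H)⁻¹ := rfl
      rw [h3, map_inv, h1, inv_one]
  exact key h hmem h.2

/-- The existence of the correspondence for solvable operator groups. -/
theorem exists_fam : ∀ (n : ℕ) (S : Subgroup Γ), Nat.card S = n → Group.IsSolvable S → ∃ Rel, IsFam S Rel := by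
  classical
  intro n
  induction n using Nat.strong_induction_on with
  | _ n ih =>
  intro S hn hsolv
  by_cases hS : S = ⊥
  · subst hS
    exact ⟨_, fam_bot⟩
  obtain ⟨p, hp, hne⟩ := exists_resid_lt hsolv hS
  have hle := resid_le S p
  have hlt : Nat.card (resid S p) < n := by
    rw [← hn]
    have h3 : Nat.card (resid S p) ≠ Nat.card S := fun h4 => hne (Subgroup.eq_of_le_of_card_ge hle h4.ge)
    exact lt_of_le_of_ne (Nat.le_of_dvd Nat.card_pos (Subgroup.card_dvd_of_le hle)) h3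
  have hsolvT : Group.IsSolvable (resid S p) :=
    Group.isSolvable_of_isSolvable_injective (f := Subgroup.inclusion hle) (Subgroup.inclusion_injective hle)
  obtain ⟨RelT, hT⟩ := ih _ hlt (resid S p) rfl hsolvT
  refine ⟨_, fam_step hp hle (fun s hs => resid_char S p (Subgroup.le_normalizer hs))
    (fun s hs => resid_pow S hp hs) (fun x hx => resid_char S p hx) hT⟩

end GP

end CfsgLib.Char
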