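import Mathlib
import Cfsg.Agent.Lib.Char.GlaubP4

/-!
# The Glauberman correspondence for solvable operators: the counting theorem and the over-theorem
-/

set_option linter.unusedSectionVars false
set_option linter.style.haveILetI false
set_option linter.unusedSimpArgs false
set_option linter.unusedVariables false

namespace CfsgLib.Char

open Cfsg
open scoped ComplexConjugate Pointwise

universe u

namespace GP

variable {Γ : Type u} [Group Γ] [Finite Γ]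

theorem norm_of_conj {S G : Subgroup Γ} (h : ∀ s ∈ S, ∀ g ∈ G, s * g * s⁻¹ ∈ G) :
    ∀ s ∈ S, s ∈ Subgroup.normalizer (G : Set Γ) := by
  intro s hs
  rw [Subgroup.mem_normalizer_iff]
  intro g
  refine ⟨h s hs g, fun hg => ?_⟩
  have := h s⁻¹ (S.inv_mem hs) _ hg
  simpa [mul_assoc] using this

theorem exists_over_sub {C N : Subgroup Γ} (hNC : N ≤ C) (θ : IrrCharacter N) :
    ∃ β : IrrCharacter C, classInner (fun n : N => (β : C → ℂ) ⟨n, hNC n.2⟩) (θ : N → ℂ) ≠ 0 := by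
  classical
  let N' : Subgroup C := N.subgroupOf C
  let e : N' ≃* N := Subgroup.subgroupOfEquivOfLe hNC
  have hθ' : IsIrrCharacter N' ((θ : N → ℂ) ∘ e) := isIrr_comp_equiv e θ.2
  have hne : indFun N' ((θ : N → ℂ) ∘ e) ≠ 0 := by
    intro h0
    have h1 := congrFun h0 1
    rw [indFun_def] at h1
    simp only [Pi.zero_apply] at h1
    have h2 : ∀ x : C, extendByZero N' ((θ : N → ℂ) ∘ e) (x⁻¹ * 1 * x) = ((θ : N → ℂ) ∘ e) 1 := by
      intro x
      rw [show x⁻¹ * 1 * x = ((1 : N') : C) by simp]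
      exact extendByZero_coe N' _ 1
    simp only [h2, Finset.sum_const, Finset.card_univ, nsmul_eq_mul] at h1
    have h3 : (Nat.card N' : ℂ) ≠ 0 := Nat.cast_ne_zero.mpr Nat.card_pos.ne'
    have h4 : ((Fintype.card C : ℕ) : ℂ) ≠ 0 := Nat.cast_ne_zero.mpr Fintype.card_ne_zero
    rcases mul_eq_zero.mp h1 with h5 | h5
    · exact h3 (inv_eq_zero.mp h5)
    · rcases mul_eq_zero.mp h5 with h6 | h6
      · exact h4 h6
      · exact hθ'.map_one_ne_zero h6
  obtain ⟨χ, hχ, h⟩ := exists_constituent_classFunction (indFun_isClass N' _) hne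
  refine ⟨⟨χ, hχ⟩, ?_⟩
  rw [frobenius N' _ hχ.isClassFunction] at h
  rw [← classInner_comp_mulEquiv e]
  intro h0
  apply h
  have h5 := conj_classInner ((fun n : N => (χ : C → ℂ) ⟨n, hNC n.2⟩) ∘ e) ((θ : N → ℂ) ∘ e)
  have h6 : (fun n : N' => χ ((n : C))) = ((fun n : N => (χ : C → ℂ) ⟨n, hNC n.2⟩) ∘ e) := rfl
  rw [h6, ← h5]
  rw [h0, map_zero]

/-- S4449 -/
theorem solv_invariant_over {G S N : Subgroup Γ} (hnorm : ∀ s ∈ S, ∀ g ∈ G, s * g * s⁻¹ ∈ G) (hNG : N ≤ G)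
    (hNS : ∀ s ∈ S, ∀ n ∈ N, s * n * s⁻¹ ∈ N) (hcop : (Nat.card G).Coprime (Nat.card S))
    (hsolv : Group.IsSolvable S) (θ : IrrCharacter N) (hinv : Inv S N θ) :
    ∃ χ : IrrCharacter G, classInner (fun n : N => (χ : G → ℂ) ⟨n, hNG n.2⟩) (θ : N → ℂ) ≠ 0 ∧ Inv S G χ := by
  classical
  obtain ⟨Rel, hR⟩ := exists_fam _ S rfl hsolv
  have hAG : Act S G := ⟨norm_of_conj hnorm, hcop⟩
  have hAN : Act S N := ⟨norm_of_conj hNS, Nat.Coprime.coprime_dvd_left (Subgroup.card_dvd_of_le hNG) hcop⟩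
  obtain ⟨θs, hθs⟩ := hR.ex N hAN θ hinv
  have hle : N ⊓ Subgroup.centralizer (S : Set Γ) ≤ G ⊓ Subgroup.centralizer (S : Set Γ) := inf_le_inf_right _ hNG
  obtain ⟨β, hβ⟩ := exists_over_sub hle θs
  obtain ⟨χ, hχ⟩ := hR.surj G hAG β
  exact ⟨χ, hR.compat G N hNG hAG hAN χ θ β θs hχ hθs hβ, hR.inv G hAG χ β hχ⟩

/-- The number of invariant characters is the number of characters of the fixed points. -/
theorem card_inv_eq {G S : Subgroup Γ} (hA : Act S G) (hsolv : Group.IsSolvable S) :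
    Nat.card {χ : IrrCharacter G // Inv S G χ} = Nat.card (IrrCharacter ↥(G ⊓ Subgroup.centralizer (S : Set Γ))) := by
  classical
  obtain ⟨Rel, hR⟩ := exists_fam _ S rfl hsolv
  choose f hf using fun χ : {χ : IrrCharacter G // Inv S G χ} => hR.ex G hA χ.1 χ.2
  apply Nat.card_congr
  refine Equiv.ofBijective f ⟨?_, ?_⟩
  · intro a b hab
    apply Subtype.ext
    apply hR.inj G hA a.1 b.1 (f a) (hf a)
    rw [hab]
    exact hf b
  · intro β
    obtain ⟨χ, hχ⟩ := hR.surj G hA β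
    have hinv := hR.inv G hA χ β hχ
    refine ⟨⟨χ, hinv⟩, ?_⟩
    exact hR.uniq G hA χ _ _ (hf ⟨χ, hinv⟩) hχ

/-- The conjugation action of a group on itself as a plain action. -/
@[reducible] def conjAction (Γ : Type u) [Group Γ] : MulAction Γ Γ where
  smul x y := x * y * x⁻¹
  one_smul y := by
    show 1 * y * 1⁻¹ = y
    simp
  mul_smul a b y := by
    show (a * b) * y * (a * b)⁻¹ = a * (b * y * b⁻¹) * a⁻¹
    group

/-- An `S`-invariant class of `G` contains an `S`-fixed element. -/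
theorem exists_fixed_in_class {G S : Subgroup Γ} (hA : Act S G) (hsolv : Group.IsSolvable S) (g : Γ)
    (h : ∀ s ∈ S, ∃ k ∈ G, k * g * k⁻¹ = s * g * s⁻¹) : ∃ k ∈ G, ∀ s ∈ S, s * (k * g * k⁻¹) * s⁻¹ = k * g * k⁻¹ := by
  exact @glauberman_point Γ _ _ Γ (conjAction Γ) G S (fun s hs => hA.norm s hs) hA.cop.symm (Or.inl hsolv) g h

/-- Fixed elements conjugate in `G` are conjugate under the fixed points. -/
theorem conj_in_fix {G S : Subgroup Γ} (hA : Act S G) (hsolv : Group.IsSolvable S) {c c' x₀ : Γ}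
    (hc : c ∈ G ⊓ Subgroup.centralizer (S : Set Γ)) (hc' : c' ∈ G ⊓ Subgroup.centralizer (S : Set Γ)) (hx₀ : x₀ ∈ G)
    (h : x₀ * c * x₀⁻¹ = c') : ∃ y ∈ G ⊓ Subgroup.centralizer (S : Set Γ), y * c * y⁻¹ = c' := by
  classical
  have hcs : ∀ s ∈ S, s * c = c * s := fun s hs => (Subgroup.mem_centralizer_iff.mp hc.2) s hs
  have hc's : ∀ s ∈ S, s * c' = c' * s := fun s hs => (Subgroup.mem_centralizer_iff.mp hc'.2) s hs
  have hconjG : ∀ s ∈ S, ∀ g ∈ G, s * g * s⁻¹ ∈ G := fun s hs g hg =>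
    (Subgroup.mem_normalizer_iff.mp (hA.norm s hs) g).mp hg
  let U : Subgroup Γ := G ⊓ Subgroup.centralizer ({c'} : Set Γ)
  have hU : ∀ u, u ∈ U ↔ u ∈ G ∧ u * c' = c' * u := by
    intro u
    show u ∈ G ⊓ _ ↔ _
    rw [Subgroup.mem_inf, Subgroup.mem_centralizer_singleton_iff]
  let S' : Subgroup Γ := MulAut.conj x₀ • S
  have hS' : ∀ t, t ∈ S' ↔ ∃ s ∈ S, x₀ * s * x₀⁻¹ = t := by
    intro t
    rw [Subgroup.mem_smul_pointwise_iff_exists]
    simp only [MulAut.smul_def, MulAut.conj_apply]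
  have hSU : S ≤ Subgroup.normalizer (U : Set Γ) := by
    intro s hs
    have key : ∀ s ∈ S, ∀ u ∈ U, s * u * s⁻¹ ∈ U := by
      intro s hs u hu
      rw [hU] at hu ⊢
      refine ⟨hconjG s hs u hu.1, ?_⟩
      calc s * u * s⁻¹ * c' = s * u * (s⁻¹ * c' ) := by group
        _ = s * u * (c' * s⁻¹) := by
          congr 1
          have := hc's s⁻¹ (S.inv_mem hs)
          exact this
        _ = s * (u * c') * s⁻¹ := by group
        _ = s * (c' * u) * s⁻¹ := by rw [hu.2]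
        _ = (s * c') * u * s⁻¹ := by group
        _ = (c' * s) * u * s⁻¹ := by rw [hc's s hs]
        _ = c' * (s * u * s⁻¹) := by group
    rw [Subgroup.mem_normalizer_iff]
    intro u
    refine ⟨key s hs u, fun hu => ?_⟩
    have := key s⁻¹ (S.inv_mem hs) _ hu
    simpa [mul_assoc] using this
  have hx₀s : ∀ s ∈ S, (x₀ * s * x₀⁻¹) * c' = c' * (x₀ * s * x₀⁻¹) := by
    intro s hs
    rw [← h]
    calc (x₀ * s * x₀⁻¹) * (x₀ * c * x₀⁻¹) = x₀ * (s * c) * x₀⁻¹ := by group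
      _ = x₀ * (c * s) * x₀⁻¹ := by rw [hcs s hs]
      _ = (x₀ * c * x₀⁻¹) * (x₀ * s * x₀⁻¹) := by group
  have huel : ∀ s ∈ S, x₀ * s * x₀⁻¹ * s⁻¹ ∈ U := by
    intro s hs
    rw [hU]
    refine ⟨?_, ?_⟩
    · have : x₀ * s * x₀⁻¹ * s⁻¹ = x₀ * (s * x₀⁻¹ * s⁻¹) := by group
      rw [this]
      exact G.mul_mem hx₀ (hconjG s hs _ (G.inv_mem hx₀))
    · calc x₀ * s * x₀⁻¹ * s⁻¹ * c' = x₀ * s * x₀⁻¹ * (s⁻¹ * c') := by group
        _ = x₀ * s * x₀⁻¹ * (c' * s⁻¹) := by rw [hc's s⁻¹ (S.inv_mem hs)]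
        _ = ((x₀ * s * x₀⁻¹) * c') * s⁻¹ := by group
        _ = (c' * (x₀ * s * x₀⁻¹)) * s⁻¹ := by rw [hx₀s s hs]
        _ = c' * (x₀ * s * x₀⁻¹ * s⁻¹) := by group
  have hcop : (Nat.card S).Coprime (Nat.card U) :=
    Nat.Coprime.coprime_dvd_right (Subgroup.card_dvd_of_le inf_le_left) hA.cop.symm
  have hS'N : S' ≤ Subgroup.normalizer (U : Set Γ) := by
    intro t ht
    obtain ⟨s, hs, rfl⟩ := (hS' t).mp ht
    have hu : x₀ * s * x₀⁻¹ * s⁻¹ ∈ U := huel s hs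
    have h1 : x₀ * s * x₀⁻¹ = (x₀ * s * x₀⁻¹ * s⁻¹) * s := by group
    rw [h1]
    exact Subgroup.mul_mem _ (Subgroup.le_normalizer hu) (hSU hs)
  obtain ⟨k, hk, hkS⟩ := CfsgLib.Solv.glauberman_fix S U S' hSU hcop (Or.inl hsolv) hS'N
    (by
      intro t ht
      obtain ⟨s, hs, rfl⟩ := (hS' t).mp ht
      have h1 : x₀ * s * x₀⁻¹ = (x₀ * s * x₀⁻¹ * s⁻¹) * s := by group
      rw [h1]
      exact Subgroup.mul_mem _ (Subgroup.mem_sup_left (huel s hs)) (Subgroup.mem_sup_right hs))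
    (by
      intro s hs
      have h1 : s = (x₀ * s * x₀⁻¹ * s⁻¹)⁻¹ * (x₀ * s * x₀⁻¹) := by group
      rw [h1]
      exact Subgroup.mul_mem _ (Subgroup.mem_sup_left (U.inv_mem (huel s hs)))
        (Subgroup.mem_sup_right ((hS' _).mpr ⟨s, hs, rfl⟩)))
  set y := k * x₀ with hy
  have hkU := (hU k).mp hk
  have hyG : y ∈ G := G.mul_mem hkU.1 hx₀
  have hS1 : ∀ s ∈ S, ∃ s₁ ∈ S, y * s₁ * y⁻¹ = s := by
    intro s hs
    have h1 := hkS hs
    rw [Subgroup.mem_smul_pointwise_iff_exists] at h1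
    obtain ⟨t, ht, h2⟩ := h1
    obtain ⟨s₁, hs₁, rfl⟩ := (hS' t).mp ht
    refine ⟨s₁, hs₁, ?_⟩
    rw [← h2, hy]
    simp only [MulAut.smul_def, MulAut.conj_apply]
    group
  -- conjugation by `y` is a bijection of `S`
  have hinj : Function.Injective (fun s : S => (⟨y⁻¹ * s * y, by
      obtain ⟨s₁, hs₁, h1⟩ := hS1 s s.2
      rw [← h1]
      simpa [mul_assoc] using hs₁⟩ : S)) := by
    intro a b hab
    have h1 := congrArg Subtype.val hab
    simp only at h1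
    apply Subtype.ext
    have h2 : y * (y⁻¹ * (a : Γ) * y) * y⁻¹ = y * (y⁻¹ * (b : Γ) * y) * y⁻¹ := by rw [h1]
    simpa [mul_assoc] using h2
  have hsurj := Finite.injective_iff_surjective.mp hinj
  have hyS : ∀ s ∈ S, y * s * y⁻¹ ∈ S := by
    intro s hs
    obtain ⟨a, ha⟩ := hsurj ⟨s, hs⟩
    have h1 := congrArg Subtype.val ha
    simp only at h1
    rw [← h1]
    simpa [mul_assoc] using a.2
  have hdisj : G ⊓ S = ⊥ := (Subgroup.disjoint_of_coprime_natCard hA.cop).eq_bot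
  have hcent : ∀ s ∈ S, s * y = y * s := by
    intro s hs
    have h1 : y * s * y⁻¹ * s⁻¹ ∈ S := S.mul_mem (hyS s hs) (S.inv_mem hs)
    have h2 : y * s * y⁻¹ * s⁻¹ ∈ G := by
      have : y * s * y⁻¹ * s⁻¹ = y * (s * y⁻¹ * s⁻¹) := by group
      rw [this]
      exact G.mul_mem hyG (hconjG s hs _ (G.inv_mem hyG))
    have h3 : y * s * y⁻¹ * s⁻¹ ∈ G ⊓ S := ⟨h2, h1⟩
    rw [hdisj] at h3
    have h4 : y * s * y⁻¹ * s⁻¹ = 1 := Subgroup.mem_bot.mp h3
    have h5 : y * s * y⁻¹ = s := by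
      have := congrArg (· * s) h4
      simpa using this
    calc s * y = (y * s * y⁻¹) * y := by rw [h5]
      _ = y * s := by group
  refine ⟨y, ⟨hyG, Subgroup.mem_centralizer_iff.mpr hcent⟩, ?_⟩
  rw [hy]
  calc k * x₀ * c * (k * x₀)⁻¹ = k * (x₀ * c * x₀⁻¹) * k⁻¹ := by group
    _ = k * c' * k⁻¹ := by rw [h]
    _ = c' := by
      rw [hkU.2]
      group

/-- The number of `S`-invariant classes of `G` is the number of classes of the fixed points. -/
theorem card_fixed_classes {G S : Subgroup Γ} (hA : Act S G) (hsolv : Group.IsSolvable S) :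
    Nat.card {K : ConjClasses G // ∀ s ∈ S, ∀ g g' : G, (g' : Γ) = s * g * s⁻¹ → ConjClasses.mk g = K → ConjClasses.mk g' = K} =
      Nat.card (ConjClasses ↥(G ⊓ Subgroup.centralizer (S : Set Γ))) := by
  classical
  let ι : ↥(G ⊓ Subgroup.centralizer (S : Set Γ)) →* G := Subgroup.inclusion inf_le_left
  let f : ConjClasses ↥(G ⊓ Subgroup.centralizer (S : Set Γ)) → ConjClasses G := ConjClasses.map ι
  have hconjG : ∀ s ∈ S, ∀ g ∈ G, s * g * s⁻¹ ∈ G := fun s hs g hg =>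
    (Subgroup.mem_normalizer_iff.mp (hA.norm s hs) g).mp hg
  have hfix : ∀ K, ∀ s ∈ S, ∀ g g' : G, (g' : Γ) = s * g * s⁻¹ → ConjClasses.mk g = f K → ConjClasses.mk g' = f K := by
    intro K s hs g g' hg h1
    obtain ⟨c, rfl⟩ := ConjClasses.mk_surjective K
    have h2 : IsConj g (ι c) := ConjClasses.mk_eq_mk_iff_isConj.mp h1
    obtain ⟨x, hx⟩ := isConj_iff.mp h2
    apply ConjClasses.mk_eq_mk_iff_isConj.mpr
    have hc : s * (c : Γ) * s⁻¹ = c := by
      rw [(Subgroup.mem_centralizer_iff.mp c.2.2) s hs]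
      group
    have hxmem : s * (x : Γ) * s⁻¹ ∈ G := hconjG s hs x x.2
    refine isConj_iff.mpr ⟨⟨_, hxmem⟩, ?_⟩
    apply Subtype.ext
    have hx' : (x : Γ) * g * (x : Γ)⁻¹ = c := congrArg Subtype.val hx
    show s * (x : Γ) * s⁻¹ * g' * (s * (x : Γ) * s⁻¹)⁻¹ = c
    rw [hg, ← hc, ← hx']
    group
  symm
  apply Nat.card_congr
  refine Equiv.ofBijective (fun K => ⟨f K, hfix K⟩) ⟨?_, ?_⟩
  · intro K K' h
    obtain ⟨c, rfl⟩ := ConjClasses.mk_surjective K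
    obtain ⟨c', rfl⟩ := ConjClasses.mk_surjective K'
    have h1 : f (ConjClasses.mk c) = f (ConjClasses.mk c') := congrArg Subtype.val h
    have h2 : IsConj (ι c) (ι c') := ConjClasses.mk_eq_mk_iff_isConj.mp h1
    obtain ⟨x, hx⟩ := isConj_iff.mp h2
    apply ConjClasses.mk_eq_mk_iff_isConj.mpr
    obtain ⟨y, hy, hyc⟩ := conj_in_fix hA hsolv c.2 c'.2 x.2 (congrArg Subtype.val hx)
    exact isConj_iff.mpr ⟨⟨y, hy⟩, Subtype.ext hyc⟩
  · rintro ⟨K, hK⟩
    obtain ⟨g, rfl⟩ := ConjClasses.mk_surjective K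
    obtain ⟨k, hk, hkfix⟩ := exists_fixed_in_class hA hsolv g (by
      intro s hs
      have h1 := hK s hs g ⟨s * g * s⁻¹, hconjG s hs g g.2⟩ rfl rfl
      have h2 : IsConj g (⟨s * g * s⁻¹, hconjG s hs g g.2⟩ : G) := (ConjClasses.mk_eq_mk_iff_isConj.mp h1).symm
      obtain ⟨x, hx⟩ := isConj_iff.mp h2
      exact ⟨x, x.2, congrArg Subtype.val hx⟩)
    have hmemG : k * (g : Γ) * k⁻¹ ∈ G := G.mul_mem (G.mul_mem hk g.2) (G.inv_mem hk)
    have hmem : k * (g : Γ) * k⁻¹ ∈ G ⊓ Subgroup.centralizer (S : Set Γ) := by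
      refine ⟨hmemG, Subgroup.mem_centralizer_iff.mpr fun s hs => ?_⟩
      have h1 := hkfix s hs
      calc s * (k * (g : Γ) * k⁻¹) = (s * (k * g * k⁻¹) * s⁻¹) * s := by group
        _ = (k * g * k⁻¹) * s := by rw [h1]
    refine ⟨ConjClasses.mk ⟨_, hmem⟩, ?_⟩
    apply Subtype.ext
    show ConjClasses.mk (ι ⟨_, hmem⟩) = ConjClasses.mk g
    apply ConjClasses.mk_eq_mk_iff_isConj.mpr
    refine (isConj_iff.mpr ⟨⟨k, hk⟩, ?_⟩).symm
    apply Subtype.ext
    rfl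

/-- S4445 -/
theorem card_inv_eq_fixed_classes {G S : Subgroup Γ} (hA : Act S G) (hsolv : Group.IsSolvable S) :
    Nat.card {χ : IrrCharacter G // Inv S G χ} =
    Nat.card {K : ConjClasses G // ∀ s ∈ S, ∀ g g' : G, (g' : Γ) = s * g * s⁻¹ → ConjClasses.mk g = K → ConjClasses.mk g' = K} := by
  rw [card_inv_eq hA hsolv, card_fixed_classes hA hsolv, card_irr_eq]

end GP

end CfsgLib.Char
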