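import Mathlib
import Cfsg.Agent.Lib.Char.GlaubP5

/-!
# Counting characters of degree prime to a normal complement's complement
-/

set_option linter.unusedSectionVars false
set_option linter.style.haveILetI false
set_option linter.unusedSimpArgs false
set_option linter.unusedVariables false

namespace CfsgLib.Char

open Cfsg
open scoped ComplexConjugate Pointwise

universe u

namespace GP

section Ret

variable {G : Type u} [Group G] [Finite G] (K H : Subgroup G) [hK : K.Normal]

/-- The retraction onto a complement of a normal subgroup. -/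
theorem exists_retraction (hKH : K ⊔ H = ⊤) (hdisj : K ⊓ H = ⊥) :
    ∃ r : G →* H, (∀ h : H, r h = h) ∧ ∀ k ∈ K, r k = 1 := by
  classical
  let f : H →* G ⧸ K := (QuotientGroup.mk' K).comp H.subtype
  have hinj : Function.Injective f := by
    rw [injective_iff_map_eq_one]
    intro h hh
    have h1 : (h : G) ∈ K := (QuotientGroup.eq_one_iff _).mp hh
    have h2 : (h : G) ∈ K ⊓ H := ⟨h1, h.2⟩
    rw [hdisj] at h2
    exact Subtype.ext (Subgroup.mem_bot.mp h2)
  have hsurj : Function.Surjective f := by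
    intro a
    obtain ⟨g, rfl⟩ := QuotientGroup.mk_surjective a
    have hg : g ∈ K ⊔ H := by
      rw [hKH]
      trivial
    obtain ⟨k, hk, h, hh, rfl⟩ := Subgroup.mem_sup_of_normal_left.mp hg
    refine ⟨⟨h, hh⟩, ?_⟩
    show (QuotientGroup.mk h : G ⧸ K) = QuotientGroup.mk (k * h)
    rw [QuotientGroup.eq]
    have : h⁻¹ * (k * h) = h⁻¹ * k * h⁻¹⁻¹ := by group
    rw [this]
    exact hK.conj_mem k hk _
  let e : H ≃* G ⧸ K := MulEquiv.ofBijective f ⟨hinj, hsurj⟩
  refine ⟨e.symm.toMonoidHom.comp (QuotientGroup.mk' K), ?_, ?_⟩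
  · intro h
    show e.symm (f h) = h
    exact e.symm_apply_apply h
  · intro k hk
    show e.symm (QuotientGroup.mk k) = 1
    rw [(QuotientGroup.eq_one_iff k).mpr hk, map_one]

/-- Counting characters of degree prime to `|H|`. -/
theorem count_coprime_degree (hKH : K ⊔ H = ⊤) (hcop : (Nat.card K).Coprime (Nat.card H)) :
    Nat.card {χ : IrrCharacter G // (charDegree (χ : G → ℂ)).Coprime (Nat.card H)} =
      Nat.card {θ : IrrCharacter K // Inv H K θ} * Nat.card (H →* ℂˣ) := by
  classical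
  cases nonempty_fintype G
  letI : Fintype K := Fintype.ofFinite K
  have hdisj : K ⊓ H = ⊥ := (Subgroup.disjoint_of_coprime_natCard hcop).eq_bot
  have hindex : K.index = Nat.card H := (frob_isComplement K H hdisj hKH).symm.index_eq_card
  obtain ⟨r, hr1, hr2⟩ := exists_retraction K H hKH hdisj
  -- invariance under `G`
  have hinvG : ∀ θ : {θ : IrrCharacter K // Inv H K θ}, ∀ (g : G) (n : K),
      (θ.1 : K → ℂ) ⟨g * n * g⁻¹, hK.conj_mem (n : G) n.2 g⟩ = (θ.1 : K → ℂ) n := by
    rintro ⟨θ, hθ⟩ g n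
    have hg : g ∈ K ⊔ H := by
      rw [hKH]
      trivial
    obtain ⟨k, hk, h, hh, rfl⟩ := Subgroup.mem_sup_of_normal_left.mp hg
    have h1 : (θ : K → ℂ) ⟨h * n * h⁻¹, hK.conj_mem (n : G) n.2 h⟩ = (θ : K → ℂ) n := hθ h hh n _ rfl
    rw [← h1]
    have h2 := θ.2.isClassFunction ⟨h * n * h⁻¹, hK.conj_mem (n : G) n.2 h⟩ ⟨k, hk⟩
    rw [← h2]
    apply congrArg (θ : K → ℂ)
    apply Subtype.ext
    simp only [Subgroup.coe_mul, InvMemClass.coe_inv]
    group
  have hcopI : Nat.Coprime (Nat.card K) K.index := by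
    rw [hindex]
    exact hcop
  have hextn : ∀ θ : {θ : IrrCharacter K // Inv H K θ}, ∃ χ : G → ℂ, IsIrrCharacter G χ ∧ ∀ n : K, χ n = (θ.1 : K → ℂ) n :=
    fun θ => extends_of_coprime_card K (θ.1 : K → ℂ) θ.1.2 (hinvG θ) hcopI
  choose hat hhat hhatn using hextn
  have hone : ∀ g : G, ∀ θ, ((fun _ : K => (1 : ℂ)) * (θ : K → ℂ)) = θ := by
    intro g θ
    funext n
    simp
  -- the map
  let lift : (H →* ℂˣ) → (G →* ℂˣ) := fun l => l.comp r
  have hdeg : ∀ θ l, ((fun g => ((lift l g : ℂˣ) : ℂ)) * hat θ) 1 = (θ.1 : K → ℂ) 1 := by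
    intro θ l
    have h1 := hhatn θ 1
    simp only [Pi.mul_apply, map_one, Units.val_one, one_mul]
    exact h1
  have hcopdeg : ∀ θ : IrrCharacter K, ∀ d : ℕ, (θ : K → ℂ) 1 = d → d.Coprime (Nat.card H) := by
    intro θ d hd
    exact Nat.Coprime.coprime_dvd_left (degree_dvd_card θ.2 hd) hcop
  let Φ : {θ : IrrCharacter K // Inv H K θ} × (H →* ℂˣ) → {χ : IrrCharacter G // (charDegree (χ : G → ℂ)).Coprime (Nat.card H)} :=
    fun p => ⟨⟨(fun g => ((lift p.2 g : ℂˣ) : ℂ)) * hat p.1, isIrr_hom_mul _ (hhat p.1)⟩, by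
      obtain ⟨d, hd0, hd⟩ := p.1.1.2.map_one
      have h1 := hdeg p.1 p.2
      rw [hd] at h1
      show (charDegree ((fun g => ((lift p.2 g : ℂˣ) : ℂ)) * hat p.1)).Coprime _
      rw [charDegree_eq h1]
      exact hcopdeg _ d hd⟩
  rw [← Nat.card_prod]
  symm
  apply Nat.card_congr
  refine Equiv.ofBijective Φ ⟨?_, ?_⟩
  · rintro ⟨θ, l⟩ ⟨θ', l'⟩ h
    have hval : (fun g => ((lift l g : ℂˣ) : ℂ)) * hat θ = (fun g => ((lift l' g : ℂˣ) : ℂ)) * hat θ' :=
      congrArg (fun x : {χ : IrrCharacter G // (charDegree (χ : G → ℂ)).Coprime (Nat.card H)} => (x.1 : G → ℂ)) h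
    have hθ : θ = θ' := by
      apply Subtype.ext
      apply Subtype.ext
      funext n
      have h1 := congrFun hval n
      simp only [Pi.mul_apply] at h1
      have h2 : lift l n = 1 := by
        show l (r n) = 1
        rw [hr2 n n.2, map_one]
      have h3 : lift l' n = 1 := by
        show l' (r n) = 1
        rw [hr2 n n.2, map_one]
      rw [h2, h3, Units.val_one, one_mul, one_mul, hhatn, hhatn] at h1
      exact h1
    subst hθ
    have hb := mult_bijOn K (isIrrCharacter_one) θ.1.2 (fun _ _ => rfl) (hinvG θ)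
      (by rw [hone 1]; exact θ.1.2) (hhat θ) (hhatn θ)
    have hmem : ∀ l : H →* ℂˣ, (fun g => ((lift l g : ℂˣ) : ℂ)) ∈
        {β : G → ℂ | IsIrrCharacter G β ∧ classInner (indFun K (fun _ => 1)) β ≠ 0} := by
      intro l
      refine ⟨isIrr_of_hom _, ?_⟩
      rw [frobenius K _ (isIrr_of_hom _).isClassFunction]
      have h1 : (fun n : K => ((lift l n : ℂˣ) : ℂ)) = fun _ => 1 := by
        funext n
        show ((l (r n) : ℂˣ) : ℂ) = 1
        rw [hr2 n n.2, map_one, Units.val_one]
      rw [h1, classInner_irr_self isIrrCharacter_one]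
      exact one_ne_zero
    have h1 := hb.injOn (hmem l) (hmem l') hval
    have h2 : l = l' := by
      ext h
      have h3 := congrFun h1 h
      have h4 : lift l h = l h := by
        show l (r h) = l h
        rw [hr1]
      have h5 : lift l' h = l' h := by
        show l' (r h) = l' h
        rw [hr1]
      simp only [h4, h5] at h3
      exact h3
    rw [h2]
  · rintro ⟨χ, hχ⟩
    -- a constituent of the restriction
    have hresχ : IsCharacter K (fun n : K => (χ : G → ℂ) n) := χ.2.isCharacter.restrict K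
    obtain ⟨c, hc0, hc⟩ := χ.2.map_one
    have h1K : (fun n : K => (χ : G → ℂ) n) 1 ≠ 0 := χ.2.map_one_ne_zero
    obtain ⟨θ, hθ, hcon⟩ := exists_constituent hresχ h1K
    obtain ⟨d, hd0, hd⟩ := hθ.map_one
    obtain ⟨hdc, hrat⟩ := degree_ratio_dvd_index K χ.2 hθ hcon c d hc hd
    have hχc : charDegree (χ : G → ℂ) = c := charDegree_eq hc
    rw [hχc] at hχ
    have hratio : c / d = 1 := by
      have h1 : c / d ∣ c := Nat.div_dvd_of_dvd hdc
      rw [hindex] at hrat
      exact Nat.Coprime.eq_one_of_dvd (Nat.Coprime.coprime_dvd_left h1 hχ) hrat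
    have hcd : c = d := by
      have := Nat.div_mul_cancel hdc
      rw [hratio, one_mul] at this
      exact this.symm
    have hres : (fun n : K => (χ : G → ℂ) n) = θ := by
      apply eq_of_degree_eq_of_constituent hresχ hθ hcon
      show (χ : G → ℂ) 1 = θ 1
      rw [hc, hd, hcd]
    have hθinv : Inv H K ⟨θ, hθ⟩ := by
      intro s hs g g' hg
      show θ g' = θ g
      rw [← congrFun hres g', ← congrFun hres g, hg]
      exact χ.2.isClassFunction _ _
    let θ₀ : {θ : IrrCharacter K // Inv H K θ} := ⟨⟨θ, hθ⟩, hθinv⟩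
    have hb := mult_bijOn K (isIrrCharacter_one) θ₀.1.2 (fun _ _ => rfl) (hinvG θ₀)
      (by rw [hone 1]; exact θ₀.1.2) (hhat θ₀) (hhatn θ₀)
    have hmemT : (χ : G → ℂ) ∈ {ψ : G → ℂ | IsIrrCharacter G ψ ∧
        classInner (indFun K ((fun _ => 1) * (θ₀.1 : K → ℂ))) ψ ≠ 0} := by
      refine ⟨χ.2, ?_⟩
      rw [hone 1]
      rw [frobenius K _ χ.2.isClassFunction]
      show classInner (θ : K → ℂ) (fun n : K => (χ : G → ℂ) n) ≠ 0
      rw [hres, classInner_irr_self hθ]
      exact one_ne_zero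
    obtain ⟨β, ⟨hβ, hβin⟩, hβχ⟩ := hb.surjOn hmemT
    have hβχ' : β * hat θ₀ = (χ : G → ℂ) := hβχ
    have hβ1 : β 1 = 1 := by
      have h1 := congrFun hβχ' 1
      simp only [Pi.mul_apply] at h1
      have h2 : hat θ₀ 1 = d := by
        have := hhatn θ₀ 1
        rw [← hd]
        exact this
      rw [h2, hc, hcd] at h1
      have h3 : (d : ℂ) ≠ 0 := Nat.cast_ne_zero.mpr hd0.ne'
      exact mul_right_cancel₀ h3 (by rw [h1, one_mul])
    obtain ⟨lh, hlh⟩ := exists_hom_of_degree_one hβ.isCharacter hβ1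
    have hlhK := irr_inner_quot_one K β hβ hβin
    refine ⟨(θ₀, lh.comp H.subtype), ?_⟩
    apply Subtype.ext
    apply Subtype.ext
    show (fun g => ((lift (lh.comp H.subtype) g : ℂˣ) : ℂ)) * hat θ₀ = (χ : G → ℂ)
    rw [← hβχ']
    congr 1
    funext g
    have hg : g ∈ K ⊔ H := by
      rw [hKH]
      trivial
    obtain ⟨k, hk, h, hh, rfl⟩ := Subgroup.mem_sup_of_normal_left.mp hg
    rw [hlhK k hk h, hlh]
    show ((lh ((r (k * h) : H) : G) : ℂˣ) : ℂ) = ((lh h : ℂˣ) : ℂ)
    rw [map_mul, hr2 k hk, one_mul, hr1 ⟨h, hh⟩]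

/-- Two isomorphic groups have the same number of irreducible characters. -/
theorem card_irr_congr {A B : Type*} [Group A] [Group B] (e : A ≃* B) :
    Nat.card (IrrCharacter A) = Nat.card (IrrCharacter B) := by
  apply Nat.card_congr
  refine ⟨fun a => ⟨a.1 ∘ e.symm, isIrr_comp_equiv e.symm a.2⟩, fun b => ⟨b.1 ∘ e, isIrr_comp_equiv e b.2⟩, ?_, ?_⟩
  · intro a
    apply Subtype.ext
    funext x
    simp
  · intro b
    apply Subtype.ext
    funext x
    simp

/-- S4452 -/
theorem count_normalizer (hKH : K ⊔ H = ⊤) (hcop : (Nat.card K).Coprime (Nat.card H)) (hsolv : Group.IsSolvable H) :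
    Nat.card {χ : IrrCharacter G // (charDegree (χ : G → ℂ)).Coprime (Nat.card H)} =
      Nat.card {η : IrrCharacter (Subgroup.normalizer (H : Set G)) //
        (charDegree (η : Subgroup.normalizer (H : Set G) → ℂ)).Coprime (Nat.card H)} := by
  classical
  have hdisj : K ⊓ H = ⊥ := (Subgroup.disjoint_of_coprime_natCard hcop).eq_bot
  let N : Subgroup G := Subgroup.normalizer (H : Set G)
  let K' : Subgroup N := K.subgroupOf N
  let H' : Subgroup N := H.subgroupOf N
  haveI : K'.Normal := inferInstance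
  have hHN : H ≤ N := Subgroup.le_normalizer
  have eH : H' ≃* H := Subgroup.subgroupOfEquivOfLe hHN
  have hcardH : Nat.card H' = Nat.card H := Nat.card_congr eH.toEquiv
  have hK'H' : K' ⊔ H' = ⊤ := by
    rw [eq_top_iff]
    rintro ⟨x, hx⟩ -
    have hg : x ∈ K ⊔ H := by
      rw [hKH]
      trivial
    obtain ⟨k, hk, h, hh, rfl⟩ := Subgroup.mem_sup_of_normal_left.mp hg
    have hkN : k ∈ N := by
      have : k = (k * h) * h⁻¹ := by group
      rw [this]
      exact N.mul_mem hx (N.inv_mem (hHN hh))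
    have h1 : (⟨k * h, hx⟩ : N) = ⟨k, hkN⟩ * ⟨h, hHN hh⟩ := rfl
    rw [h1]
    exact Subgroup.mul_mem_sup (show (⟨k, hkN⟩ : N) ∈ K' from hk) (show (⟨h, hHN hh⟩ : N) ∈ H' from hh)
  have hcentral : ∀ k ∈ K, k ∈ N → ∀ h ∈ H, h * k = k * h := by
    intro k hk hkN h hh
    have h1 : k * h * k⁻¹ ∈ H := (Subgroup.mem_normalizer_iff.mp hkN h).mp hh
    have h2 : k * h * k⁻¹ * h⁻¹ ∈ H := H.mul_mem h1 (H.inv_mem hh)
    have h3 : k * h * k⁻¹ * h⁻¹ ∈ K := by
      have : k * h * k⁻¹ * h⁻¹ = k * (h * k⁻¹ * h⁻¹) := by group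
      rw [this]
      exact K.mul_mem hk (hK.conj_mem _ (K.inv_mem hk) h)
    have h4 : k * h * k⁻¹ * h⁻¹ ∈ K ⊓ H := ⟨h3, h2⟩
    rw [hdisj] at h4
    have h5 : k * h * k⁻¹ * h⁻¹ = 1 := Subgroup.mem_bot.mp h4
    have h6 : k * h * k⁻¹ = h := by
      have := congrArg (· * h) h5
      simpa using this
    calc h * k = (k * h * k⁻¹) * k := by rw [h6]
      _ = k * h := by group
  let e₁ : K' ≃* ↥(K ⊓ Subgroup.centralizer (H : Set G)) :=
    { toFun := fun x => ⟨x.1.1, x.2, Subgroup.mem_centralizer_iff.mpr fun h hh => hcentral _ x.2 x.1.2 h hh⟩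
      invFun := fun y => ⟨⟨y.1, by
        show (y : G) ∈ Subgroup.normalizer (H : Set G)
        rw [Subgroup.mem_normalizer_iff]
        intro h
        have hc := Subgroup.mem_centralizer_iff.mp y.2.2
        constructor
        · intro hh
          have h1 : (y : G) * h * (y : G)⁻¹ = h := by
            rw [← hc h hh]
            group
          rw [h1]
          exact hh
        · intro hh
          have h1 := hc _ hh
          have h2 : h = (y : G) * h * (y : G)⁻¹ := by
            have h3 : (y : G)⁻¹ * (((y : G) * h * (y : G)⁻¹) * (y : G)) = (y : G)⁻¹ * ((y : G) * ((y : G) * h * (y : G)⁻¹)) := by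
              rw [h1]
            simpa [mul_assoc] using h3
          rw [h2]
          exact hh⟩, y.2.1⟩
      left_inv := fun x => rfl
      right_inv := fun y => rfl
      map_mul' := fun a b => rfl }
  have hcop' : (Nat.card K').Coprime (Nat.card H') := by
    rw [hcardH, Nat.card_congr e₁.toEquiv]
    exact Nat.Coprime.coprime_dvd_left (Subgroup.card_dvd_of_le inf_le_left) hcop
  have A := count_coprime_degree K H hKH hcop
  have A' := count_coprime_degree K' H' hK'H' hcop'
  rw [hcardH] at A'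
  have hAct : Act H K := ⟨fun s _ => by
    rw [Subgroup.normalizer_eq_top]
    trivial, hcop⟩
  have hGl := card_inv_eq hAct hsolv
  have hallinv : ∀ θ : IrrCharacter K', Inv H' K' θ := by
    intro θ s hs g g' hg
    have h1 : g' = g := by
      apply Subtype.ext
      apply Subtype.ext
      have h2 := congrArg Subtype.val hg
      have h3 : (s : G) * (g : N) * (s : G)⁻¹ = (g : N) := by
        have := hcentral (g : N) g.2 (g : N).2 s hs
        rw [this]
        group
      exact h2.trans h3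
    rw [h1]
  have h1 : Nat.card {θ : IrrCharacter K' // Inv H' K' θ} = Nat.card (IrrCharacter K') :=
    Nat.card_congr (Equiv.subtypeUnivEquiv hallinv)
  have h2 := card_irr_congr e₁
  have h3 : Nat.card (H' →* ℂˣ) = Nat.card (H →* ℂˣ) := by
    apply Nat.card_congr
    refine ⟨fun f => f.comp eH.symm.toMonoidHom, fun f => f.comp eH.toMonoidHom, ?_, ?_⟩
    · intro f
      ext x
      simp
    · intro f
      ext x
      simp
  rw [A, A', h1, h2, ← hGl, h3]

end Ret

end GP

end CfsgLib.Char
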