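import Mathlib
import Cfsg.Agent.Lib.Char.ItoMichler
import Cfsg.Prelude.Def_Local

/-!
# Normal abelian Sylow subgroups and degrees: the induction
-/

set_option linter.unusedSectionVars false
set_option linter.style.haveILetI false
set_option linter.unusedSimpArgs false
set_option linter.unusedVariables false

namespace CfsgLib.Char

open Cfsg
open scoped ComplexConjugate Pointwise

universe u

/-- Every nontrivial quotient has a nontrivial normal `p`-subgroup or `p'`-subgroup. -/
def HasNormalSection (p : ℕ) (G : Type u) [Group G] : Prop :=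
  ∀ (B : Type u) [Group B] [Finite B] (f : G →* B), Function.Surjective f → Nontrivial B →
    ∃ N : Subgroup B, N.Normal ∧ N ≠ ⊥ ∧ (IsPGroup p N ∨ Nat.Coprime (Nat.card N) p)

theorem normal_sylow_of_degrees (p : ℕ) [hp : Fact p.Prime] : ∀ (n : ℕ) (G : Type u) [Group G] [Fintype G],
    Nat.card G = n → HasNormalSection p G → (∀ χ : IrrCharacter G, ¬ p ∣ charDegree (χ : G → ℂ)) →
    ∀ P : Sylow p G, (P : Subgroup G).Normal := by
  intro n
  induction n using Nat.strong_induction_on with
  | _ n IH =>
    intro G _ _ hn hgood hdeg P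
    classical
    rcases subsingleton_or_nontrivial G with hs | hnt
    · exact ⟨fun x hx g => by rwa [Subsingleton.elim (g * x * g⁻¹) x]⟩
    obtain ⟨N, hN, hne, hcase⟩ := hgood G (MonoidHom.id G) Function.surjective_id hnt
    haveI := hN
    letI : Fintype (G ⧸ N) := Fintype.ofFinite _
    have hlt : Nat.card (G ⧸ N) < n := by
      rw [← hn]
      have h1 := Subgroup.card_eq_card_quotient_mul_card_subgroup N
      have h2 : 1 < Nat.card N := (Subgroup.one_lt_card_iff_ne_bot N).mpr hne
      have h3 : 0 < Nat.card (G ⧸ N) := Nat.card_pos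
      rw [h1]
      nlinarith
    let f : G →* G ⧸ N := QuotientGroup.mk' N
    have hf : Function.Surjective f := QuotientGroup.mk'_surjective N
    have hgoodQ : HasNormalSection p (G ⧸ N) := fun B _ _ g hg hB => hgood B (g.comp f) (hg.comp hf) hB
    have hdegQ : ∀ ψ : IrrCharacter (G ⧸ N), ¬ p ∣ charDegree (ψ : G ⧸ N → ℂ) := by
      intro ψ
      have h1 := hdeg ⟨ψ.1 ∘ f, ψ.2.comp_surjective f hf⟩
      simpa [charDegree] using h1
    have hQn := IH _ hlt (G ⧸ N) rfl hgoodQ hdegQ (P.mapSurjective hf)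
    rw [Sylow.coe_mapSurjective] at hQn
    have hK : ((P : Subgroup G).map f).comap f = N ⊔ (P : Subgroup G) := by
      rw [Subgroup.comap_map_eq, QuotientGroup.ker_mk', sup_comm]
    have hKn : (N ⊔ (P : Subgroup G)).Normal := by
      rw [← hK]
      exact hQn.comap f
    rcases hcase with hpN | hcop
    · -- N is a p-group
      have h1 : IsPGroup p ↥(N ⊔ (P : Subgroup G)) := hpN.to_sup_of_normal_left P.isPGroup'
      have h2 : N ⊔ (P : Subgroup G) = P := P.is_maximal' h1 le_sup_right
      rwa [h2] at hKn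
    · -- N is a p'-group
      set K := N ⊔ (P : Subgroup G) with hKdef
      haveI := hKn
      let N' : Subgroup K := N.subgroupOf K
      let P' : Sylow p K := P.subtype le_sup_right
      have hdegK : ∀ ψ : IrrCharacter K, ¬ p ∣ charDegree (ψ : K → ℂ) := not_dvd_degree_of_normal K p hdeg
      have hcop' : Nat.Coprime (Nat.card N') p := by
        have h1 : Nat.card N' = Nat.card N := Nat.card_congr (Subgroup.subgroupOfEquivOfLe le_sup_left).toEquiv
        rw [h1]
        exact hcop
      have hsup : N' ⊔ (P' : Subgroup K) = ⊤ := by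
        rw [eq_top_iff]
        rintro ⟨k, hk⟩ _
        obtain ⟨n, hn, u, hu, rfl⟩ := Subgroup.mem_sup_of_normal_left.mp hk
        have h1 : (⟨n * u, hk⟩ : K) = ⟨n, le_sup_left (a := N) hn⟩ * ⟨u, le_sup_right (a := N) hu⟩ := rfl
        rw [h1]
        apply mul_mem
        · apply Subgroup.mem_sup_left
          exact hn
        · apply Subgroup.mem_sup_right
          rw [Sylow.coe_subtype]
          exact hu
      have hPn := sylow_normal_of_sup_eq_top p N' hcop' P' hsup hdegK
      letI huniq := Sylow.unique_of_normal P' hPn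
      haveI hsub : Subsingleton (Sylow p K) := huniq.instSubsingleton
      obtain ⟨a, ha⟩ := IsPGroup.iff_card.mp P.isPGroup'
      constructor
      intro x hx g
      have hyK : g * x * g⁻¹ ∈ K := hKn.conj_mem x (le_sup_right (a := N) hx) g
      let y' : K := ⟨g * x * g⁻¹, hyK⟩
      have hpg : IsPGroup p (Subgroup.zpowers y') := by
        apply IsPGroup.of_card (n := (orderOf x).factorization p)
        rw [Nat.card_zpowers, Subgroup.orderOf_mk]
        have h1 : orderOf (g * x * g⁻¹) = orderOf x := by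
          have := MulEquiv.orderOf_eq (MulAut.conj g) x
          simpa using this
        rw [h1]
        have h2 : orderOf x ∣ p ^ a := by
          rw [← ha]
          exact Subgroup.orderOf_dvd_natCard _ hx
        obtain ⟨j, -, hj⟩ := (Nat.dvd_prime_pow hp.out).mp h2
        rw [hj, hp.out.factorization_pow]
        simp
      obtain ⟨Q, hQ⟩ := hpg.exists_le_sylow
      have h3 : y' ∈ (P' : Subgroup K) := by
        rw [Subsingleton.elim P' Q]
        exact hQ (Subgroup.mem_zpowers y')
      rw [Sylow.coe_subtype, Subgroup.mem_subgroupOf] at h3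
      exact h3

theorem pSolvable_of_surjective {p : ℕ} (hp : p.Prime) {G K : Type*} [Group G] [Group K] (hG : IsPSolvable p G)
    (f : G →* K) (hf : Function.Surjective f) : IsPSolvable p K := by
  obtain ⟨n, H, h0, hl, hm, hn, hi⟩ := hG
  refine ⟨n, fun i => (H i).map f, ?_, ?_, ?_, ?_, ?_⟩
  · change (H 0).map f = ⊥
    rw [h0]
    exact Subgroup.map_bot f
  · change (H (Fin.last n)).map f = ⊤
    rw [hl, Subgroup.map_top_of_surjective f hf]
  · intro i j hij
    exact Subgroup.map_mono (hm hij)
  · intro i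
    haveI := hn i
    exact Subgroup.Normal.map (hn i) f hf
  · intro i
    have hle : H i.castSucc ≤ H i.succ := hm (Fin.castSucc_lt_succ).le
    have h1 : ((H i.castSucc).map f).relIndex ((H i.succ).map f) ∣
        (H i.castSucc).relIndex (H i.succ) := by
      rw [← Subgroup.relIndex_comap, Subgroup.comap_map_eq]
      exact Subgroup.relIndex_dvd_of_le_left _ le_sup_left
    rcases hi i with ⟨m, hm'⟩ | h'
    · rw [hm'] at h1
      obtain ⟨j, -, hj⟩ := (Nat.dvd_prime_pow hp).mp h1
      exact Or.inl ⟨j, hj⟩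
    · exact Or.inr (Nat.Coprime.coprime_dvd_left h1 h')

theorem hasNormalSection_of_pSolvable {p : ℕ} (hp : p.Prime) {G : Type u} [Group G] (hG : IsPSolvable p G) :
    HasNormalSection p G := by
  intro B _ _ f hf hB
  obtain ⟨n, H, h0, hl, hm, hn, hi⟩ := pSolvable_of_surjective hp hG f hf
  by_contra hcon
  push Not at hcon
  have key : ∀ i : Fin (n + 1), H i = ⊥ := by
    intro i
    induction i using Fin.induction with
    | zero => exact h0
    | succ i ih =>
      by_contra hne
      have h3 := hi i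
      rw [ih, Subgroup.relIndex_bot_left] at h3
      have h4 := hcon (H i.succ) (hn _) hne
      rcases h3 with ⟨m, hm'⟩ | h'
      · exact h4.1 (IsPGroup.of_card hm')
      · exact h4.2 h'
  have h1 := key (Fin.last n)
  rw [hl] at h1
  exact top_ne_bot h1

theorem hasNormalSection_of_solvable {p : ℕ} (hp : p.Prime) {G : Type u} [Group G] (hG : Group.IsSolvable G) :
    HasNormalSection p G := by
  intro B _ _ f hf hB
  haveI : Group.IsSolvable B := Group.isSolvable_of_surjective hf
  obtain ⟨q, A, hq, hA, hne, hqA⟩ := CfsgLib.Solv.exists_normal_pgroup B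
  refine ⟨A, hA, hne, ?_⟩
  by_cases hqp : q = p
  · subst hqp
    exact Or.inl hqA
  · right
    haveI : Fact q.Prime := ⟨hq⟩
    obtain ⟨k, hk⟩ := IsPGroup.iff_card.mp hqA
    rw [hk]
    exact Nat.Coprime.pow_left _ ((Nat.coprime_primes hq hp).mpr hqp)

section Final

variable {G : Type u} [Group G] [Fintype G]

/-- Sylow subgroup normal and degrees prime to `p`: abelian. -/
theorem comm_of_normal_sylow (p : ℕ) [hp : Fact p.Prime] (P : Sylow p G) [hP : (P : Subgroup G).Normal]
    (hdeg : ∀ χ : IrrCharacter G, ¬ p ∣ charDegree (χ : G → ℂ)) :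
    ∀ a b : (P : Subgroup G), a * b = b * a := by
  classical
  apply comm_iff_all_linear.mpr
  intro ψ
  have h1 := not_dvd_degree_of_normal (P : Subgroup G) p hdeg ψ
  obtain ⟨d, hd0, hd⟩ := ψ.2.map_one
  have h2 := degree_dvd_card ψ.2 hd
  rw [charDegree_eq hd] at h1
  obtain ⟨a, ha⟩ := IsPGroup.iff_card.mp P.isPGroup'
  rw [ha] at h2
  obtain ⟨j, -, hj⟩ := (Nat.dvd_prime_pow hp.out).mp h2
  have hj0 : j = 0 := by
    by_contra hj0
    apply h1
    rw [hj]
    exact dvd_pow_self p hj0
  rw [hj, hj0, pow_zero] at hd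
  simpa using hd

theorem degrees_of_normal_abelian (p : ℕ) [hp : Fact p.Prime] (P : Subgroup G) [hP : P.Normal]
    (hc : ∀ a ∈ P, ∀ b ∈ P, a * b = b * a) (hidx : ¬ p ∣ P.index) (χ : IrrCharacter G) :
    ¬ p ∣ charDegree (χ : G → ℂ) := by
  classical
  obtain ⟨χ, n, ρ, hρ, rfl⟩ := χ
  haveI := hρ
  have h1 := finrank_dvd_index_of_abelian ρ P hc
  have h2 : ρ.character 1 = ((Module.finrank ℂ (Fin n → ℂ) : ℕ) : ℂ) := Representation.char_one ρ
  show ¬ p ∣ charDegree ρ.character
  rw [charDegree_eq h2]
  exact fun h => hidx (h.trans h1)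

/-- S4713 -/
theorem normal_abelian_sylow_iff_of_pSolvable (p : ℕ) [hp : Fact p.Prime] (hsolv : IsPSolvable p G)
    (P : Sylow p G) : ((P : Subgroup G).Normal ∧ IsMulCommutative P) ↔
      ∀ χ : IrrCharacter G, ¬ p ∣ charDegree (χ : G → ℂ) := by
  constructor
  · rintro ⟨hn, hc⟩ χ
    haveI := hn
    refine degrees_of_normal_abelian p (P : Subgroup G) ?_ P.not_dvd_index χ
    intro a ha b hb
    have := hc.is_comm.comm (⟨a, ha⟩ : P) ⟨b, hb⟩
    exact congrArg Subtype.val this
  · intro hdeg
    have hn := normal_sylow_of_degrees p _ G rfl (hasNormalSection_of_pSolvable hp.out hsolv) hdeg P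
    haveI := hn
    refine ⟨hn, ⟨⟨fun a b => ?_⟩⟩⟩
    exact comm_of_normal_sylow p P hdeg a b

/-- S4493 -/
theorem normal_abelian_sylow_iff_of_solvable (hsolv : Group.IsSolvable G) (p : ℕ) (hp : p.Prime) :
    (∃ P : Subgroup G, P.Normal ∧ (∀ x ∈ P, ∀ y ∈ P, x * y = y * x) ∧ IsPGroup p P ∧ ¬ p ∣ P.index) ↔
      ∀ χ : IrrCharacter G, ¬ p ∣ charDegree (χ : G → ℂ) := by
  haveI : Fact p.Prime := ⟨hp⟩
  constructor
  · rintro ⟨P, hn, hc, -, hidx⟩ χ
    haveI := hn
    exact degrees_of_normal_abelian p P hc hidx χ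
  · intro hdeg
    obtain ⟨P⟩ : Nonempty (Sylow p G) := inferInstance
    have hn := normal_sylow_of_degrees p _ G rfl (hasNormalSection_of_solvable hp hsolv) hdeg P
    haveI := hn
    refine ⟨P, hn, ?_, P.isPGroup', P.not_dvd_index⟩
    intro x hx y hy
    have := comm_of_normal_sylow p P hdeg ⟨x, hx⟩ ⟨y, hy⟩
    exact congrArg Subtype.val this

end Final

end CfsgLib.Char
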