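import Cfsg.Agent.S4444
import Cfsg.Agent.Lib.Local.HSub
import Cfsg.Agent.Lib.Local.Irred
import Cfsg.Agent.Lib.Fusion.Hyper
import Cfsg.Agent.Lib.SS.Misc
import Cfsg.Agent.Lib.Solv.Nilp
import Cfsg.Agent.Lib.Char.AbelianQuot
import Cfsg.Agent.Lib.Char.FullRam
import Cfsg.Agent.Lib.Char.ItoMichler
import Cfsg.Agent.Lib.Char.BlkCount
import Cfsg.Agent.Lib.Char.UniqueSing
import Cfsg.Agent.Lib.Block.Quick2

/-!
# The intersection of the kernels of the characters of degree prime to `p`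
-/

universe u

open Cfsg CfsgLib.Block
open scoped ComplexConjugate

namespace CfsgLib.Char.KP

section Gen

variable {G : Type u} [Group G] [Fintype G]

theorem char_mul_of_ker {χ : G → ℂ} (hχ : IsIrrCharacter G χ) {n : G} (h : χ n = χ 1) (g : G) : χ (n * g) = χ g := by
  have h0 := hχ.map_one_ne_zero
  obtain ⟨m, ρ, hρ, rfl⟩ := hχ
  have h1 : ρ n = 1 := rep_eq_one_of_character_eq ρ n h0 h
  simp [Representation.character, map_mul, h1]

theorem sum_normal_mul (L : Subgroup G) [hL : L.Normal] [Fintype L] {χ : G → ℂ} (hχ : IsIrrCharacter G χ) (g : G) :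
    ∑ u : L, χ (u * g) = (∑ u : L, χ u) / χ 1 * χ g := by
  classical
  let a : GA G := mkA (fun x => if x ∈ L then 1 else 0)
  have hacoef : ∀ x, a.coeff x = if x ∈ L then 1 else 0 := fun x => coeff_mkA _ x
  have hac : IsCent a := by
    intro u x
    show a.coeff (x * u * x⁻¹) = a.coeff u
    rw [hacoef, hacoef]
    by_cases hu : u ∈ L
    · rw [if_pos hu, if_pos (hL.conj_mem u hu x)]
    · rw [if_neg hu, if_neg]
      intro h
      apply hu
      have := hL.conj_mem _ h x⁻¹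
      simpa [mul_assoc] using this
  have h1 := hat_mul_of_cent hχ hac (MonoidAlgebra.single g (1 : ℂ))
  have h2 : hat χ a = ∑ u : L, χ u := by
    rw [hat, sum_subgroup_eq L]
    · refine Finset.sum_congr rfl fun u _ => ?_
      rw [hacoef, if_pos u.2, one_mul]
    · intro x hx
      rw [hacoef, if_neg hx, zero_mul]
  have h3 : hat χ (a * MonoidAlgebra.single g (1 : ℂ)) = ∑ u : L, χ (u * g) := by
    rw [hat]
    have h4 : ∀ z, (a * MonoidAlgebra.single g (1 : ℂ)).coeff z * χ z = a.coeff (z * g⁻¹) * χ z := by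
      intro z
      rw [coeff_mul_sum', Finset.sum_eq_single g]
      · rw [coeff_single', if_pos rfl, mul_one]
      · intro v _ hv
        rw [coeff_single', if_neg (fun h => hv h.symm), mul_zero]
      · intro h0
        exact absurd (Finset.mem_univ _) h0
    simp only [h4]
    rw [← Equiv.sum_comp (Equiv.mulRight g), sum_subgroup_eq L]
    · refine Finset.sum_congr rfl fun u _ => ?_
      simp only [Equiv.coe_mulRight, mul_inv_cancel_right]
      rw [hacoef, if_pos u.2, one_mul]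
    · intro x hx
      simp only [Equiv.coe_mulRight, mul_inv_cancel_right]
      rw [hacoef, if_neg hx, zero_mul]
  rw [← h3, h1, hat_single, one_mul, om, h2]

/-- A constituent of a character `φ` sees the kernel of `φ`. -/
theorem constituent_of_ker {φ : G → ℂ} (hφ : IsCharacter G φ) {a : G} (ha : φ a = φ 1) (τ : IrrCharacter G)
    (h : classInner φ (τ : G → ℂ) ≠ 0) : (τ : G → ℂ) a = (τ : G → ℂ) 1 := by
  classical
  choose c hc using fun τ : IrrCharacter G => hφ.classInner_nat_of_char τ.2.isCharacter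
  have h1 := classFunction_apply hφ.isClassFunction a
  have h2 := classFunction_apply hφ.isClassFunction 1
  rw [ha] at h1
  rw [h1] at h2
  have h3 : ∑ ψ : IrrCharacter G, (c ψ : ℂ) * (ψ : G → ℂ) a = ∑ ψ : IrrCharacter G, (c ψ : ℂ) * (ψ : G → ℂ) 1 := by
    simpa only [hc] using h2
  have h4 : ∀ (ψ : IrrCharacter G) (z : ℂ), ((c ψ : ℂ) * z).re = (c ψ : ℝ) * z.re := by
    intro ψ z
    simp
  have h5 := congrArg Complex.re h3
  rw [Complex.re_sum, Complex.re_sum] at h5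
  simp only [h4] at h5
  have hre : ∑ ψ : IrrCharacter G, ((c ψ : ℝ) * (((ψ : G → ℂ) 1).re - ((ψ : G → ℂ) a).re)) = 0 := by
    simp only [mul_sub, Finset.sum_sub_distrib]
    linarith
  have hle : ∀ ψ : IrrCharacter G, ∃ d : ℕ, (ψ : G → ℂ) 1 = d ∧ ‖(ψ : G → ℂ) a‖ ≤ (d : ℝ) := by
    intro ψ
    obtain ⟨d, -, hd⟩ := ψ.2.map_one
    refine ⟨d, hd, ?_⟩
    have := ψ.2.isCharacter.norm_le a
    rw [hd, Complex.norm_natCast] at this
    exact this
  have hnn : ∀ ψ ∈ (Finset.univ : Finset (IrrCharacter G)), 0 ≤ (c ψ : ℝ) * (((ψ : G → ℂ) 1).re - ((ψ : G → ℂ) a).re) := by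
    intro ψ _
    obtain ⟨d, hd, hn⟩ := hle ψ
    refine mul_nonneg (Nat.cast_nonneg _) ?_
    rw [hd, Complex.natCast_re]
    have := Complex.re_le_norm ((ψ : G → ℂ) a)
    linarith
  have h6 := (Finset.sum_eq_zero_iff_of_nonneg hnn).1 hre τ (Finset.mem_univ _)
  have hcτ : (c τ : ℝ) ≠ 0 := by
    intro h0
    apply h
    rw [hc τ]
    have : c τ = 0 := by exact_mod_cast h0
    rw [this, Nat.cast_zero]
  have h7 := (mul_eq_zero.1 h6).resolve_left hcτ
  obtain ⟨d, hd, hn⟩ := hle τ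
  rw [hd, Complex.natCast_re] at h7
  rw [hd]
  have h8 := eq_of_norm_le_of_re_eq hn (by linarith : ((τ : G → ℂ) a).re = (d : ℝ))
  rw [h8]
  simp

/-- A character of degree prime to `p` has an irreducible constituent of degree prime to `p`. -/
theorem exists_pprime_constituent {p : ℕ} {Ψ : G → ℂ} (hΨ : IsCharacter G Ψ) (h : ¬ p ∣ charDegree Ψ) :
    ∃ ξ : IrrCharacter G, classInner Ψ (ξ : G → ℂ) ≠ 0 ∧ ¬ p ∣ charDegree (ξ : G → ℂ) := by
  classical
  by_contra hcon
  push Not at hcon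
  apply h
  choose c hc using fun τ : IrrCharacter G => hΨ.classInner_nat_of_char τ.2.isCharacter
  have h1 := classFunction_apply hΨ.isClassFunction 1
  have h2 : charDegree Ψ = ∑ ψ : IrrCharacter G, c ψ * charDegree (ψ : G → ℂ) := by
    have h3 : ((charDegree Ψ : ℕ) : ℂ) = ((∑ ψ : IrrCharacter G, c ψ * charDegree (ψ : G → ℂ) : ℕ) : ℂ) := by
      rw [coe_charDegree hΨ, h1]
      push_cast
      refine Finset.sum_congr rfl fun ψ _ => ?_
      rw [hc ψ, coe_charDegree ψ.2.isCharacter]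
    exact_mod_cast h3
  rw [h2]
  refine Finset.dvd_sum fun ψ _ => ?_
  by_cases h0 : c ψ = 0
  · rw [h0, zero_mul]
    exact dvd_zero _
  · exact Dvd.dvd.mul_left (hcon ψ (by rw [hc ψ]; exact_mod_cast h0)) _

/-- A character of degree prime to `p` of a `p`-group has a linear constituent. -/
theorem exists_linear_constituent {p : ℕ} [hp : Fact p.Prime] (hP : IsPGroup p G) {φ : G → ℂ} (hφ : IsCharacter G φ)
    (h : ¬ p ∣ charDegree φ) : ∃ l : G →* ℂˣ, classInner φ (fun g => ((l g : ℂˣ) : ℂ)) ≠ 0 := by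
  obtain ⟨ξ, hξ, hd⟩ := exists_pprime_constituent hφ h
  have h1 : charDegree (ξ : G → ℂ) ∣ Nat.card G := by
    apply degree_dvd_card ξ.2
    exact (coe_charDegree ξ.2.isCharacter).symm
  obtain ⟨k, hk⟩ := IsPGroup.iff_card.1 hP
  rw [hk] at h1
  obtain ⟨j, -, hj⟩ := (Nat.dvd_prime_pow hp.out).1 h1
  have hj0 : j = 0 := by
    rcases j with _ | j
    · rfl
    · exact absurd (hj ▸ dvd_pow_self p (Nat.succ_ne_zero j)) hd
  rw [hj0, pow_zero] at hj
  have h2 : (ξ : G → ℂ) 1 = 1 := by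
    rw [← coe_charDegree ξ.2.isCharacter, hj]
    simp
  obtain ⟨l, hl⟩ := CfsgLib.Char.exists_hom_of_degree_one ξ.2.isCharacter h2
  refine ⟨l, ?_⟩
  rw [← hl]
  exact hξ

end Gen

section Sub

variable {G : Type u} [Group G] [Fintype G] {p : ℕ} [hp : Fact p.Prime]

/-- (B) -/
theorem normal_le_ker_of_pprime (P : Sylow p G) (N L : Subgroup G) [hN : N.Normal] [hL : L.Normal]
    (χ : IrrCharacter G) (hd : ¬ p ∣ charDegree (χ : G → ℂ)) (hNk : ∀ n ∈ N, (χ : G → ℂ) n = (χ : G → ℂ) 1)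
    (hLle : L ≤ N ⊔ ⁅(P : Subgroup G), (P : Subgroup G)⁆) : ∀ u ∈ L, (χ : G → ℂ) u = (χ : G → ℂ) 1 := by
  classical
  letI : Fintype (P : Subgroup G) := Fintype.ofFinite _
  letI : Fintype L := Fintype.ofFinite _
  have hφ := χ.2.isCharacter.restrict (P : Subgroup G)
  have hdeg : charDegree (fun y : (P : Subgroup G) => (χ : G → ℂ) y) = charDegree (χ : G → ℂ) := rfl
  obtain ⟨l, hl⟩ := exists_linear_constituent P.2 hφ (by rwa [hdeg])
  set m : ℂ := ∑ y : (P : Subgroup G), (χ : G → ℂ) y * conj ((l y : ℂˣ) : ℂ) with hm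
  have hm0 : m ≠ 0 := by
    intro h0
    apply hl
    rw [classInner_def, ← hm, h0, mul_zero]
  have hl1 : ∀ y : (P : Subgroup G), (y : G) ∈ ⁅(P : Subgroup G), (P : Subgroup G)⁆ → l y = 1 := by
    intro y hy
    have h1 : ⁅(P : Subgroup G), (P : Subgroup G)⁆ = (commutator (P : Subgroup G)).map (P : Subgroup G).subtype :=
      (Subgroup.map_subtype_commutator _).symm
    rw [h1] at hy
    obtain ⟨y', hy', hyy⟩ := hy
    have h2 : y' = y := Subtype.ext hyy
    rw [← h2]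
    exact Abelianization.commutator_subset_ker l hy'
  have hu : ∀ u : L, ∑ y : (P : Subgroup G), (χ : G → ℂ) ((u : G) * y) * conj ((l y : ℂˣ) : ℂ) = m := by
    intro u
    have h1 : (u : G) ∈ ((N ⊔ ⁅(P : Subgroup G), (P : Subgroup G)⁆ : Subgroup G) : Set G) := hLle u.2
    rw [Subgroup.normal_mul N _, Set.mem_mul] at h1
    obtain ⟨n, hn, y', hy', hnu⟩ := h1
    have hy'P : y' ∈ (P : Subgroup G) :=
      Subgroup.commutator_le.2 (fun a ha b hb => (P : Subgroup G).mul_mem ((P : Subgroup G).mul_mem ((P : Subgroup G).mul_mem ha hb) ((P : Subgroup G).inv_mem ha)) ((P : Subgroup G).inv_mem hb)) hy'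
    let y'' : (P : Subgroup G) := ⟨y', hy'P⟩
    have hl2 : l y'' = 1 := hl1 y'' hy'
    have h2 : m = ∑ y : (P : Subgroup G), (χ : G → ℂ) ((y'' * y : (P : Subgroup G)) : G) * conj ((l (y'' * y) : ℂˣ) : ℂ) :=
      (Equiv.sum_comp (Equiv.mulLeft y'') (fun y : (P : Subgroup G) => (χ : G → ℂ) y * conj ((l y : ℂˣ) : ℂ))).symm
    rw [h2]
    refine Finset.sum_congr rfl fun y _ => ?_
    rw [map_mul, hl2, one_mul, ← hnu, mul_assoc, char_mul_of_ker χ.2 (hNk n hn)]
    rfl
  set s : ℂ := (∑ u : L, (χ : G → ℂ) u) / (χ : G → ℂ) 1 with hs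
  have h1 : ∑ y : (P : Subgroup G), ∑ u : L, (χ : G → ℂ) ((u : G) * y) * conj ((l y : ℂˣ) : ℂ) = s * m := by
    rw [hm, Finset.mul_sum]
    refine Finset.sum_congr rfl fun y _ => ?_
    rw [← Finset.sum_mul, sum_normal_mul L χ.2, mul_assoc]
  have h2 : ∑ y : (P : Subgroup G), ∑ u : L, (χ : G → ℂ) ((u : G) * y) * conj ((l y : ℂˣ) : ℂ) = (Nat.card L : ℂ) * m := by
    rw [Finset.sum_comm, Finset.sum_congr rfl fun u _ => hu u, Finset.sum_const, nsmul_eq_mul, Finset.card_univ,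
      Nat.card_eq_fintype_card]
  have h3 : s = (Nat.card L : ℂ) := mul_right_cancel₀ hm0 (h1.symm.trans h2)
  have hL0 : (Nat.card L : ℂ) ≠ 0 := by exact_mod_cast Nat.card_pos.ne'
  have h4 : ∑ u : L, (χ : G → ℂ) u ≠ 0 := by
    intro h0
    rw [hs, h0, zero_div] at h3
    exact hL0 h3.symm
  have h5 : classInner (fun u : L => (χ : G → ℂ) u) (fun _ => (1 : ℂ)) ≠ 0 := by
    rw [classInner_def]
    simp only [map_one, mul_one]
    exact mul_ne_zero (inv_ne_zero hL0) h4
  have h6 := clifford_invariant L χ.2 (isIrrCharacter_one (G := L)) (fun g => by funext n; rfl) h5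
  intro u hu'
  have h7 := congrFun h6 ⟨u, hu'⟩
  have h8 := congrFun h6 1
  simp only [Pi.smul_apply, smul_eq_mul, mul_one] at h7 h8
  rw [h7, ← h8]
  rfl

theorem pprime_of_inf_centralizer_bot (P : Sylow p G) (N : Subgroup G) [hN : N.Normal]
    (h : N ⊓ Subgroup.centralizer ((P : Subgroup G) : Set G) = ⊥) : ¬ p ∣ Nat.card N := by
  classical
  intro hd
  obtain ⟨x, hx⟩ := exists_prime_orderOf_dvd_card' (G := N) p hd
  have hxG : orderOf (x : G) = p := by rw [Subgroup.orderOf_coe, hx]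
  have hpg : IsPGroup p (Subgroup.zpowers (x : G)) := by
    rw [IsPGroup.iff_card, Nat.card_zpowers, hxG]
    exact ⟨1, (pow_one p).symm⟩
  obtain ⟨Q, hQ⟩ := hpg.exists_le_sylow
  obtain ⟨g, hg⟩ := MulAction.exists_smul_eq G Q P
  have hw : g * (x : G) * g⁻¹ ∈ (P : Subgroup G) := by
    have h1 : (x : G) ∈ (Q : Subgroup G) := hQ (Subgroup.mem_zpowers _)
    rw [← hg, Sylow.coe_subgroup_smul]
    exact Subgroup.mem_pointwise_smul_iff_inv_smul_mem.2 (by simpa [MulAut.smul_def, mul_assoc] using h1)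
  have hw1 : g * (x : G) * g⁻¹ ≠ 1 := by
    intro h1
    have h2 : (x : G) = 1 := by
      have := congrArg (fun z => g⁻¹ * z * g) h1
      simpa [mul_assoc] using this
    rw [h2, orderOf_one] at hxG
    exact hp.out.one_lt.ne hxG
  have hwN : g * (x : G) * g⁻¹ ∈ N := hN.conj_mem x x.2 g
  haveI : Group.IsNilpotent (P : Subgroup G) := P.2.isNilpotent
  have hne : N.subgroupOf (P : Subgroup G) ≠ ⊥ := by
    intro h0
    have h1 : (⟨_, hw⟩ : (P : Subgroup G)) ∈ N.subgroupOf (P : Subgroup G) := hwN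
    rw [h0, Subgroup.mem_bot] at h1
    exact hw1 (congrArg Subtype.val h1)
  have h1 := CfsgLib.Solv.normal_inf_center_ne_bot _ hne
  rcases Subgroup.bot_or_exists_ne_one (N.subgroupOf (P : Subgroup G) ⊓ Subgroup.center (P : Subgroup G)) with h2 | ⟨z, hz, hz1⟩
  · exact h1 h2
  · have hz2 : (z : G) ∈ N ⊓ Subgroup.centralizer ((P : Subgroup G) : Set G) := by
      refine ⟨hz.1, ?_⟩
      show (z : G) ∈ Subgroup.centralizer ((P : Subgroup G) : Set G)
      rw [Subgroup.mem_centralizer_iff]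
      intro y hy
      have := (Subgroup.mem_center_iff.1 hz.2) ⟨y, hy⟩
      exact congrArg Subtype.val this
    rw [h, Subgroup.mem_bot] at hz2
    exact hz1 (Subtype.ext hz2)

theorem coprime_card_sylow (P : Sylow p G) (T : Subgroup G) (hcop : ¬ p ∣ Nat.card T) :
    (Nat.card T).Coprime (Nat.card (P : Subgroup G)) := by
  obtain ⟨k, hk⟩ := IsPGroup.iff_card.1 P.2
  rw [hk]
  exact Nat.Coprime.pow_right k ((Nat.Prime.coprime_iff_not_dvd hp.out).2 hcop).symm

/-- Glauberman (i): an invariant character of a coprime normal subgroup meeting `C(P)` trivially is trivial. -/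
theorem invariant_trivial (P : Sylow p G) (T : Subgroup G) [hT : T.Normal] [Fintype T] (hcop : ¬ p ∣ Nat.card T)
    (h : T ⊓ Subgroup.centralizer ((P : Subgroup G) : Set G) = ⊥) (θ : IrrCharacter T)
    (hinv : ∀ s ∈ (P : Subgroup G), ∀ g g' : T, (g' : G) = s * g * s⁻¹ → (θ : T → ℂ) g' = (θ : T → ℂ) g) :
    ∀ t : T, (θ : T → ℂ) t = 1 := by
  classical
  let C : Subgroup G := T ⊓ Subgroup.centralizer ((P : Subgroup G) : Set G)
  letI : Fintype C := Fintype.ofFinite _
  have hCG : C ≤ T := inf_le_left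
  have hC1 : ∀ c : C, c = 1 := by
    intro c
    have h1 : (c : G) ∈ (⊥ : Subgroup G) := by
      rw [← h]
      exact c.2
    exact Subtype.ext (Subgroup.mem_bot.1 h1)
  have hres := Cfsg.Agent.S4444.result T (P : Subgroup G) (fun s _ g hg => hT.conj_mem g hg s)
    (coprime_card_sylow P T hcop) p hp.out P.2 C rfl hCG
  obtain ⟨hi, -, hiii, -⟩ := hres
  obtain ⟨β, ⟨m, hm, hpm⟩, -⟩ := hi θ hinv
  have hβ : (β : C → ℂ) = fun _ => 1 := by
    funext c
    rw [hC1 c]
    obtain ⟨d, hd0, hd⟩ := β.2.map_one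
    have h1 : d ∣ Nat.card C := degree_dvd_card β.2 hd
    have h2 : Nat.card C = 1 := by
      rw [Nat.card_eq_one_iff_unique]
      exact ⟨⟨fun a b => by rw [hC1 a, hC1 b]⟩, ⟨1⟩⟩
    rw [h2, Nat.dvd_one] at h1
    rw [hd, h1, Nat.cast_one]
  let one : IrrCharacter T := ⟨fun _ => 1, isIrrCharacter_one⟩
  have hone : classInner (fun c : C => (one : T → ℂ) ⟨c, hCG c.2⟩) (β : C → ℂ) = ((1 : ℕ) : ℂ) := by
    rw [hβ]
    have := classInner_irr_self (isIrrCharacter_one (G := C))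
    rw [Nat.cast_one]
    exact this
  have h1 := hiii θ one hinv (fun _ _ _ _ _ => rfl) β m 1 hm hpm hone (by
    rw [Nat.dvd_one]
    exact hp.out.one_lt.ne')
  intro t
  rw [h1]

/-- Glauberman (ii): if `T` meets `C(P)` nontrivially, then there is a nontrivial invariant character. -/
theorem exists_invariant_nontrivial (P : Sylow p G) (T : Subgroup G) [hT : T.Normal] [Fintype T] (hcop : ¬ p ∣ Nat.card T)
    (h : T ⊓ Subgroup.centralizer ((P : Subgroup G) : Set G) ≠ ⊥) :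
    ∃ θ : IrrCharacter T, (∀ s ∈ (P : Subgroup G), ∀ g g' : T, (g' : G) = s * g * s⁻¹ → (θ : T → ℂ) g' = (θ : T → ℂ) g) ∧
      ¬ ∀ t : T, (θ : T → ℂ) t = 1 := by
  classical
  let C : Subgroup G := T ⊓ Subgroup.centralizer ((P : Subgroup G) : Set G)
  letI : Fintype C := Fintype.ofFinite _
  have hCG : C ≤ T := inf_le_left
  have hres := Cfsg.Agent.S4444.result T (P : Subgroup G) (fun s _ g hg => hT.conj_mem g hg s)
    (coprime_card_sylow P T hcop) p hp.out P.2 C rfl hCG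
  obtain ⟨-, -, -, hiv⟩ := hres
  have hψ : ∃ ψ : IrrCharacter C, (ψ : C → ℂ) ≠ fun _ => 1 := by
    by_contra hcon
    push Not at hcon
    rcases Subgroup.bot_or_exists_ne_one C with h0 | ⟨x, hx, hx1⟩
    · exact h h0
    · have h1 := column_orthogonality (1 : C) (⟨x, hx⟩ : C)
      have h2 : ¬ IsConj (1 : C) (⟨x, hx⟩ : C) := by
        rw [isConj_one_right]
        exact fun h3 => hx1 (congrArg Subtype.val h3)
      rw [if_neg h2] at h1
      simp only [hcon, map_one, mul_one] at h1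
      rw [Finset.sum_const, nsmul_eq_mul, mul_one] at h1
      have h3 : (Finset.univ : Finset (IrrCharacter C)).card ≠ 0 := by
        rw [Finset.card_ne_zero]
        exact ⟨⟨fun _ => 1, isIrrCharacter_one⟩, Finset.mem_univ _⟩
      exact h3 (by exact_mod_cast h1)
  obtain ⟨ψ, hψ1⟩ := hψ
  obtain ⟨θ, hθ, m, hm, hpm⟩ := hiv ψ
  refine ⟨θ, hθ, fun hθ1 => ?_⟩
  have h1 : classInner (fun c : C => (θ : T → ℂ) ⟨c, hCG c.2⟩) (ψ : C → ℂ) = 0 := by
    have h2 : (fun c : C => (θ : T → ℂ) ⟨c, hCG c.2⟩) = fun _ => 1 := by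
      funext c
      exact hθ1 _
    rw [h2]
    exact classInner_irr_ne isIrrCharacter_one ψ.2 hψ1.symm
  rw [hm] at h1
  have h2 : m = 0 := by exact_mod_cast h1
  exact hpm (h2 ▸ dvd_zero p)

/-- A `P`-invariant character of a normal `p'`-subgroup lies under a `p'`-degree character. -/
theorem exists_pprime_over (P : Sylow p G) (T : Subgroup G) [hT : T.Normal] [Fintype T] (hcop : ¬ p ∣ Nat.card T)
    (θ : IrrCharacter T)
    (hinv : ∀ s ∈ (P : Subgroup G), ∀ g g' : T, (g' : G) = s * g * s⁻¹ → (θ : T → ℂ) g' = (θ : T → ℂ) g) :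
    ∃ ξ : IrrCharacter G, ¬ p ∣ charDegree (ξ : G → ℂ) ∧ classInner (fun t : T => (ξ : G → ℂ) t) (θ : T → ℂ) ≠ 0 := by
  classical
  let X : Subgroup G := T ⊔ (P : Subgroup G)
  letI : Fintype X := Fintype.ofFinite _
  have hle : T ≤ X := le_sup_left
  let T' : Subgroup X := T.subgroupOf X
  have hT' : T'.Normal := hT.subgroupOf X
  letI : Fintype T' := Fintype.ofFinite _
  let f : T' ≃* T := Subgroup.subgroupOfEquivOfLe hle
  have hfv : ∀ t : T', ((f t : T) : G) = ((t : X) : G) := fun _ => rfl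
  let θ' : T' → ℂ := (θ : T → ℂ) ∘ f
  have hθ' : IsIrrCharacter T' θ' := θ.2.comp_surjective f.toMonoidHom f.surjective
  have hinv' : ∀ (g : X) (n : T'), θ' ⟨g * n * g⁻¹, hT'.conj_mem (n : X) n.2 g⟩ = θ' n := by
    intro g n
    have hg : (g : G) ∈ ((T ⊔ (P : Subgroup G) : Subgroup G) : Set G) := g.2
    rw [Subgroup.normal_mul T _, Set.mem_mul] at hg
    obtain ⟨t, ht, y, hy, hty⟩ := hg
    let a : T := ⟨y * (f n : T) * y⁻¹, hT.conj_mem _ (f n).2 y⟩
    have h1 : (θ : T → ℂ) a = (θ : T → ℂ) (f n) := hinv y hy (f n) a rfl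
    have h2 : (θ : T → ℂ) ((⟨t, ht⟩ : T) * a * (⟨t, ht⟩ : T)⁻¹) = (θ : T → ℂ) a := θ.2.isClassFunction a _
    show (θ : T → ℂ) (f _) = (θ : T → ℂ) (f n)
    rw [← h1, ← h2]
    refine congrArg (θ : T → ℂ) (Subtype.ext ?_)
    show (g : G) * ((n : X) : G) * (g : G)⁻¹ = t * (y * ((n : X) : G) * y⁻¹) * t⁻¹
    rw [← hty]
    group
  have hcard : Nat.card T' = Nat.card T := Nat.card_congr f.toEquiv
  have hidx : T'.index ∣ Nat.card (P : Subgroup G) := by
    have h1 : T'.index = T.relIndex (P : Subgroup G) := Subgroup.relIndex_sup_left (P : Subgroup G) T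
    rw [h1]
    exact Subgroup.relIndex_dvd_card _ _
  have hco : Nat.Coprime (Nat.card T') T'.index := by
    rw [hcard]
    exact Nat.Coprime.coprime_dvd_right hidx (coprime_card_sylow P T hcop)
  obtain ⟨χh, hχh, hres⟩ := CfsgLib.Char.extends_of_coprime_card T' θ' hθ' hinv' hco
  have hχh1 : χh 1 = (θ : T → ℂ) 1 := by
    have := hres 1
    simpa [θ'] using this
  obtain ⟨d, hd0, hd⟩ := θ.2.map_one
  have hddvd : d ∣ Nat.card T := degree_dvd_card θ.2 hd
  have hXidx : ¬ p ∣ X.index := fun h =>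
    P.not_dvd_index (h.trans (Subgroup.index_dvd_of_le le_sup_right))
  have hΨ := isCharacter_indFun X hχh.isCharacter
  have hdeg : ¬ p ∣ charDegree (indFun X χh) := by
    have h1 : indFun X χh 1 = ((X.index * d : ℕ) : ℂ) := by
      rw [indFun_one, hχh1, hd]
      push_cast
      rfl
    rw [charDegree_eq h1]
    intro h2
    rcases (Nat.Prime.dvd_mul hp.out).1 h2 with h3 | h3
    · exact hXidx h3
    · exact hcop (h3.trans hddvd)
  obtain ⟨ξ, hξ, hξd⟩ := exists_pprime_constituent hΨ hdeg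
  refine ⟨ξ, hξd, ?_⟩
  rw [frobenius X χh ξ.2.isClassFunction] at hξ
  have h2 : classInner (fun x : X => (ξ : G → ℂ) x) χh ≠ 0 := by
    rw [← conj_classInner]
    exact fun h0 => hξ ((map_eq_zero (starRingEnd ℂ)).1 h0)
  exact CfsgLib.Char.FR.cons_of_res (Subgroup.inclusion hle) (ξ.2.isCharacter.restrict X) (ζ := ⟨χh, hχh⟩) θ.2
    (fun a => hres ⟨Subgroup.inclusion hle a, a.2⟩) h2

/-- (A) -/
theorem pprime_ker_of_normal (P : Sylow p G) (N : Subgroup G) [hN : N.Normal]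
    (h : N ⊓ Subgroup.centralizer ((P : Subgroup G) : Set G) = ⊥) (χ : IrrCharacter G)
    (hd : ¬ p ∣ charDegree (χ : G → ℂ)) : ∀ n ∈ N, (χ : G → ℂ) n = (χ : G → ℂ) 1 := by
  classical
  letI : Fintype N := Fintype.ofFinite _
  have hcop := pprime_of_inf_centralizer_bot P N h
  obtain ⟨τ, hτ⟩ := exists_constituent_irr N χ.2
  letI a₁ := CfsgLib.Char.BL.irrAct N
  let H : Subgroup G := MulAction.stabilizer G τ
  have hidx : H.index = (conjOrbit N (τ : N → ℂ)).card := by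
    rw [MulAction.index_stabilizer]
    have h1 : (Subtype.val '' (MulAction.orbit G τ)) = ((conjOrbit N (τ : N → ℂ) : Finset (N → ℂ)) : Set (N → ℂ)) := by
      ext ψ
      rw [Finset.mem_coe, mem_conjOrbit]
      constructor
      · rintro ⟨_, ⟨g, rfl⟩, rfl⟩
        exact ⟨g⁻¹, rfl⟩
      · rintro ⟨g, rfl⟩
        refine ⟨_, ⟨g⁻¹, rfl⟩, ?_⟩
        show conjOn N (g⁻¹)⁻¹ (τ : N → ℂ) = conjOn N g (τ : N → ℂ)
        rw [inv_inv]
    rw [← Set.ncard_coe_finset, ← h1, Set.ncard_image_of_injective _ Subtype.val_injective]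
  have hdvd := charDegree_orbit_dvd N χ.2 τ.2 hτ
  have hH : ¬ p ∣ H.index := by
    rw [hidx]
    exact fun h1 => hd ((h1.trans (Dvd.intro _ rfl)).trans hdvd)
  obtain ⟨x, hx⟩ := exists_conj_le_of_not_dvd_index (p := p) P.2 H hH
  let θ : IrrCharacter N := conjIrr N x⁻¹ τ
  have hconj : ∀ u ∈ H, conjOn N u (τ : N → ℂ) = (τ : N → ℂ) := by
    intro u hu
    have h1 : u⁻¹ ∈ H := H.inv_mem hu
    have h2 : u⁻¹ • τ = τ := h1
    have h3 : (conjIrr N (u⁻¹)⁻¹ τ : IrrCharacter N) = τ := h2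
    rw [inv_inv] at h3
    exact congrArg Subtype.val h3
  have hθinv : ∀ s ∈ (P : Subgroup G), ∀ g g' : N, (g' : G) = s * g * s⁻¹ → (θ : N → ℂ) g' = (θ : N → ℂ) g := by
    intro s hs g g' hg'
    have h1 := congrFun (hconj _ (hx s hs)) ⟨x⁻¹ * g * x⁻¹⁻¹, hN.conj_mem g g.2 x⁻¹⟩
    rw [conjOn_apply] at h1
    show (τ : N → ℂ) _ = (τ : N → ℂ) _
    rw [← h1]
    refine congrArg (τ : N → ℂ) (Subtype.ext ?_)
    show x⁻¹ * (g' : G) * x⁻¹⁻¹ = x⁻¹ * s * x * (x⁻¹ * g * x⁻¹⁻¹) * (x⁻¹ * s * x)⁻¹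
    rw [hg']
    group
  have hθ1 := invariant_trivial P N hcop h θ hθinv
  have hθf : (θ : N → ℂ) = fun _ => 1 := funext hθ1
  have hin : classInner (fun n : N => (χ : G → ℂ) n) (fun _ => (1 : ℂ)) ≠ 0 := by
    rw [← hθf]
    show classInner (fun n : N => (χ : G → ℂ) n) (conjIrr N x⁻¹ τ : N → ℂ) ≠ 0
    rw [classInner_conjIrr N χ.2.isClassFunction]
    exact hτ
  have h6 := clifford_invariant N χ.2 (isIrrCharacter_one (G := N)) (fun g => by funext n; rfl) hin
  intro u hu'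
  have h7 := congrFun h6 ⟨u, hu'⟩
  have h8 := congrFun h6 1
  simp only [Pi.smul_apply, smul_eq_mul, mul_one] at h7 h8
  rw [h7, ← h8]
  rfl

/-- The intersection of the kernels of all `p'`-degree characters. -/
def pprimeKer (p : ℕ) (G : Type u) [Group G] [Fintype G] : Subgroup G where
  carrier := {g | ∀ χ : IrrCharacter G, ¬ p ∣ charDegree (χ : G → ℂ) → (χ : G → ℂ) g = (χ : G → ℂ) 1}
  one_mem' := fun _ _ => rfl
  mul_mem' := by
    intro a b ha hb χ hχ
    rw [char_mul_of_ker χ.2 (ha χ hχ)]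
    exact hb χ hχ
  inv_mem' := by
    intro a ha χ hχ
    have := char_mul_of_ker χ.2 (ha χ hχ) a⁻¹
    rw [mul_inv_cancel] at this
    exact this.symm

theorem mem_pprimeKer {g : G} : g ∈ pprimeKer p G ↔
    ∀ χ : IrrCharacter G, ¬ p ∣ charDegree (χ : G → ℂ) → (χ : G → ℂ) g = (χ : G → ℂ) 1 := Iff.rfl

instance pprimeKer_normal : (pprimeKer p G).Normal := by
  constructor
  intro a ha g χ hχ
  rw [χ.2.isClassFunction a g]
  exact ha χ hχ

/-- (C1) -/
theorem pprimeKer_inf_sylow (P : Sylow p G) {y : G} (hyK : y ∈ pprimeKer p G) (hyP : y ∈ (P : Subgroup G)) :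
    y ∈ ⁅(P : Subgroup G), (P : Subgroup G)⁆ := by
  classical
  letI : Fintype (P : Subgroup G) := Fintype.ofFinite _
  by_contra hcon
  have h1 : ⁅(P : Subgroup G), (P : Subgroup G)⁆ = (commutator (P : Subgroup G)).map (P : Subgroup G).subtype :=
    (Subgroup.map_subtype_commutator _).symm
  let y' : (P : Subgroup G) := ⟨y, hyP⟩
  have hy' : y' ∉ commutator (P : Subgroup G) := by
    intro h2
    apply hcon
    rw [h1]
    exact ⟨y', h2, rfl⟩
  obtain ⟨l, hl⟩ := CfsgLib.Char.exists_hom_ne_of_not_mem_commutator hy'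
  have hlirr := isIrr_of_hom l
  have hΨ := isCharacter_indFun (P : Subgroup G) hlirr.isCharacter
  have hdeg : ¬ p ∣ charDegree (indFun (P : Subgroup G) (fun g => ((l g : ℂˣ) : ℂ))) := by
    have h2 : indFun (P : Subgroup G) (fun g => ((l g : ℂˣ) : ℂ)) 1 = (((P : Subgroup G).index : ℕ) : ℂ) := by
      rw [indFun_one]
      simp
    rw [charDegree_eq h2]
    exact P.not_dvd_index
  obtain ⟨ξ, hξ, hξd⟩ := exists_pprime_constituent hΨ hdeg
  rw [frobenius (P : Subgroup G) _ ξ.2.isClassFunction] at hξ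
  have h2 : classInner (fun x : (P : Subgroup G) => (ξ : G → ℂ) x) (fun g => ((l g : ℂˣ) : ℂ)) ≠ 0 := by
    rw [← conj_classInner]
    exact fun h0 => hξ ((map_eq_zero (starRingEnd ℂ)).1 h0)
  have h3 := constituent_of_ker (ξ.2.isCharacter.restrict (P : Subgroup G)) (a := y') (hyK ξ hξd)
    ⟨_, hlirr⟩ h2
  apply hl
  have h4 : ((l y' : ℂˣ) : ℂ) = 1 := by
    have : ((l 1 : ℂˣ) : ℂ) = 1 := by simp
    rw [← this]
    exact h3
  exact Units.ext h4

theorem reg_part (P : Sylow p G) : ∃ T : Subgroup G, T.Normal ∧ T ≤ pprimeKer p G ∧ ¬ p ∣ Nat.card T ∧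
    ∀ k ∈ pprimeKer p G, ∃ β ∈ T, ∃ τ ∈ (P : Subgroup G), k = β * τ := by
  classical
  let K : Subgroup G := pprimeKer p G
  let X : Subgroup G := K ⊔ (P : Subgroup G)
  have hPX : (P : Subgroup G) ≤ X := le_sup_right
  have hKX : K ≤ X := le_sup_left
  let P₁ : Sylow p X := P.subtype hPX
  have hP₁ : (P₁ : Subgroup X) = (P : Subgroup G).subgroupOf X := Sylow.coe_subtype P hPX
  have hP₁mem : ∀ u : X, u ∈ (P₁ : Subgroup X) ↔ (u : G) ∈ (P : Subgroup G) := by
    intro u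
    rw [hP₁]
    rfl
  let K' : Subgroup X := K.subgroupOf X
  haveI hK' : K'.Normal := (pprimeKer_normal (p := p) (G := G)).subgroupOf X
  have hsup : (P₁ : Subgroup X) ⊔ K' = ⊤ := by
    rw [eq_top_iff]
    intro x _
    have hx : (x : G) ∈ ((K ⊔ (P : Subgroup G) : Subgroup G) : Set G) := x.2
    haveI := pprimeKer_normal (p := p) (G := G)
    rw [Subgroup.normal_mul K _, Set.mem_mul] at hx
    obtain ⟨k, hk, y, hy, hky⟩ := hx
    have hx' : x = (⟨k, hKX hk⟩ : X) * (⟨y, hPX hy⟩ : X) := Subtype.ext hky.symm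
    rw [hx']
    exact Subgroup.mul_mem _ (Subgroup.mem_sup_right hk) (Subgroup.mem_sup_left ((hP₁mem _).2 hy))
  let R : Subgroup X := pResidual p X
  have hRK : R ≤ K' := CfsgLib.Local.pResidual_le_of_sup_eq_top P₁.2 hsup
  have hRnorm : R.Normal := CfsgLib.Tr.pResidual_normal p X
  have hRP : R ⊓ (P₁ : Subgroup X) = ⊥ := by
    apply CfsgLib.Local.HSub.tate_residual P₁
    intro u hu
    have huK : ((u : X) : G) ∈ K := hRK hu
    have huP : ((u : X) : G) ∈ (P : Subgroup G) := (hP₁mem _).1 u.2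
    have h1 := pprimeKer_inf_sylow P huK huP
    haveI : Group.IsNilpotent (P₁ : Subgroup X) := P₁.2.isNilpotent
    apply CfsgLib.SS.commutator_le_frattini_of_nilpotent
    let j : (P₁ : Subgroup X) →* G := X.subtype.comp (P₁ : Subgroup X).subtype
    have hjinj : Function.Injective j := X.subtype_injective.comp (P₁ : Subgroup X).subtype_injective
    have hjr : (⊤ : Subgroup (P₁ : Subgroup X)).map j = (P : Subgroup G) := by
      ext z
      constructor
      · rintro ⟨v, -, rfl⟩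
        exact (hP₁mem _).1 v.2
      · intro hz
        exact ⟨⟨⟨z, hPX hz⟩, (hP₁mem _).2 hz⟩, trivial, rfl⟩
    have h2 : (commutator (P₁ : Subgroup X)).map j = ⁅(P : Subgroup G), (P : Subgroup G)⁆ := by
      rw [commutator_def, Subgroup.map_commutator, hjr]
    rw [← h2] at h1
    obtain ⟨v, hv, hvu⟩ := h1
    rwa [← hjinj hvu]
  have hmul : ∀ α : X, ∃ β ∈ R, ∃ τ ∈ (P₁ : Subgroup X), α = β * τ := CfsgLib.Fusion.exists_residual_mul_sylow P₁
  have hRcard : ¬ p ∣ Nat.card R := by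
    have hc : Subgroup.IsComplement' R (P₁ : Subgroup X) := by
      apply Subgroup.isComplement'_of_disjoint_and_mul_eq_univ
      · exact disjoint_iff.2 hRP
      · ext α
        simp only [Set.mem_univ, iff_true]
        obtain ⟨β, hβ, τ, hτ, h⟩ := hmul α
        exact Set.mem_mul.2 ⟨β, hβ, τ, hτ, h.symm⟩
    rw [← hc.index_eq_card]
    exact P₁.not_dvd_index
  have hquot : IsPGroup p (X ⧸ R) := CfsgLib.Tr.isPGroup_quotient_pResidual p le_rfl
  have hreg : ∀ x : X, ¬ p ∣ orderOf x → x ∈ R := by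
    intro x hx
    obtain ⟨n, hn⟩ := hquot (x : X ⧸ R)
    have h1 : orderOf (x : X ⧸ R) ∣ p ^ n := orderOf_dvd_of_pow_eq_one hn
    have h2 : orderOf (x : X ⧸ R) ∣ orderOf x := orderOf_dvd_of_pow_eq_one (by
      rw [← QuotientGroup.mk_pow, pow_orderOf_eq_one]
      rfl)
    have h3 : Nat.Coprime (p ^ n) (orderOf x) :=
      Nat.Coprime.pow_left n ((Nat.Prime.coprime_iff_not_dvd hp.out).2 hx)
    have h4 : orderOf (x : X ⧸ R) = 1 := Nat.eq_one_of_dvd_coprimes h3 h1 h2
    have h5 : (x : X ⧸ R) = 1 := orderOf_eq_one_iff.1 h4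
    exact (QuotientGroup.eq_one_iff x).1 h5
  have hregR : ∀ x ∈ R, ¬ p ∣ orderOf x := by
    intro x hx h
    have h1 : orderOf (⟨x, hx⟩ : R) = orderOf x := Subgroup.orderOf_mk x hx
    exact hRcard (h.trans (h1 ▸ orderOf_dvd_natCard _))
  let T : Subgroup G := R.map X.subtype
  have hTK : T ≤ K := by
    rintro _ ⟨x, hx, rfl⟩
    exact hRK hx
  have hTmem : ∀ t : G, t ∈ T ↔ t ∈ K ∧ ¬ p ∣ orderOf t := by
    intro t
    constructor
    · rintro ⟨x, hx, rfl⟩
      refine ⟨hRK hx, ?_⟩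
      have : orderOf ((x : X) : G) = orderOf x := Subgroup.orderOf_coe x
      simp only [Subgroup.subtype_apply]
      rw [this]
      exact hregR x hx
    · rintro ⟨h1, h2⟩
      refine ⟨⟨t, hKX h1⟩, hreg _ ?_, rfl⟩
      have : orderOf ((⟨t, hKX h1⟩ : X) : G) = orderOf (⟨t, hKX h1⟩ : X) := Subgroup.orderOf_coe _
      rw [← this]
      exact h2
  have hTn : T.Normal := by
    constructor
    intro t ht g
    rw [hTmem] at ht ⊢
    refine ⟨(pprimeKer_normal (p := p) (G := G)).conj_mem t ht.1 g, ?_⟩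
    have h1 : orderOf (g * t * g⁻¹) = orderOf t := by
      rw [← MulAut.conj_apply, MulEquiv.orderOf_eq]
    rw [h1]
    exact ht.2
  refine ⟨T, hTn, hTK, ?_, ?_⟩
  · have h1 : Nat.card T = Nat.card R := Nat.card_congr (R.equivMapOfInjective X.subtype X.subtype_injective).toEquiv.symm
    rw [h1]
    exact hRcard
  · intro k hk
    obtain ⟨β, hβ, τ, hτ, h⟩ := hmul ⟨k, hKX hk⟩
    refine ⟨β, ⟨β, hβ, rfl⟩, τ, (hP₁mem _).1 hτ, ?_⟩
    exact congrArg Subtype.val h

end Sub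

theorem s4591_main {G : Type u} [Group G] [Finite G] (p : ℕ) [hp : Fact p.Prime] (P : Sylow p G) (N : Subgroup G) [hNn : N.Normal]
    (hN : N ⊓ Subgroup.centralizer ((P : Subgroup G) : Set G) = ⊥)
    (hmax : ∀ L : Subgroup G, L.Normal → L ⊓ Subgroup.centralizer ((P : Subgroup G) : Set G) = ⊥ → L ≤ N) :
    {g : G | ∀ χ : Cfsg.IrrCharacter G, ¬ p ∣ Cfsg.charDegree (χ : G → ℂ) → (χ : G → ℂ) g = (χ : G → ℂ) 1} =
      ((N ⊔ ⁅(P : Subgroup G), (P : Subgroup G)⁆).normalCore : Set G) := by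
  classical
  letI := Fintype.ofFinite G
  obtain ⟨T, hTn, hTK, hTc, hdec⟩ := reg_part P
  letI : Fintype T := Fintype.ofFinite _
  have hTC : T ⊓ Subgroup.centralizer ((P : Subgroup G) : Set G) = ⊥ := by
    by_contra hne
    obtain ⟨θ, hinv, hθ⟩ := exists_invariant_nontrivial P T hTc hne
    obtain ⟨ξ, hξd, hξ⟩ := exists_pprime_over P T hTc θ hinv
    apply hθ
    have h1 : ∀ t : T, (θ : T → ℂ) t = (θ : T → ℂ) 1 := fun t =>
      constituent_of_ker (ξ.2.isCharacter.restrict T) (a := t) (hTK t.2 ξ hξd) θ hξ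
    have h2 : (θ : T → ℂ) = fun _ => 1 := by
      by_contra hne2
      have h3 := classInner_irr_ne θ.2 (isIrrCharacter_one (G := T)) hne2
      rw [classInner_def] at h3
      simp only [h1, map_one, mul_one, Finset.sum_const, Finset.card_univ, nsmul_eq_mul] at h3
      have h4 : (Fintype.card T : ℂ) ≠ 0 := by exact_mod_cast Fintype.card_ne_zero
      have h5 : (Nat.card T : ℂ) ≠ 0 := by exact_mod_cast Nat.card_pos.ne'
      rcases mul_eq_zero.1 h3 with h6 | h6
      · exact inv_ne_zero h5 h6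
      · exact (mul_ne_zero h4 θ.2.map_one_ne_zero) h6
    intro t
    rw [h2]
  have hTN : T ≤ N := hmax T hTn hTC
  have hKle : pprimeKer p G ≤ N ⊔ ⁅(P : Subgroup G), (P : Subgroup G)⁆ := by
    intro k hk
    obtain ⟨β, hβ, τ, hτ, rfl⟩ := hdec k hk
    refine Subgroup.mul_mem _ (Subgroup.mem_sup_left (hTN hβ)) (Subgroup.mem_sup_right ?_)
    refine pprimeKer_inf_sylow P ?_ hτ
    have h1 := (pprimeKer p G).mul_mem ((pprimeKer p G).inv_mem (hTK hβ)) hk
    simpa using h1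
  ext g
  constructor
  · intro hg
    have hg' : g ∈ pprimeKer p G := hg
    exact (Subgroup.normal_le_normalCore.2 hKle) hg'
  · intro hg χ hd
    exact normal_le_ker_of_pprime P N _ χ hd (pprime_ker_of_normal P N hN χ hd)
      (Subgroup.normalCore_le _) g hg

end CfsgLib.Char.KP
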