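import Cfsg.Agent.Lib.Block.Infl2
import Cfsg.Agent.Lib.Char.BlkPrin
import Cfsg.Agent.Lib.Solv.CoprimeSylow
import Cfsg.Agent.Lib.H3.CycDer
import Cfsg.Agent.Lib.OOL.Stable

/-! # The principal block of a `p`-solvable group; Sylow normalisers -/

set_option autoImplicit false
set_option linter.unusedSectionVars false
set_option linter.unusedVariables false
set_option linter.style.haveILetI false

namespace CfsgLib.Char

open Cfsg CfsgLib.Block
open scoped ComplexConjugate Pointwise

universe u

section Blocks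

variable {G : Type u} [Group G] [Fintype G] {p : ℕ} [hp : Fact p.Prime] {M : Ideal AlgInt}

attribute [local instance] quotFT

/-- Brauer: for `p`-solvable groups the principal block consists of the characters with `O_{p'}` in the kernel. -/
theorem principal_eq_ker_of_pSolvable (hM : IsPModular p M) (hsolv : IsPSolvable p G) :
    principalBlock M G = {χ : IrrCharacter G | ∀ n ∈ pPrimeCore p G, (χ : G → ℂ) n = (χ : G → ℂ) 1} := by
  classical
  have hP := hM.isPrime
  haveI hNn : (pPrimeCore p G).Normal := CfsgLib.Solv.pPrimeCore_normal' p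
  have hNp : ¬ p ∣ Nat.card (pPrimeCore p G) :=
    fun hd => (Nat.Prime.coprime_iff_not_dvd hp.out).1 (CfsgLib.Solv.pPrimeCore_coprime p).symm hd
  ext χ
  constructor
  · intro hχ n hn
    exact principal_ker hM _ hNp hχ hn
  · intro hχ
    obtain ⟨χb, rfl⟩ := exists_descend (pPrimeCore p G) hχ
    have h1 := single_block_of_pSolvable hM
      (CfsgLib.PSolv.quotient hp.out hsolv (pPrimeCore p G)) (CfsgLib.Solv.pPrimeCore_quotient_eq_bot p) (oneIrr _) χb
    exact sameBlock_infl _ hP h1

/-- `S4611`, in a `Fintype` form. -/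
theorem inter_principal_iff [hsolv : Group.IsSolvable G] (π : Set ℕ) (hπ : ∀ p ∈ π, p.Prime)
    (Mf : ℕ → Ideal AlgInt) (hM : ∀ p ∈ π, IsPModular p (Mf p)) :
    (∀ χ : IrrCharacter G, (∀ p ∈ π, χ ∈ principalBlock (Mf p) G) → (χ : G → ℂ) = fun _ => 1) ↔
      ⨆ p ∈ π, pPrimeCore p G = ⊤ := by
  classical
  have hmem : ∀ χ : IrrCharacter G, (∀ p ∈ π, χ ∈ principalBlock (Mf p) G) ↔
      ∀ p ∈ π, ∀ n ∈ pPrimeCore p G, (χ : G → ℂ) n = (χ : G → ℂ) 1 := by
    intro χ
    refine forall₂_congr fun p hpi => ?_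
    haveI : Fact p.Prime := ⟨hπ p hpi⟩
    have hs : IsPSolvable p G := CfsgLib.CycDer.isPSolvable_of_solvable _ G rfl
    rw [principal_eq_ker_of_pSolvable (hM p hpi) hs]
    rfl
  constructor
  · intro h
    by_contra hne
    obtain ⟨K, hK⟩ : ∃ K : Subgroup G, K = ⨆ p ∈ π, pPrimeCore p G := ⟨_, rfl⟩
    rw [← hK] at hne
    have hKle : ∀ p ∈ π, pPrimeCore p G ≤ K := fun p hpi => by
      rw [hK]
      exact le_iSup₂_of_le p hpi le_rfl
    haveI hKn : K.Normal := by
      refine ⟨fun n hn g => ?_⟩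
      have hle : K ≤ K.comap (MulAut.conj g).toMonoidHom := by
        rw [hK]
        refine iSup₂_le fun p hpi x hx => ?_
        rw [← hK]
        haveI := CfsgLib.Solv.pPrimeCore_normal' (G := G) p
        exact hKle p hpi (Subgroup.Normal.conj_mem inferInstance x hx g)
      exact hle hn
    obtain ⟨g, hg⟩ : ∃ g : G, g ∉ K := by
      by_contra hall
      push Not at hall
      exact hne (eq_top_iff.mpr fun g _ => hall g)
    have hgne : (g : G ⧸ K) ≠ 1 := by
      rw [Ne, QuotientGroup.eq_one_iff]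
      exact hg
    have hnc : ¬ IsConj (g : G ⧸ K) 1 := by
      rw [isConj_comm, isConj_one_right]
      exact hgne
    rw [isConj_iff_irr] at hnc
    push Not at hnc
    obtain ⟨χb, hχb⟩ := hnc
    have h1 := h (inflIrr K χb) ((hmem _).2 fun p hpi n hn => by
      have hnK : n ∈ K := hKle p hpi hn
      rw [inflIrr_apply, inflIrr_apply, (QuotientGroup.eq_one_iff n).mpr hnK]
      rfl)
    have h2 := congrFun h1 g
    have h3 := congrFun h1 1
    rw [inflIrr_apply] at h2 h3
    apply hχb
    rw [h2]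
    have h4 : ((1 : G) : G ⧸ K) = 1 := rfl
    rw [h4] at h3
    exact h3.symm
  · intro h χ hχ
    obtain ⟨K, hKn, hK⟩ := exists_charKer χ.2
    have hle : ⨆ p ∈ π, pPrimeCore p G ≤ K := by
      refine iSup₂_le fun p hpi n hn => ?_
      exact (hK n).2 ((hmem χ).1 hχ p hpi n hn)
    rw [h] at hle
    have hall : ∀ g : G, (χ : G → ℂ) g = (χ : G → ℂ) 1 := fun g => (hK g).1 (hle (Subgroup.mem_top g))
    by_contra hne
    have h5 := classInner_irr_ne χ.2 (isIrrCharacter_one (G := G)) hne
    rw [classInner_def] at h5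
    have h6 : (Nat.card G : ℂ) ≠ 0 := Nat.cast_ne_zero.mpr Nat.card_pos.ne'
    simp only [map_one, mul_one, Finset.sum_congr rfl fun g _ => hall g, Finset.sum_const,
      Finset.card_univ, nsmul_eq_mul] at h5
    rw [← Nat.card_eq_fintype_card] at h5
    rcases mul_eq_zero.mp h5 with h7 | h7
    · exact inv_ne_zero h6 h7
    · exact (mul_ne_zero h6 χ.2.map_one_ne_zero) h7

end Blocks

section Sylow

variable {G : Type u} [Group G] [Finite G] {p q : ℕ} [hp : Fact p.Prime] [hq : Fact q.Prime]

theorem exists_sylow_le_of_not_dvd_index (H : Subgroup G) (h : ¬ p ∣ H.index) :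
    ∃ P : Sylow p G, (P : Subgroup G) ≤ H := by
  let R : Sylow p H := default
  have h0 : H.index ≠ 0 := Subgroup.index_ne_zero_of_finite
  have hH0 : Nat.card H ≠ 0 := Nat.card_pos.ne'
  have h1 : Nat.card ((R : Subgroup H).map H.subtype) = p ^ (Nat.card G).factorization p := by
    rw [Subgroup.card_map_of_injective H.subtype_injective, Sylow.card_eq_multiplicity,
      ← Subgroup.card_mul_index H, Nat.factorization_mul hH0 h0]
    simp [Nat.factorization_eq_zero_of_not_dvd h]
  refine ⟨Sylow.ofCard _ h1, ?_⟩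
  rw [Sylow.coe_ofCard]
  exact Subgroup.map_subtype_le _

theorem card_sup_mul_card_inf (H K : Subgroup G) [K.Normal] :
    Nat.card (H ⊔ K : Subgroup G) * Nat.card (H ⊓ K : Subgroup G) = Nat.card H * Nat.card K := by
  have h1 := Subgroup.relIndex_sup_right (H := H) (K := K)
  have h2 := Subgroup.relIndex_mul_relIndex ⊥ K (H ⊔ K) bot_le le_sup_right
  have h3 := Subgroup.relIndex_mul_relIndex ⊥ (K ⊓ H) H bot_le inf_le_right
  simp only [Subgroup.relIndex_bot_left] at h2 h3
  rw [Subgroup.inf_relIndex_right] at h3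
  rw [inf_comm] at h3
  rw [← h2, ← h3, h1]
  ring

theorem index_mul_card_inf (A O : Subgroup G) [O.Normal] (h : A ⊔ O = ⊤) :
    A.index * Nat.card (A ⊓ O : Subgroup G) = Nat.card O := by
  have h1 := card_sup_mul_card_inf A O
  rw [h, Subgroup.card_top, ← Subgroup.card_mul_index A] at h1
  have h2 : 0 < Nat.card A := Nat.card_pos
  apply Nat.eq_of_mul_eq_mul_left h2
  rw [← h1]
  ring

theorem relIndex_normal_dvd_index (C W : Subgroup G) [W.Normal] : C.relIndex W ∣ C.index := by
  have h1 := card_sup_mul_card_inf C W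
  have h2 : C.relIndex W = C.relIndex (C ⊔ W) := by
    have h3 := Subgroup.relIndex_mul_relIndex ⊥ C (C ⊔ W) bot_le le_sup_left
    have h4 := Subgroup.relIndex_mul_relIndex ⊥ (C ⊓ W) W bot_le inf_le_right
    simp only [Subgroup.relIndex_bot_left] at h3 h4
    rw [Subgroup.inf_relIndex_right] at h4
    have hC : 0 < Nat.card C := Nat.card_pos
    have hI : 0 < Nat.card (C ⊓ W : Subgroup G) := Nat.card_pos
    apply Nat.eq_of_mul_eq_mul_left hC
    apply Nat.eq_of_mul_eq_mul_right hI
    rw [h3, h1, ← h4]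
    ring
  rw [h2]
  have h3 := Subgroup.relIndex_mul_index (le_sup_left : C ≤ C ⊔ W)
  exact ⟨_, h3.symm⟩

theorem not_dvd_index_normalizer_of_sylow {X : Type*} [Group X] [Finite X] (Y : Subgroup X) [Y.Normal]
    (Q : Sylow q Y) (S : Subgroup X) (hSY : S ≤ Y)
    (hSN : S ≤ Subgroup.normalizer (((Q : Subgroup Y).map Y.subtype : Subgroup X) : Set X))
    (hS : ¬ p ∣ S.relIndex Y) :
    ¬ p ∣ (Subgroup.normalizer (((Q : Subgroup Y).map Y.subtype : Subgroup X) : Set X)).index := by
  have h1 := Sylow.normalizer_sup_eq_top Q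
  set A := Subgroup.normalizer (((Q : Subgroup Y).map Y.subtype : Subgroup X) : Set X) with hA
  have h2 := index_mul_card_inf A Y h1
  have h3 := Subgroup.relIndex_mul_relIndex ⊥ (A ⊓ Y) Y bot_le inf_le_right
  simp only [Subgroup.relIndex_bot_left] at h3
  have h4 : A.index = (A ⊓ Y).relIndex Y := by
    have hI : 0 < Nat.card (A ⊓ Y : Subgroup X) := Nat.card_pos
    refine Nat.eq_of_mul_eq_mul_right hI ?_
    rw [h2, mul_comm ((A ⊓ Y).relIndex Y), h3]
  rw [h4]
  exact fun hd => hS (hd.trans (Subgroup.relIndex_dvd_of_le_left Y (le_inf hSN hSY)))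

/-- Lifting `q`-elements along a surjection. -/
theorem exists_lift_pElement {K : Type*} [Group K] [Finite K] (f : G →* K) (hf : Function.Surjective f) {y : K}
    (hy : ∃ k : ℕ, orderOf y = q ^ k) : ∃ x : G, f x = y ∧ ∃ k : ℕ, orderOf x = q ^ k := by
  obtain ⟨k, hk⟩ := hy
  have h1 : IsPGroup q (Subgroup.zpowers y) := by
    apply IsPGroup.of_card (n := k)
    rw [Nat.card_zpowers, hk]
  obtain ⟨Qb, hQb⟩ := h1.exists_le_sylow
  obtain ⟨Q, rfl⟩ := Sylow.mapSurjective_surjective hf q Qb
  have h2 : y ∈ ((Q.mapSurjective hf : Sylow q K) : Subgroup K) := hQb (Subgroup.mem_zpowers y)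
  rw [Sylow.coe_mapSurjective] at h2
  obtain ⟨x, hx, rfl⟩ := h2
  refine ⟨x, rfl, ?_⟩
  obtain ⟨n, hn⟩ := (IsPGroup.iff_orderOf.mp Q.isPGroup') ⟨x, hx⟩
  exact ⟨n, by rwa [Subgroup.orderOf_mk] at hn⟩

/-- Class sizes of quotient elements. -/
theorem not_dvd_index_centralizer_map {K : Type*} [Group K] [Finite K] (f : G →* K) (hf : Function.Surjective f)
    {x : G} (h : ¬ p ∣ (Subgroup.centralizer ({x} : Set G)).index) :
    ¬ p ∣ (Subgroup.centralizer ({f x} : Set K)).index := by
  intro hd
  apply h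
  have h1 : (Subgroup.centralizer ({x} : Set G)).map f ≤ Subgroup.centralizer ({f x} : Set K) := by
    rintro _ ⟨c, hc, rfl⟩
    have hc' : c ∈ Subgroup.centralizer ({x} : Set G) := hc
    rw [Subgroup.mem_centralizer_singleton_iff] at hc' ⊢
    rw [← map_mul, ← map_mul, hc']
  exact (hd.trans (Subgroup.index_dvd_of_le h1)).trans (Subgroup.index_map_dvd _ hf)

/-- `q` not dividing the index of `O_{p'}(G)` gives a Sylow normaliser. -/
theorem exists_normalizes_of_not_dvd_index (h : ¬ q ∣ (pPrimeCore p G).index) :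
    ∃ (P : Sylow p G) (Q : Sylow q G), (P : Subgroup G) ≤ Subgroup.normalizer ((Q : Subgroup G) : Set G) := by
  haveI hn : (pPrimeCore p G).Normal := CfsgLib.Solv.pPrimeCore_normal' p
  let Q : Sylow q G := default
  have hQO : (Q : Subgroup G) ≤ pPrimeCore p G := by
    set f := QuotientGroup.mk' (pPrimeCore p G) with hf
    have h1 : IsPGroup q ((Q : Subgroup G).map f) := Q.isPGroup'.map f
    have h2 : Nat.card ((Q : Subgroup G).map f) ∣ (pPrimeCore p G).index :=
      Subgroup.card_subgroup_dvd_card _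
    obtain ⟨n, hn'⟩ := IsPGroup.iff_card.mp h1
    have h3 : n = 0 := by
      by_contra h0
      apply h
      rw [hn'] at h2
      exact (dvd_pow_self q h0).trans h2
    rw [h3, pow_zero] at hn'
    have h4 : (Q : Subgroup G).map f = ⊥ := Subgroup.card_eq_one.mp hn'
    intro x hx
    have h5 : f x ∈ (Q : Subgroup G).map f := Subgroup.mem_map_of_mem f hx
    rw [h4, Subgroup.mem_bot] at h5
    rwa [hf, QuotientGroup.mk'_apply, QuotientGroup.eq_one_iff] at h5
  have h1 := Sylow.normalizer_sup_eq_top' Q hQO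
  have h2 := index_mul_card_inf _ _ h1
  have h3 : ¬ p ∣ Nat.card (pPrimeCore p G) := fun hd =>
    (Nat.Prime.coprime_iff_not_dvd hp.out).1 (CfsgLib.Solv.pPrimeCore_coprime p).symm hd
  have h4 : ¬ p ∣ (Subgroup.normalizer ((Q : Subgroup G) : Set G)).index := fun hd =>
    h3 (by rw [← h2]; exact hd.trans (Dvd.intro _ rfl))
  obtain ⟨P, hP⟩ := exists_sylow_le_of_not_dvd_index _ h4
  exact ⟨P, Q, hP⟩

/-- **S4602.** -/
theorem normalizes_iff_of_pSolvable (hpq : p ≠ q) (hsolv : IsPSolvable p G) :
    (∃ (P : Sylow p G) (Q : Sylow q G), (P : Subgroup G) ≤ Subgroup.normalizer ((Q : Subgroup G) : Set G)) ↔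
      ¬ q ∣ (pPrimeCore p G).index := by
  constructor
  · rintro ⟨P, Q, hPQ⟩ hd
    haveI hn : (pPrimeCore p G).Normal := CfsgLib.Solv.pPrimeCore_normal' p
    set O := pPrimeCore p G with hO
    set f := QuotientGroup.mk' O with hf
    have hfs : Function.Surjective f := QuotientGroup.mk'_surjective O
    have hbot : pPrimeCore p (G ⧸ O) = ⊥ := CfsgLib.Solv.pPrimeCore_quotient_eq_bot p
    have hsq : IsPSolvable p (G ⧸ O) := CfsgLib.PSolv.quotient hp.out hsolv O
    have hC := CfsgLib.PSolv.centralizer_pCore_le hsq hbot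
    set U := pCore p (G ⧸ O) with hU
    haveI hUn : U.Normal := CfsgLib.Solv.pCore_normal' p
    have hUp : IsPGroup p U := CfsgLib.Solv.pCore_isPGroup p
    have hUP : U ≤ ((P.mapSurjective hfs : Sylow p (G ⧸ O)) : Subgroup (G ⧸ O)) :=
      CfsgLib.PLocal.pCore_le_sylow _
    -- the image of `Q` is nontrivial
    have hQb : ((Q.mapSurjective hfs : Sylow q (G ⧸ O)) : Subgroup (G ⧸ O)) ≠ ⊥ := by
      intro h0
      have h1 := Sylow.card_eq_multiplicity (Q.mapSurjective hfs : Sylow q (G ⧸ O))
      rw [h0, Subgroup.card_bot] at h1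
      have h2 : q ∣ Nat.card (G ⧸ O) := hd
      have h3 : (Nat.card (G ⧸ O)).factorization q ≠ 0 :=
        Nat.one_le_iff_ne_zero.mp ((hq.out.dvd_iff_one_le_factorization Nat.card_pos.ne').mp h2)
      have h4 : q ^ (Nat.card (G ⧸ O)).factorization q ≠ 1 :=
        (Nat.one_lt_pow h3 hq.out.one_lt).ne'
      exact h4 h1.symm
    set Qb : Subgroup (G ⧸ O) := ((Q.mapSurjective hfs : Sylow q (G ⧸ O)) : Subgroup (G ⧸ O)) with hQbdef
    have hQbp : IsPGroup q Qb := (Q.mapSurjective hfs : Sylow q (G ⧸ O)).isPGroup'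
    have hPn : ((P.mapSurjective hfs : Sylow p (G ⧸ O)) : Subgroup (G ⧸ O)) ≤
        Subgroup.normalizer (Qb : Set (G ⧸ O)) := by
      rw [Sylow.coe_mapSurjective, hQbdef, Sylow.coe_mapSurjective]
      rintro _ ⟨x, hx, rfl⟩
      exact Subgroup.le_normalizer_map f (Subgroup.mem_map_of_mem f (hPQ hx))
    have hdisj : Disjoint U Qb := IsPGroup.disjoint_of_ne p q hpq U Qb hUp hQbp
    have hQU : Qb ≤ U := by
      apply le_trans _ hC
      intro y hy
      rw [Subgroup.mem_centralizer_iff]
      intro u hu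
      have hu' : u ∈ Subgroup.normalizer (Qb : Set (G ⧸ O)) := hPn (hUP hu)
      have h1 : u * y * u⁻¹ * y⁻¹ ∈ U := by
        have h2 := hUn.conj_mem u⁻¹ (U.inv_mem hu) y
        have h3 : u * y * u⁻¹ * y⁻¹ = u * (y * u⁻¹ * y⁻¹) := by group
        rw [h3]
        exact U.mul_mem hu h2
      have h2 : u * y * u⁻¹ * y⁻¹ ∈ Qb :=
        Qb.mul_mem ((Subgroup.mem_normalizer_iff.mp hu' y).mp hy) (Qb.inv_mem hy)
      have h3 : u * y * u⁻¹ * y⁻¹ = 1 := by
        have := hdisj.le_bot (Subgroup.mem_inf.mpr ⟨h1, h2⟩)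
        simpa using this
      have h4 : u * y * u⁻¹ = y := by
        rw [mul_inv_eq_one] at h3
        exact h3
      rw [mul_inv_eq_iff_eq_mul] at h4
      exact h4
    exact hQb (le_bot_iff.mp fun y hy => hdisj.le_bot (Subgroup.mem_inf.mpr ⟨hQU hy, hy⟩))
  · exact exists_normalizes_of_not_dvd_index

/-- The `p`-solvable part of `S4601`. -/
theorem not_dvd_index_core_of_class (hpq : p ≠ q) (hsolv : IsPSolvable p G)
    (h : ∀ y : G, (∃ k : ℕ, orderOf y = q ^ k) → ¬ p ∣ (Subgroup.centralizer ({y} : Set G)).index) :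
    ¬ q ∣ (pPrimeCore p G).index := by
  haveI hn : (pPrimeCore p G).Normal := CfsgLib.Solv.pPrimeCore_normal' p
  set O := pPrimeCore p G with hO
  set f := QuotientGroup.mk' O with hf
  have hfs : Function.Surjective f := QuotientGroup.mk'_surjective O
  have hbot : pPrimeCore p (G ⧸ O) = ⊥ := CfsgLib.Solv.pPrimeCore_quotient_eq_bot p
  have hsq : IsPSolvable p (G ⧸ O) := CfsgLib.PSolv.quotient hp.out hsolv O
  have hC := CfsgLib.PSolv.centralizer_pCore_le hsq hbot
  set U := pCore p (G ⧸ O) with hU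
  have hUp : IsPGroup p U := CfsgLib.Solv.pCore_isPGroup p
  intro hd
  obtain ⟨yb, hyb⟩ := exists_prime_orderOf_dvd_card' (G := G ⧸ O) q hd
  obtain ⟨x, hx, hxo⟩ := exists_lift_pElement f hfs ⟨1, by rw [hyb, pow_one]⟩
  have h1 := not_dvd_index_centralizer_map f hfs (h x hxo)
  rw [hx] at h1
  obtain ⟨Pb, hPb⟩ := exists_sylow_le_of_not_dvd_index _ h1
  have hUPb : U ≤ (Pb : Subgroup (G ⧸ O)) := CfsgLib.PLocal.pCore_le_sylow Pb
  have hyU : yb ∈ U := by
    apply hC
    rw [Subgroup.mem_centralizer_iff]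
    intro u hu
    have h2 := hPb (hUPb hu)
    rw [Subgroup.mem_centralizer_singleton_iff] at h2
    exact h2
  obtain ⟨n, hn'⟩ := IsPGroup.iff_orderOf.mp hUp ⟨yb, hyU⟩
  rw [Subgroup.orderOf_mk, hyb] at hn'
  have h3 : q ∣ p ^ n := by rw [← hn']
  exact hpq ((Nat.prime_dvd_prime_iff_eq hq.out hp.out).mp (hq.out.dvd_of_dvd_pow h3)).symm

theorem normalizes_of_class_qSolvable (hpq : p ≠ q) : ∀ (n : ℕ) (G : Type u) [Group G] [Finite G],
    Nat.card G = n → IsPSolvable q G →
    (∀ y : G, (∃ k : ℕ, orderOf y = q ^ k) → ¬ p ∣ (Subgroup.centralizer ({y} : Set G)).index) →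
    ∃ (P : Sylow p G) (Q : Sylow q G), (P : Subgroup G) ≤ Subgroup.normalizer ((Q : Subgroup G) : Set G) := by
  intro n
  induction n using Nat.strong_induction_on with
  | _ n ih =>
    intro G _ _ hn hsolv h
    by_cases hG : Nontrivial G
    swap
    · rw [not_nontrivial_iff_subsingleton] at hG
      refine ⟨default, default, fun x _ => ?_⟩
      rw [Subsingleton.elim x 1]
      exact Subgroup.one_mem _
    haveI hWn : (pPrimeCore q G).Normal := CfsgLib.Solv.pPrimeCore_normal' q
    set W := pPrimeCore q G with hW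
    set Ub := pCore q (G ⧸ W) with hUb
    haveI hUbn : Ub.Normal := CfsgLib.Solv.pCore_normal' q
    have hUbp : IsPGroup q Ub := CfsgLib.Solv.pCore_isPGroup q
    set fW := QuotientGroup.mk' W with hfW
    have hfWs : Function.Surjective fW := QuotientGroup.mk'_surjective W
    set N : Subgroup G := Ub.comap fW with hN
    haveI hNn : N.Normal := Subgroup.Normal.comap hUbn fW
    have hWN : W ≤ N := by
      intro x hx
      show fW x ∈ Ub
      have : fW x = 1 := by
        rw [hfW, QuotientGroup.mk'_apply, QuotientGroup.eq_one_iff]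
        exact hx
      rw [this]
      exact Ub.one_mem
    have hNmap : N.map fW = Ub := Subgroup.map_comap_eq_self_of_surjective hfWs Ub
    have hNbot : N ≠ ⊥ := by
      intro h0
      have hW0 : W = ⊥ := le_bot_iff.mp (h0 ▸ hWN)
      have hU0 : Ub = ⊥ := by
        rw [← hNmap, h0, Subgroup.map_bot]
      haveI : Nontrivial (G ⧸ W) := by
        obtain ⟨x, hx⟩ := exists_ne (1 : G)
        refine ⟨(x : G ⧸ W), 1, ?_⟩
        rw [Ne, QuotientGroup.eq_one_iff, hW0, Subgroup.mem_bot]
        exact hx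
      have hsq : IsPSolvable q (G ⧸ W) := CfsgLib.PSolv.quotient hq.out hsolv W
      rcases CfsgLib.PSolv.core_ne_bot hsq with h1 | h1
      · exact h1 hU0
      · exact h1 (CfsgLib.Solv.pPrimeCore_quotient_eq_bot q)
    set f := QuotientGroup.mk' N with hf
    have hfs : Function.Surjective f := QuotientGroup.mk'_surjective N
    have hcard : Nat.card (G ⧸ N) < n := by
      rw [← hn, ← Subgroup.card_mul_index N]
      have h1 : 1 < Nat.card N := by
        rw [Finite.one_lt_card_iff_nontrivial]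
        exact (Subgroup.nontrivial_iff_ne_bot N).mpr hNbot
      have h2 : Nat.card (G ⧸ N) = N.index := rfl
      rw [h2]
      have h3 : 0 < N.index := Nat.pos_of_ne_zero Subgroup.index_ne_zero_of_finite
      nlinarith
    obtain ⟨Pb, Qb, hPQb⟩ := ih _ hcard (G ⧸ N) rfl (CfsgLib.PSolv.quotient hq.out hsolv N) (by
      intro yb hyb
      obtain ⟨x, hx, hxo⟩ := exists_lift_pElement f hfs hyb
      rw [← hx]
      exact not_dvd_index_centralizer_map f hfs (h x hxo))
    set Y : Subgroup G := (Qb : Subgroup (G ⧸ N)).comap f with hY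
    set X : Subgroup G := (Subgroup.normalizer ((Qb : Subgroup (G ⧸ N)) : Set (G ⧸ N))).comap f with hX
    have hYX : Y ≤ X := Subgroup.comap_mono Subgroup.le_normalizer
    have hXY : X ≤ Subgroup.normalizer (Y : Set G) := by
      intro x hx
      rw [Subgroup.mem_normalizer_iff]
      intro y
      have hx' : f x ∈ Subgroup.normalizer ((Qb : Subgroup (G ⧸ N)) : Set (G ⧸ N)) := hx
      have h1 := Subgroup.mem_normalizer_iff.mp hx' (f y)
      show f y ∈ (Qb : Subgroup (G ⧸ N)) ↔ f (x * y * x⁻¹) ∈ (Qb : Subgroup (G ⧸ N))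
      rw [map_mul, map_mul, map_inv]
      exact h1
    haveI hY'n : (Y.subgroupOf X).Normal := CfsgLib.Solv.normal_subgroupOf_of_le_normalizer hXY
    have hNY : N ≤ Y := by
      intro x hx
      show f x ∈ (Qb : Subgroup (G ⧸ N))
      have : f x = 1 := by
        rw [hf, QuotientGroup.mk'_apply, QuotientGroup.eq_one_iff]
        exact hx
      rw [this]
      exact Subgroup.one_mem _
    have hWY : W ≤ Y := hWN.trans hNY
    let Q₀ : Sylow q ↥(Y.subgroupOf X) := default
    set Q₁ : Subgroup X := (Q₀ : Subgroup ↥(Y.subgroupOf X)).map (Y.subgroupOf X).subtype with hQ₁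
    set Q₂ : Subgroup G := Q₁.map X.subtype with hQ₂
    have hQ₂Y : Q₂ ≤ Y := by
      rintro _ ⟨_, ⟨z, hz, rfl⟩, rfl⟩
      exact Subgroup.mem_subgroupOf.mp z.2
    have hcardY : Nat.card ↥(Y.subgroupOf X) = Nat.card Y :=
      Nat.card_congr (Subgroup.subgroupOfEquivOfLe hYX).toEquiv
    have hQ₂card : Nat.card Q₂ = q ^ (Nat.card G).factorization q := by
      rw [hQ₂, Subgroup.card_map_of_injective X.subtype_injective, hQ₁,
        Subgroup.card_map_of_injective (Y.subgroupOf X).subtype_injective, Sylow.card_eq_multiplicity, hcardY,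
        ← Subgroup.card_mul_index Y, Nat.factorization_mul Nat.card_pos.ne' Subgroup.index_ne_zero_of_finite]
      have h1 : Y.index = (Qb : Subgroup (G ⧸ N)).index := Subgroup.index_comap_of_surjective _ hfs
      have h2 : ¬ q ∣ Y.index := by
        rw [h1]
        exact Qb.not_dvd_index
      simp [Nat.factorization_eq_zero_of_not_dvd h2]
    have hQ₂p : IsPGroup q Q₂ := IsPGroup.of_card hQ₂card
    have hQ₂W : Q₂ ≤ Subgroup.normalizer (W : Set G) := by
      rw [Subgroup.normalizer_eq_top_iff.mpr hWn]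
      exact le_top
    have hWcop : (Nat.card W).Coprime q := CfsgLib.Solv.pPrimeCore_coprime q
    have hQ₂cop : (Nat.card Q₂).Coprime (Nat.card W) := by
      rw [hQ₂card]
      exact Nat.Coprime.pow_left _ hWcop.symm
    haveI hQ₂nil : Group.IsNilpotent Q₂ := hQ₂p.isNilpotent
    obtain ⟨S, hS, hSQ⟩ := CfsgLib.Solv.exists_invariant_sylow (p := p) Q₂ W hQ₂W hQ₂cop (Or.inl inferInstance)
    have hSW : S ≤ W := hS.1
    -- every element of `Q₂` centralizes `S`
    have hcent : ∀ y ∈ Q₂, ∀ s ∈ S, y * s = s * y := by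
      intro y hy s hs
      obtain ⟨e, he⟩ := IsPGroup.iff_orderOf.mp hQ₂p ⟨y, hy⟩
      rw [Subgroup.orderOf_mk] at he
      obtain ⟨Py, hPy⟩ := exists_sylow_le_of_not_dvd_index _ (h y ⟨e, he⟩)
      have hT : CfsgLib.Solv.IsSylowIn p ((Py : Subgroup G) ⊓ W) W := by
        refine ⟨inf_le_right, Py.isPGroup'.to_le inf_le_left, ?_⟩
        rw [Subgroup.inf_relIndex_right]
        exact fun hd => Py.not_dvd_index (hd.trans (relIndex_normal_dvd_index _ _))
      have hAW : Subgroup.zpowers y ≤ Subgroup.normalizer (W : Set G) := by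
        rw [Subgroup.normalizer_eq_top_iff.mpr hWn]
        exact le_top
      have hAcop : (Nat.card (Subgroup.zpowers y)).Coprime (Nat.card W) := by
        rw [Nat.card_zpowers, he]
        exact Nat.Coprime.pow_left _ hWcop.symm
      have hAnil : Group.IsSolvable (Subgroup.zpowers y) := inferInstance
      have hAT : Subgroup.zpowers y ≤ Subgroup.normalizer ((((Py : Subgroup G) ⊓ W : Subgroup G)) : Set G) := by
        rw [Subgroup.zpowers_le, Subgroup.mem_normalizer_iff]
        intro t
        constructor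
        · intro ht
          have h1 := Subgroup.mem_centralizer_singleton_iff.mp (hPy ht.1)
          have h2 : y * t * y⁻¹ = t := by rw [← h1]; group
          rw [h2]
          exact ht
        · intro ht
          have h1 := Subgroup.mem_centralizer_singleton_iff.mp (hPy ht.1)
          have h2 : y * t = (y * t * y⁻¹) * y := by group
          have h3 : t = y⁻¹ * (y * t * y⁻¹) * y := by group
          have h4 : y⁻¹ * (y * t * y⁻¹) * y = y * t * y⁻¹ := by
            have h5 : (y * t * y⁻¹) * y = y * (y * t * y⁻¹) := h1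
            rw [mul_assoc, h5]
            group
          rw [h3, h4]
          exact ht
      have hAS : Subgroup.zpowers y ≤ Subgroup.normalizer (S : Set G) := by
        rw [Subgroup.zpowers_le]
        exact hSQ hy
      obtain ⟨c, hc, hcS⟩ := CfsgLib.Solv.invariant_sylow_conj (p := p) (Subgroup.zpowers y) W hAW hAcop (Or.inl hAnil)
        hT hS hAT hAS
      have hcy : c * y = y * c := by
        have h1 := Subgroup.mem_centralizer_iff.mp (Subgroup.mem_inf.mp hc).2 y (Subgroup.mem_zpowers y)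
        exact h1.symm
      have hs' : s ∈ MulAut.conj c • ((Py : Subgroup G) ⊓ W) := by
        rw [hcS]; exact hs
      rw [CfsgLib.Solv.mem_conj_smul] at hs'
      have hty := Subgroup.mem_centralizer_singleton_iff.mp (hPy hs'.1)
      have h1 : s = c * (c⁻¹ * s * c) * c⁻¹ := by group
      rw [h1]
      have hc' : Commute y c := hcy.symm
      have ht' : Commute y (c⁻¹ * s * c) := (show Commute (c⁻¹ * s * c) y from hty).symm
      exact (hc'.mul_right ht').mul_right hc'.inv_right
    -- Frattini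
    have hSY : S ≤ Y := hSW.trans hWY
    have hSrel : ¬ p ∣ S.relIndex Y := by
      rw [← Subgroup.relIndex_mul_relIndex S W Y hSW hWY, ← Subgroup.relIndex_mul_relIndex W N Y hWN hNY]
      have h1 : N.relIndex Y = Nat.card (Qb : Subgroup (G ⧸ N)) := by
        have h2 := Subgroup.relIndex_ker (K := Y) f
        rw [hf, QuotientGroup.ker_mk'] at h2
        rw [h2, ← hf, hY, Subgroup.map_comap_eq_self_of_surjective hfs]
      have h3 : W.relIndex N = Nat.card Ub := by
        have h2 := Subgroup.relIndex_ker (K := N) fW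
        rw [hfW, QuotientGroup.ker_mk'] at h2
        rw [h2, ← hfW, hNmap]
      obtain ⟨a, ha⟩ := IsPGroup.iff_card.mp hUbp
      obtain ⟨b, hb⟩ := IsPGroup.iff_card.mp Qb.isPGroup'
      rw [h1, h3, ha, hb]
      intro hd
      rcases (hp.out.dvd_mul).mp hd with h4 | h4
      · exact hS.2.2 h4
      · rcases (hp.out.dvd_mul).mp h4 with h5 | h5
        · exact hpq ((Nat.prime_dvd_prime_iff_eq hp.out hq.out).mp (hp.out.dvd_of_dvd_pow h5))
        · exact hpq ((Nat.prime_dvd_prime_iff_eq hp.out hq.out).mp (hp.out.dvd_of_dvd_pow h5))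
    have hSN : S.subgroupOf X ≤ Subgroup.normalizer (Q₁ : Set X) := by
      intro z hz
      have hz' : (z : G) ∈ S := Subgroup.mem_subgroupOf.mp hz
      rw [Subgroup.mem_normalizer_iff]
      intro x
      have hcomm : ∀ w : X, w ∈ Q₁ → z * w = w * z := by
        intro w hw
        have h1 := hcent (w : G) (Subgroup.mem_map_of_mem _ hw) (z : G) hz'
        exact Subtype.ext h1.symm
      constructor
      · intro hx
        have h1 : z * x * z⁻¹ = x := by
          rw [hcomm x hx]
          group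
        rw [h1]
        exact hx
      · intro hx
        have h1 := hcomm _ hx
        have h2 : x = z⁻¹ * (z * x * z⁻¹) * z := by group
        have h3 : z⁻¹ * (z * x * z⁻¹) * z = z * x * z⁻¹ := by
          rw [mul_assoc, ← h1]
          group
        rw [h2, h3]
        exact hx
    have hA := not_dvd_index_normalizer_of_sylow (p := p) (q := q) (X := X) (Y.subgroupOf X) Q₀ (S.subgroupOf X)
      (fun x hx => Subgroup.mem_subgroupOf.mpr (hSY (Subgroup.mem_subgroupOf.mp hx))) hSN
      (by rw [Subgroup.relIndex_subgroupOf hYX]; exact hSrel)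
    have hXi : ¬ p ∣ X.index := by
      have h1 : X.index = (Subgroup.normalizer ((Qb : Subgroup (G ⧸ N)) : Set (G ⧸ N))).index :=
        Subgroup.index_comap_of_surjective _ hfs
      rw [h1]
      exact fun hd => Pb.not_dvd_index (hd.trans (Subgroup.index_dvd_of_le hPQb))
    have hAi : ¬ p ∣ ((Subgroup.normalizer (Q₁ : Set X)).map X.subtype).index := by
      rw [Subgroup.index_map_subtype]
      intro hd
      rcases (hp.out.dvd_mul).mp hd with h1 | h1
      · exact hA h1
      · exact hXi h1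
    obtain ⟨P, hP⟩ := exists_sylow_le_of_not_dvd_index _ hAi
    refine ⟨P, Sylow.ofCard Q₂ hQ₂card, ?_⟩
    rw [Sylow.coe_ofCard]
    exact hP.trans (Subgroup.le_normalizer_map X.subtype)

/-- **S4601.** -/
theorem normalizes_of_class (hsolv : IsPSolvable p G ∨ IsPSolvable q G)
    (h : ∀ y : G, (∃ k : ℕ, orderOf y = q ^ k) → ¬ p ∣ (Subgroup.centralizer ({y} : Set G)).index) :
    ∃ (P : Sylow p G) (Q : Sylow q G), (P : Subgroup G) ≤ Subgroup.normalizer ((Q : Subgroup G) : Set G) := by
  by_cases hpq : p = q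
  · subst hpq
    let P : Sylow p G := default
    exact ⟨P, P, Subgroup.le_normalizer⟩
  rcases hsolv with hs | hs
  · exact exists_normalizes_of_not_dvd_index (not_dvd_index_core_of_class hpq hs h)
  · exact normalizes_of_class_qSolvable hpq _ G rfl hs h

end Sylow

end CfsgLib.Char
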