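import Cfsg.Agent.Lib.Char.BlkCount
import Cfsg.Agent.Lib.Char.RealChar
import Cfsg.Agent.Lib.Char.GalOdd
import Cfsg.Agent.Lib.Char.AbelianQuot
import Cfsg.Agent.Lib.Block.Value
import Cfsg.Agent.Lib.Block.Graded2
import Cfsg.Agent.Lib.Block.CentDef
import Cfsg.Agent.Lib.Block.Induced

/-!
# Real `2`-blocks of maximal defect are principal
-/

universe u

open Cfsg CfsgLib.Block
open scoped ComplexConjugate

namespace CfsgLib.Char.RB

section Conj

variable {G : Type u} [Group G] [Fintype G]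

/-- The complex conjugate of an irreducible character. -/
noncomputable def conjI (χ : IrrCharacter G) : IrrCharacter G := ⟨fun g => conj ((χ : G → ℂ) g), χ.2.conj⟩

theorem conjI_apply (χ : IrrCharacter G) (g : G) : (conjI χ : G → ℂ) g = (χ : G → ℂ) g⁻¹ :=
  (χ.2.map_inv g).symm

theorem conjI_conjI (χ : IrrCharacter G) : conjI (conjI χ) = χ := by
  apply Subtype.ext
  funext g
  show conj (conj ((χ : G → ℂ) g)) = _
  rw [Complex.conj_conj]

theorem centralizer_inv (g : G) : Subgroup.centralizer ({g⁻¹} : Set G) = Subgroup.centralizer ({g} : Set G) := by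
  ext x
  rw [Subgroup.mem_centralizer_singleton_iff, Subgroup.mem_centralizer_singleton_iff]
  constructor
  · intro h
    have h1 : g * x = g * (x * g⁻¹) * g := by group
    rw [h] at h1
    rw [h1]
    group
  · intro h
    have h1 : x * g⁻¹ = g⁻¹ * (g * x) * g⁻¹ := by group
    rw [h1, ← h]
    group

theorem centralChar_conjI (χ : IrrCharacter G) (g : G) :
    centralChar (conjI χ : G → ℂ) g = centralChar (χ : G → ℂ) g⁻¹ := by
  unfold centralChar
  rw [centralizer_inv, conjI_apply, conjI_apply, inv_one]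

theorem sameBlock_conjI {M : Ideal AlgInt} {χ ψ : IrrCharacter G} (h : SameBlock M (χ : G → ℂ) (ψ : G → ℂ)) :
    SameBlock M (conjI χ : G → ℂ) (conjI ψ : G → ℂ) := by
  intro g
  rw [centralChar_conjI, centralChar_conjI]
  exact h g⁻¹

theorem isConj_inv_iff (g h : G) : IsConj g⁻¹ h ↔ IsConj g h⁻¹ := by
  rw [isConj_iff, isConj_iff]
  constructor
  · rintro ⟨c, rfl⟩
    exact ⟨c, by group⟩
  · rintro ⟨c, hc⟩
    refine ⟨c, ?_⟩
    have := congrArg (fun z => z⁻¹) hc
    simp only [inv_inv] at this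
    rw [← this]
    group

theorem inducedCentralChar_conjI (H : Subgroup G) [Fintype H] (ξ : IrrCharacter H) (g : G) :
    inducedCentralChar H (conjI ξ : H → ℂ) g = inducedCentralChar H (ξ : H → ℂ) g⁻¹ := by
  classical
  unfold inducedCentralChar
  simp only [Set.mem_setOf_eq, finsum_eq_if]
  rw [finsum_eq_sum_of_fintype, finsum_eq_sum_of_fintype, ← Equiv.sum_comp (Equiv.inv H)]
  refine Finset.sum_congr rfl fun h _ => ?_
  simp only [Equiv.inv_apply]
  have h1 : (conjI ξ : H → ℂ) h⁻¹ = (ξ : H → ℂ) h := by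
    rw [conjI_apply, inv_inv]
  have h2 : (conjI ξ : H → ℂ) 1 = (ξ : H → ℂ) 1 := by
    rw [conjI_apply, inv_one]
  rw [h1, h2]
  by_cases hc : IsConj g⁻¹ (h : G)
  · rw [if_pos hc, if_pos]
    have := (isConj_inv_iff g (h : G)).1 hc
    simpa using this
  · rw [if_neg hc, if_neg]
    intro h3
    apply hc
    rw [isConj_inv_iff]
    simpa using h3

end Conj

section NormalSylow

variable {N : Type u} [Group N] [Fintype N]

theorem exists_odd_normal (D : Subgroup N) [hD : D.Normal] (hDp : IsPGroup 2 D) (hidx : Odd D.index) :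
    ∃ O : Subgroup N, O.Normal ∧ Odd (Nat.card O) ∧ O ≤ Subgroup.centralizer (D : Set N) ∧
      ∀ c ∈ Subgroup.centralizer (D : Set N), ¬ 2 ∣ orderOf c → c ∈ O := by
  classical
  let C : Subgroup N := Subgroup.centralizer (D : Set N)
  let Z : Subgroup C := D.subgroupOf C
  have hZmem : ∀ z : C, z ∈ Z ↔ (z : N) ∈ D := fun z => Iff.rfl
  have hZcentral : ∀ z ∈ Z, ∀ c : C, c * z = z * c := by
    intro z hz c
    apply Subtype.ext
    have := Subgroup.mem_centralizer_iff.1 c.2 (z : N) hz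
    exact this.symm
  haveI hZn : Z.Normal := by
    constructor
    intro z hz c
    rw [hZcentral z hz c]
    simpa using hz
  have hZp : IsPGroup 2 Z := hDp.comap_subtype
  obtain ⟨k, hk⟩ := IsPGroup.iff_card.1 hZp
  have hZidx : Z.index ∣ D.index := Subgroup.relIndex_dvd_index_of_normal _ _
  have hZodd : Odd Z.index := Odd.of_dvd_nat hidx hZidx
  have hcop : Nat.Coprime (Nat.card Z) Z.index := by
    rw [hk]
    exact Nat.Coprime.pow_left k (Nat.coprime_two_left.2 hZodd)
  obtain ⟨H, hH⟩ := Subgroup.exists_right_complement'_of_coprime hcop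
  have hHcard : Odd (Nat.card H) := by
    rw [← hH.symm.index_eq_card]
    exact hZodd
  let O : Subgroup N := H.map C.subtype
  have hOcard : Nat.card O = Nat.card H :=
    Subgroup.card_map_of_injective (Subgroup.subtype_injective _)
  have hOodd : ∀ o ∈ O, Odd (orderOf o) := by
    intro o ho
    have h1 : orderOf (⟨o, ho⟩ : O) = orderOf o := Subgroup.orderOf_mk o ho
    rw [← h1]
    refine Odd.of_dvd_nat ?_ (orderOf_dvd_natCard _)
    rw [hOcard]
    exact hHcard
  have hreg : ∀ c ∈ C, ¬ 2 ∣ orderOf c → c ∈ O := by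
    intro c hc hc2
    obtain ⟨⟨z, h⟩, hzh⟩ := hH.2 ⟨c, hc⟩
    have hzh' : ((z : Z) : C) * (h : C) = ⟨c, hc⟩ := hzh
    let L : ℕ := orderOf c * Nat.card H
    have hc3 : Odd (orderOf c) := Nat.not_even_iff_odd.1 (fun h => hc2 (even_iff_two_dvd.1 h))
    have hLodd : Odd L := hc3.mul hHcard
    have hcL : (⟨c, hc⟩ : C) ^ L = 1 := by
      apply Subtype.ext
      show c ^ L = 1
      rw [pow_mul, pow_orderOf_eq_one, one_pow]
    have hhL : (h : C) ^ L = 1 := by
      have h1 : h ^ L = 1 := by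
        show h ^ (orderOf c * Nat.card H) = 1
        have h9 : h ^ Nat.card H = 1 := pow_card_eq_one'
        rw [mul_comm, pow_mul, h9, one_pow]
      exact congrArg Subtype.val h1
    have hcomm : Commute ((z : Z) : C) (h : C) := (hZcentral z z.2 (h : C)).symm
    rw [← hzh', hcomm.mul_pow, hhL, mul_one] at hcL
    have hzL : z ^ L = 1 := Subtype.ext hcL
    have h1 : orderOf z ∣ L := orderOf_dvd_of_pow_eq_one hzL
    have h2 : orderOf z ∣ 2 ^ k := hk ▸ orderOf_dvd_natCard z
    have h3 : Nat.Coprime (2 ^ k) L := Nat.Coprime.pow_left k (Nat.coprime_two_left.2 hLodd)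
    have h4 : orderOf z = 1 := Nat.eq_one_of_dvd_coprimes h3 h2 h1
    have h5 : z = 1 := orderOf_eq_one_iff.1 h4
    have h6 : (h : C) = ⟨c, hc⟩ := by
      rw [← hzh', h5]
      simp
    exact ⟨(h : C), h.2, congrArg Subtype.val h6⟩
  refine ⟨O, ?_, ?_, ?_, hreg⟩
  · constructor
    intro o ho g
    have hoC : o ∈ C := by
      obtain ⟨h, -, rfl⟩ := ho
      exact h.2
    apply hreg
    · show g * o * g⁻¹ ∈ Subgroup.centralizer (D : Set N)
      rw [Subgroup.mem_centralizer_iff]
      intro d hd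
      have h1 : g⁻¹ * d * g ∈ D := by
        have := hD.conj_mem d hd g⁻¹
        simpa using this
      have h2 := Subgroup.mem_centralizer_iff.1 hoC _ h1
      have h3 : d * (g * o * g⁻¹) = g * ((g⁻¹ * d * g) * o) * g⁻¹ := by group
      rw [h3, h2]
      group
    · have h1 : orderOf (g * o * g⁻¹) = orderOf o := by
        rw [← MulAut.conj_apply, MulEquiv.orderOf_eq]
      rw [h1]
      exact fun h => (Nat.not_even_iff_odd.2 (hOodd o ho)) (even_iff_two_dvd.2 h)
  · rw [hOcard]
    exact hHcard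
  · rintro _ ⟨h, -, rfl⟩
    exact h.2

theorem principal_of_real_normal_sylow {M : Ideal AlgInt} (hM : IsPModular 2 M) (D : Subgroup N) [hD : D.Normal]
    (hDp : IsPGroup 2 D) (hidx : Odd D.index) (ξ : IrrCharacter N)
    (hreal : SameBlock M (ξ : N → ℂ) (conjI ξ : N → ℂ)) : ξ ∈ principalBlock M N := by
  classical
  haveI : Fact (Nat.Prime 2) := ⟨Nat.prime_two⟩
  have hP := hM.isPrime
  obtain ⟨O, hOn, hOodd, hOC, hOreg⟩ := exists_odd_normal D hDp hidx
  letI : Fintype O := Fintype.ofFinite _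
  have hOp : ¬ 2 ∣ Nat.card O := fun h => (Nat.not_even_iff_odd.2 hOodd) (even_iff_two_dvd.2 h)
  obtain ⟨θ, hθ⟩ := exists_constituent_irr O ξ.2
  have hθ' : classInner (fun n : O => (conjI ξ : N → ℂ) n) (conjI θ : O → ℂ) ≠ 0 := by
    have h1 : classInner (fun n : O => (conjI ξ : N → ℂ) n) (conjI θ : O → ℂ) =
        conj (classInner (fun n : O => (ξ : N → ℂ) n) (θ : O → ℂ)) :=
      CfsgLib.Char.classInner_conj_conj _ _
    rw [h1]
    exact fun h0 => hθ ((map_eq_zero (starRingEnd ℂ)).1 h0)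
  obtain ⟨g, hg⟩ := CfsgLib.Char.BL.orbit_of_sameBlock hM O hOp hreal hθ hθ'
  have hcj : ∀ x : N, CfsgLib.Block.conjIrr O x (conjI θ) = conjI (CfsgLib.Block.conjIrr O x θ) := fun x => rfl
  have hgg : CfsgLib.Block.conjIrr O (g * g) θ = θ := by
    rw [CfsgLib.Block.conjIrr_mul, ← hg, hcj, ← hg, conjI_conjI]
  have hDfix : ∀ d ∈ D, CfsgLib.Block.conjIrr O d θ = θ := by
    intro d hd
    apply Subtype.ext
    funext n
    show (θ : O → ℂ) ⟨d * n * d⁻¹, _⟩ = (θ : O → ℂ) n
    refine congrArg (θ : O → ℂ) (Subtype.ext ?_)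
    show d * (n : N) * d⁻¹ = n
    have h1 := Subgroup.mem_centralizer_iff.1 (hOC n.2) d hd
    rw [h1]
    group
  letI a₁ := CfsgLib.Char.BL.irrAct (X := N) O
  let S : Subgroup N := MulAction.stabilizer N θ
  have hS : ∀ x : N, CfsgLib.Block.conjIrr O x θ = θ → x ∈ S := by
    intro x hx
    have h1 : x⁻¹ ∈ S := by
      show (x⁻¹ • θ) = θ
      show CfsgLib.Block.conjIrr O (x⁻¹)⁻¹ θ = θ
      rw [inv_inv]
      exact hx
    simpa using S.inv_mem h1
  have hS' : ∀ x ∈ S, CfsgLib.Block.conjIrr O x θ = θ := by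
    intro x hx
    have h1 : x⁻¹ ∈ S := S.inv_mem hx
    have h2 : CfsgLib.Block.conjIrr O (x⁻¹)⁻¹ θ = θ := h1
    rwa [inv_inv] at h2
  have hg2 : g * g ∈ S := hS _ hgg
  have hgm : g ^ D.index ∈ S := hS _ (hDfix _ (Subgroup.pow_index_mem D g))
  obtain ⟨m, hm⟩ := hidx
  have hgS : g ∈ S := by
    have h0 : g ^ (2 * m + 1) = (g * g) ^ m * g := by rw [pow_succ, pow_mul, pow_two]
    have h2 : Commute ((g * g) ^ m) g := ((Commute.refl g).mul_left (Commute.refl g)).pow_left m
    have h1 : g = g ^ D.index * ((g * g) ^ m)⁻¹ := by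
      rw [hm, h0, h2.eq, mul_inv_cancel_right]
    rw [h1]
    exact S.mul_mem hgm (S.inv_mem (S.pow_mem hg2 m))
  have hθr : conjI θ = θ := by
    rw [hg]
    exact hS' g hgS
  have hθim : ∀ n : O, ((θ : O → ℂ) n).im = 0 := by
    intro n
    have h1 : conj ((θ : O → ℂ) n) = (θ : O → ℂ) n := congrFun (congrArg Subtype.val hθr) n
    exact Complex.conj_eq_iff_im.1 h1
  have hθ1 : (θ : O → ℂ) = fun _ => 1 := CfsgLib.Char.real_irr_eq_one hOodd θ.2 hθim
  have hin : classInner (fun n : O => (ξ : N → ℂ) n) (fun _ => (1 : ℂ)) ≠ 0 := by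
    rw [← hθ1]
    exact hθ
  have h6 := clifford_invariant O ξ.2 (isIrrCharacter_one (G := O)) (fun g => by funext n; rfl) hin
  have hker : ∀ u ∈ O, (ξ : N → ℂ) u = (ξ : N → ℂ) 1 := by
    intro u hu'
    have h7 := congrFun h6 ⟨u, hu'⟩
    have h8 := congrFun h6 1
    simp only [Pi.smul_apply, smul_eq_mul, mul_one] at h7 h8
    rw [h7, ← h8]
    rfl
  -- the block idempotent
  let b : Set (IrrCharacter N) := blockOf M (ξ : N → ℂ)
  have hb : IsPBlock M b := ⟨ξ, rfl⟩
  have hsupp : ∀ y, blockCoeff b y ≠ 0 → y ∈ O := by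
    intro y hy
    apply hOreg
    · by_contra h
      exact hy (blockCoeff_eq_zero_of_not_centralizer hM D hDp hb h)
    · intro h
      exact hy (blockCoeff_singular hM hb h)
  have h1 : om (ξ : N → ℂ) (fB b) = 1 := by
    rw [om_fB, if_pos (self_mem_blockOf hP ξ)]
  have hξ0 := ξ.2.map_one_ne_zero
  have h2 : hat (ξ : N → ℂ) (fB b) = (ξ : N → ℂ) 1 * hat (fun _ => (1 : ℂ)) (fB b) := by
    rw [hat, hat, Finset.mul_sum]
    refine Finset.sum_congr rfl fun y _ => ?_
    rw [coeff_fB]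
    by_cases hy : blockCoeff b y = 0
    · simp [hy]
    · rw [hker y (hsupp y hy)]
      ring
  have h3 : hat (fun _ => (1 : ℂ)) (fB b) = 1 := by
    rw [om, h2, mul_div_cancel_left₀ _ hξ0] at h1
    exact h1
  have h4 : om ((oneIrr N : IrrCharacter N) : N → ℂ) (fB b) = 1 := by
    rw [om]
    show hat (fun _ => (1 : ℂ)) (fB b) / 1 = 1
    rw [h3, div_one]
  have h5 : oneIrr N ∈ b := by
    by_contra hn
    rw [om_fB, if_neg hn] at h4
    exact zero_ne_one h4
  exact SameBlock.symm hP h5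

end NormalSylow

section Main

variable {G : Type u} [Group G] [Fintype G]

theorem real_block_aux1 {M : Ideal AlgInt} (hM : IsPModular 2 M) {B : Set (IrrCharacter G)} (hB : IsPBlock M B)
    {D : Subgroup G} (hDp : IsPGroup 2 D) [Fintype (Subgroup.normalizer (D : Set G))] {b : Set (IrrCharacter (Subgroup.normalizer (D : Set G)))}
    (hind : IsInducedBlock M (Subgroup.normalizer (D : Set G)) b B)
    (hdef : IsDefectGroup 2 M b (D.subgroupOf (Subgroup.normalizer (D : Set G))))
    {χ : IrrCharacter G} (hχ : χ ∈ B) (hreal : SameBlock M (χ : G → ℂ) (conjI χ : G → ℂ))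
    {ξ : IrrCharacter (Subgroup.normalizer (D : Set G))} (hξ : ξ ∈ b) :
    SameBlock M (ξ : (Subgroup.normalizer (D : Set G)) → ℂ) (conjI ξ : (Subgroup.normalizer (D : Set G)) → ℂ) := by
  classical
  haveI : Fact (Nat.Prime 2) := ⟨Nat.prime_two⟩
  have hP := hM.isPrime
  have hDN : D ≤ Subgroup.normalizer (D : Set G) := Subgroup.le_normalizer
  have hCN : Subgroup.centralizer (D : Set G) ≤ Subgroup.normalizer (D : Set G) := Subgroup.centralizer_le_normalizer _
  obtain ⟨B', hB'⟩ := exists_isInduced hM hDp hDN hCN le_rfl (conjI ξ)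
  obtain ⟨χ', hχ'⟩ := IsPBlock.nonempty hP hB'.2.1
  have hBeq : B = blockOf M (χ : G → ℂ) := blockOf_eq_of_mem hP hB hχ
  have h1 : SameBlock M (conjI χ : G → ℂ) (χ' : G → ℂ) := by
    intro g
    have h2 : inducedCentralChar (Subgroup.normalizer (D : Set G)) (conjI ξ : (Subgroup.normalizer (D : Set G)) → ℂ) g - centralChar (conjI χ : G → ℂ) g ∈ locI hP := by
      rw [inducedCentralChar_conjI, centralChar_conjI]
      exact hind.2.2 ξ hξ χ hχ g⁻¹
    have h3 : inducedCentralChar (Subgroup.normalizer (D : Set G)) (conjI ξ : (Subgroup.normalizer (D : Set G)) → ℂ) g - centralChar (χ' : G → ℂ) g ∈ locI hP :=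
      hB'.2.2 (conjI ξ) (self_mem_blockOf hP _) χ' hχ' g
    have h4 := (locI hP).sub_mem h3 h2
    change _ ∈ locI hP
    convert h4 using 1
    ring
  have hχ'B : χ' ∈ B := by
    rw [hBeq]
    exact SameBlock.trans hP hreal h1
  have hBB' : B' = B := by
    rw [blockOf_eq_of_mem hP hB'.2.1 hχ', blockOf_eq_of_mem hP hB hχ'B]
  rw [hBB'] at hB'
  have huniq := first_main_unique hM hDp hind hB' hdef
  have hξbar : conjI ξ ∈ b := by
    rw [← huniq]
    exact self_mem_blockOf hP _
  have hbeq : b = blockOf M (ξ : (Subgroup.normalizer (D : Set G)) → ℂ) := blockOf_eq_of_mem hP hind.1 hξ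
  rw [hbeq] at hξbar
  exact hξbar

theorem odd_index_normalizer {D : Subgroup G} (hcard : Nat.card D = 2 ^ (Nat.card G).factorization 2) :
    Odd (D.subgroupOf (Subgroup.normalizer (D : Set G))).index := by
  have hDN : D ≤ Subgroup.normalizer (D : Set G) := Subgroup.le_normalizer
  have hD'card : Nat.card (D.subgroupOf (Subgroup.normalizer (D : Set G))) = Nat.card D :=
    Nat.card_congr (Subgroup.subgroupOfEquivOfLe hDN).toEquiv
  apply Nat.not_even_iff_odd.1
  intro h2
  have h3 : 2 ∣ (D.subgroupOf (Subgroup.normalizer (D : Set G))).index := even_iff_two_dvd.1 h2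
  have h4 : Nat.card (D.subgroupOf (Subgroup.normalizer (D : Set G))) * (D.subgroupOf (Subgroup.normalizer (D : Set G))).index =
    Nat.card (Subgroup.normalizer (D : Set G)) := Subgroup.card_mul_index _
  have h5 : Nat.card (Subgroup.normalizer (D : Set G)) ∣ Nat.card G := Subgroup.card_subgroup_dvd_card _
  have h6 : 2 ^ ((Nat.card G).factorization 2 + 1) ∣ Nat.card G := by
    refine dvd_trans ?_ h5
    rw [← h4, hD'card, hcard, pow_succ]
    exact Nat.mul_dvd_mul_left _ h3
  have h7 := (Nat.Prime.pow_dvd_iff_le_factorization Nat.prime_two Nat.card_pos.ne').1 h6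
  omega

theorem sameBlock_of_induced {M : Ideal AlgInt} (hP : M.IsPrime) {H : Subgroup G} [Fintype H] {b : Set (IrrCharacter H)} {B B' : Set (IrrCharacter G)}
    (h1 : IsInducedBlock M H b B) (h2 : IsInducedBlock M H b B') {ξ : IrrCharacter H} (hξ : ξ ∈ b) {χ χ' : IrrCharacter G}
    (hχ : χ ∈ B) (hχ' : χ' ∈ B') : SameBlock M (χ' : G → ℂ) (χ : G → ℂ) := by
  intro g
  have h3 := h1.2.2 ξ hξ χ hχ g
  have h4 := h2.2.2 ξ hξ χ' hχ' g
  have h5 := (locI hP).sub_mem (show _ ∈ locI hP from h3) (show _ ∈ locI hP from h4)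
  change _ ∈ locI hP
  convert h5 using 1
  ring

theorem real_block_principal {M : Ideal AlgInt} (hM : IsPModular 2 M) {B : Set (IrrCharacter G)} (hB : IsPBlock M B)
    {D : Subgroup G} (hD : IsDefectGroup 2 M B D) (hcard : Nat.card D = 2 ^ (Nat.card G).factorization 2)
    {χ : IrrCharacter G} (hχ : χ ∈ B) (hreal : SameBlock M (χ : G → ℂ) (conjI χ : G → ℂ)) :
    χ ∈ principalBlock M G := by
  classical
  haveI : Fact (Nat.Prime 2) := ⟨Nat.prime_two⟩
  have hP := hM.isPrime
  have hDp : IsPGroup 2 D := IsPGroup.iff_card.2 ⟨_, hcard⟩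
  letI : Fintype (Subgroup.normalizer (D : Set G)) := Fintype.ofFinite _
  have hDN : D ≤ Subgroup.normalizer (D : Set G) := Subgroup.le_normalizer
  have hCN : Subgroup.centralizer (D : Set G) ≤ Subgroup.normalizer (D : Set G) := Subgroup.centralizer_le_normalizer _
  obtain ⟨b, hind⟩ := exists_induced_of_le_defect hM hDp hDN hCN le_rfl hB hD le_rfl
  have hdef := first_main_ii_exists hM hDp hB hD hind
  obtain ⟨ξ, hξ⟩ := IsPBlock.nonempty hP hind.1
  have hsame := real_block_aux1 hM hB hDp hind hdef hχ hreal hξ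
  have hbeq : b = blockOf M (ξ : (Subgroup.normalizer (D : Set G)) → ℂ) := blockOf_eq_of_mem hP hind.1 hξ
  haveI hD'n : (D.subgroupOf (Subgroup.normalizer (D : Set G))).Normal := Subgroup.normal_in_normalizer
  have hDp' : IsPGroup 2 (D.subgroupOf (Subgroup.normalizer (D : Set G))) := hDp.comap_subtype
  have hξP := principal_of_real_normal_sylow hM _ hDp' (odd_index_normalizer hcard) ξ hsame
  have hbP : b = principalBlock M (Subgroup.normalizer (D : Set G)) := by
    rw [hbeq]
    exact (blockOf_eq_of_mem hP (B := principalBlock M (Subgroup.normalizer (D : Set G))) ⟨oneIrr _, rfl⟩ hξP).symm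
  have hind₀ : IsInducedBlock M (Subgroup.normalizer (D : Set G)) b (principalBlock M G) := (third_main hM ⟨B, hind⟩).2 hbP
  have h1 : oneIrr G ∈ principalBlock M G := self_mem_blockOf hP (oneIrr G)
  have h6 : SameBlock M ((oneIrr G : IrrCharacter G) : G → ℂ) (χ : G → ℂ) := sameBlock_of_induced hP hind hind₀ hξ hχ h1
  exact h6

/-- The defect group of a block containing an odd degree character. -/
theorem exists_sylow_defect {M : Ideal AlgInt} (hM : IsPModular 2 M) {B : Set (IrrCharacter G)} (hB : IsPBlock M B)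
    {χ : IrrCharacter G} (hχ : χ ∈ B) (hd : Odd (charDegree (χ : G → ℂ))) :
    ∃ D : Subgroup G, IsDefectGroup 2 M B D ∧ Nat.card D = 2 ^ (Nat.card G).factorization 2 := by
  classical
  haveI : Fact (Nat.Prime 2) := ⟨Nat.prime_two⟩
  obtain ⟨D, hD⟩ := exists_defectGroup hM hB
  refine ⟨D, hD, ?_⟩
  rw [card_defectGroup hM hB hD]
  congr 1
  unfold blockDefect
  have h1 : (charDegree (χ : G → ℂ)).factorization 2 = 0 :=
    Nat.factorization_eq_zero_of_not_dvd (fun h => (Nat.not_even_iff_odd.2 hd) (even_iff_two_dvd.2 h))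
  have h2 : sInf ((fun χ : IrrCharacter G => (charDegree (χ : G → ℂ)).factorization 2) '' B) = 0 := by
    apply Nat.eq_zero_of_le_zero
    rw [← h1]
    exact Nat.sInf_le ⟨χ, hχ, rfl⟩
  rw [h2, Nat.sub_zero]

end Main

theorem s4580_main {G : Type u} [Group G] [Finite G] (N : Subgroup G) [hN : N.Normal] (M : Ideal AlgInt)
    (hM : IsPModular 2 M) (θ : IrrCharacter N) (hreal : ∀ n : N, ((θ : N → ℂ) n).im = 0)
    (hodd : Odd (charDegree (θ : N → ℂ))) (hext : ∃ η : IrrCharacter G, ∀ n : N, (η : G → ℂ) n = (θ : N → ℂ) n) :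
    ∃ η : IrrCharacter G, (∀ n : N, (η : G → ℂ) n = (θ : N → ℂ) n) ∧ η ∈ principalBlock M G := by
  classical
  letI := Fintype.ofFinite G
  letI : Fintype N := Fintype.ofFinite _
  haveI : Fact (Nat.Prime 2) := ⟨Nat.prime_two⟩
  have hP := hM.isPrime
  obtain ⟨η, hη⟩ := hext
  have hinv : ∀ (g : G) (n : N), (θ : N → ℂ) ⟨g * n * g⁻¹, hN.conj_mem n n.2 g⟩ = (θ : N → ℂ) n := by
    intro g n
    rw [← hη, ← hη]
    exact η.2.isClassFunction n g
  have hbar : ∀ n : N, (conjI η : G → ℂ) n = (θ : N → ℂ) n := by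
    intro n
    show conj ((η : G → ℂ) n) = _
    rw [hη]
    exact Complex.conj_eq_iff_im.2 (hreal n)
  obtain ⟨l, hl1, hl2⟩ := CfsgLib.Char.twist_of_extensions N θ.2 hinv η.2 (conjI η).2 hη hbar
  have hrodd : Odd (ordCompl[2] (Nat.card G)) :=
    Nat.odd_iff.2 (Nat.mod_two_ne_zero.1 fun h0 => Nat.not_dvd_ordCompl Nat.prime_two Nat.card_pos.ne' (Nat.dvd_of_mod_eq_zero h0))
  obtain ⟨k, hk⟩ := hrodd
  have hcardG : 2 ^ (Nat.card G).factorization 2 * (2 * k + 1) = Nat.card G := by
    rw [← hk]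
    exact Nat.ordProj_mul_ordCompl_eq_self _ _
  let γ : G →* ℂˣ := l ^ (k + 1)
  have hγ : ∀ g, γ g = (l g) ^ (k + 1) := fun g => rfl
  let η' : IrrCharacter G := ⟨fun g => ((γ g : ℂˣ) : ℂ) * (η : G → ℂ) g, CfsgLib.Char.isIrr_hom_mul γ η.2⟩
  have hη'v : ∀ g, (η' : G → ℂ) g = ((γ g : ℂˣ) : ℂ) * (η : G → ℂ) g := fun _ => rfl
  have hη'N : ∀ n : N, (η' : G → ℂ) n = (θ : N → ℂ) n := by
    intro n
    rw [hη'v, hγ, hl1 n n.2, one_pow, Units.val_one, one_mul, hη]
  have hconj : ∀ g, (conjI η' : G → ℂ) g = ((((l g)⁻¹ ^ (2 * k + 1) : ℂˣ)) : ℂ) * (η' : G → ℂ) g := by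
    intro g
    have h1 : (conjI η' : G → ℂ) g = conj ((γ g : ℂˣ) : ℂ) * conj ((η : G → ℂ) g) := by
      show conj (((γ g : ℂˣ) : ℂ) * (η : G → ℂ) g) = _
      rw [map_mul]
    have h2 : conj ((γ g : ℂˣ) : ℂ) = (((γ g)⁻¹ : ℂˣ) : ℂ) := by
      have := (isIrr_of_hom γ).map_inv g
      simp only [map_inv] at this
      exact this.symm
    have h3 : conj ((η : G → ℂ) g) = ((l g : ℂˣ) : ℂ) * (η : G → ℂ) g := congrFun hl2 g
    have h4 : (γ g)⁻¹ * l g = (l g)⁻¹ ^ (2 * k + 1) * γ g := by
      rw [hγ]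
      group
    rw [h1, h2, h3, hη'v, ← mul_assoc, ← mul_assoc, ← Units.val_mul, ← Units.val_mul, h4]
  have hsame : SameBlock M (conjI η' : G → ℂ) (η' : G → ℂ) := by
    intro g
    have h1 : centralChar (conjI η' : G → ℂ) g = ((((l g)⁻¹ ^ (2 * k + 1) : ℂˣ)) : ℂ) * centralChar (η' : G → ℂ) g := by
      unfold centralChar
      rw [hconj g]
      have h2 : (conjI η' : G → ℂ) 1 = (η' : G → ℂ) 1 := by
        rw [conjI_apply, inv_one]
      rw [h2]
      ring
    have h3 : ((((l g)⁻¹ ^ (2 * k + 1) : ℂˣ)) : ℂ) ^ (2 ^ (Nat.card G).factorization 2) = 1 := by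
      rw [← Units.val_pow_eq_pow_val, ← pow_mul, mul_comm, hcardG, inv_pow, ← map_pow, pow_card_eq_one', map_one, inv_one,
        Units.val_one]
    have h4 := CfsgLib.Block.root_sub_one_mem hM h3
    have h5 := locI_mul_right hP (centralChar_mem hP η'.2 g) h4
    change _ ∈ locI hP
    rw [h1]
    convert h5 using 1
    ring
  have hdeg : Odd (charDegree (η' : G → ℂ)) := by
    have h1 : (η' : G → ℂ) 1 = (θ : N → ℂ) 1 := by
      have := hη'N 1
      simpa using this
    unfold charDegree at hodd ⊢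
    rw [h1]
    exact hodd
  have hB : IsPBlock M (blockOf M (η' : G → ℂ)) := ⟨η', rfl⟩
  have hself : η' ∈ blockOf M (η' : G → ℂ) := self_mem_blockOf hP η'
  obtain ⟨D, hD, hDc⟩ := exists_sylow_defect hM hB hself hdeg
  exact ⟨η', hη'N, real_block_principal hM hB hD hDc hself (SameBlock.symm hP hsame)⟩

theorem s4520_main {G : Type u} [Group G] [Fintype G] (M : Ideal AlgInt) (hM : IsPModular 2 M) (N : Subgroup G)
    [hN : N.Normal] [Fintype N] (hidx : Odd N.index) (k : ℕ) (hk₂ : ∀ g : G, Odd (orderOf g) → g ^ k = g⁻¹)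
    (θ : IrrCharacter N) (χ : IrrCharacter G) (hχ : ∀ g : G, (χ : G → ℂ) (g ^ k) = (χ : G → ℂ) g)
    (hover : classInner (fun n : N => (χ : G → ℂ) n) (θ : N → ℂ) ≠ 0) :
    χ ∈ principalBlock M G ↔ θ ∈ principalBlock M N := by
  classical
  haveI : Fact (Nat.Prime 2) := ⟨Nat.prime_two⟩
  have hP := hM.isPrime
  have hb : IsPBlock M (principalBlock M N) := ⟨oneIrr N, rfl⟩
  have hone : oneIrr N ∈ principalBlock M N := self_mem_blockOf hP (oneIrr N)
  constructor
  · intro hχ0
    by_contra hθ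
    have hst : IsStable N (principalBlock M N) := by
      intro g τ hτ
      exact sameBlock_conjOn N g hτ
    have hs : SVal hP (incl N (fB (principalBlock M N))) := sval_incl N hP (sval_fB hM hb)
    have h1 := om_sub_mem_of_sameBlock hP (oneIrr G).2 χ.2 hχ0 (isCent_incl_fB N hst) hs
    have h2 : classInner (fun n : N => ((oneIrr G : IrrCharacter G) : G → ℂ) n) ((oneIrr N : IrrCharacter N) : N → ℂ) ≠ 0 := by
      have h3 := classInner_irr_self (oneIrr N).2
      have h4 : classInner (fun n : N => ((oneIrr G : IrrCharacter G) : G → ℂ) n) ((oneIrr N : IrrCharacter N) : N → ℂ) =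
        classInner ((oneIrr N : IrrCharacter N) : N → ℂ) ((oneIrr N : IrrCharacter N) : N → ℂ) := rfl
      rw [h4, h3]
      exact one_ne_zero
    rw [om_incl_fB N hst (oneIrr G).2 h2, om_incl_fB N hst χ.2 hover, if_pos hone, if_neg hθ, sub_zero] at h1
    exact one_notMem_locI hP h1
  · intro hθ
    let B : Set (IrrCharacter G) := blockOf M (χ : G → ℂ)
    have hB : IsPBlock M B := ⟨χ, rfl⟩
    have hself : χ ∈ B := self_mem_blockOf hP χ
    obtain ⟨Q', hQ', hQ'c⟩ := exists_sylow_defect hM hb hone (by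
      rw [charDegree_oneIrr]
      exact odd_one)
    let Q : Subgroup G := Q'.map N.subtype
    have hQN : Q ≤ N := Subgroup.map_subtype_le _
    have hQQ : Q.subgroupOf N = Q' := Subgroup.comap_map_eq_self_of_injective N.subtype_injective Q'
    have hQdef : IsDefectGroup 2 M (principalBlock M N) (Q.subgroupOf N) := by
      rw [hQQ]
      exact hQ'
    obtain ⟨R, hR, hRN⟩ := knorr_inf N hM hb hQN hQdef hB ⟨χ, hself, θ, hθ, hover⟩
    have hfac : (Nat.card N).factorization 2 = (Nat.card G).factorization 2 := by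
      have h1 : Nat.card N * N.index = Nat.card G := Subgroup.card_mul_index N
      rw [← h1, Nat.factorization_mul Nat.card_pos.ne' Subgroup.index_ne_zero_of_finite, Finsupp.add_apply,
        Nat.factorization_eq_zero_of_not_dvd (fun h => (Nat.not_even_iff_odd.2 hidx) (even_iff_two_dvd.2 h)), add_zero]
    have hQc : Nat.card Q = 2 ^ (Nat.card G).factorization 2 := by
      rw [← hfac, ← hQ'c]
      exact Subgroup.card_map_of_injective N.subtype_injective
    have hRc : Nat.card R = 2 ^ (Nat.card G).factorization 2 := by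
      have h1 : Nat.card R = 2 ^ blockDefect 2 B := card_defectGroup hM hB hR
      have h2 : Nat.card Q ∣ Nat.card R := Subgroup.card_dvd_of_le (by
        rw [← hRN]
        exact inf_le_left)
      rw [h1, hQc] at h2
      have h3 := (Nat.pow_dvd_pow_iff_le_right (by norm_num : 1 < 2)).1 h2
      have h4 : blockDefect 2 B ≤ (Nat.card G).factorization 2 := Nat.sub_le _ _
      rw [h1, le_antisymm h4 h3]
    have hreal : SameBlock M (χ : G → ℂ) (conjI χ : G → ℂ) := by
      have h1 : om (conjI χ : G → ℂ) (fB B) = om (χ : G → ℂ) (fB B) := by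
        refine om_fB_eq_of_regular hM hB (conjI χ).2.map_one_ne_zero χ.2.map_one_ne_zero (c := 1) ?_
        intro r hr
        rw [conjI_apply, one_mul, ← hχ r, hk₂ r (Nat.not_even_iff_odd.1 (fun h => hr (even_iff_two_dvd.1 h)))]
      rw [om_fB, om_fB, if_pos hself] at h1
      by_contra hn
      have h2 : conjI χ ∉ B := hn
      rw [if_neg h2] at h1
      exact zero_ne_one h1
    exact real_block_principal hM hB hR hRc hself hreal

end CfsgLib.Char.RB
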