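import Cfsg.Agent.Lib.Char.Coh2
import Cfsg.Agent.Lib.Char.UniqueSing
import Cfsg.Agent.Lib.Char.AbelianQuot

/-! # Sylow subgroups all of whose non-identity elements have the centralizer of the whole subgroup -/

set_option autoImplicit false
set_option linter.unusedSectionVars false
set_option linter.unusedVariables false
set_option linter.style.haveILetI false

namespace CfsgLib.Char

open Cfsg
open scoped ComplexConjugate

universe u

section Group

variable {G : Type u} [Group G] [Finite G] {p : ℕ} [hp : Fact p.Prime]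

/-- The hypotheses of this file. -/
structure StarSylow (P : Sylow p G) : Prop where
  ne : (P : Subgroup G) ≠ ⊥
  star : ∀ x ∈ (P : Subgroup G), x ≠ 1 →
    Subgroup.centralizer ({x} : Set G) = Subgroup.centralizer ((P : Subgroup G) : Set G)

variable {P : Sylow p G}

theorem orderOf_conj_star (g u : G) : orderOf (g * u * g⁻¹) = orderOf u := by
  have := orderOf_injective (MulAut.conj g).toMonoidHom (MulAut.conj g).injective u
  simpa [MulAut.conj_apply] using this

namespace StarSylow

theorem comm (h : StarSylow P) {x y : G} (hx : x ∈ (P : Subgroup G)) (hy : y ∈ (P : Subgroup G)) : x * y = y * x := by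
  classical
  haveI : Nontrivial (P : Subgroup G) := (Subgroup.nontrivial_iff_ne_bot _).2 h.ne
  haveI : Nontrivial (Subgroup.center (P : Subgroup G)) := P.isPGroup'.center_nontrivial
  obtain ⟨z, hz⟩ := exists_ne (1 : Subgroup.center (P : Subgroup G))
  have hz1 : (((z : Subgroup.center (P : Subgroup G)) : (P : Subgroup G)) : G) ≠ 1 := by
    intro h0
    apply hz
    apply Subtype.ext
    apply Subtype.ext
    exact h0
  have h1 := h.star _ ((z : Subgroup.center (P : Subgroup G)) : (P : Subgroup G)).2 hz1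
  have hxc : x ∈ Subgroup.centralizer ({(((z : Subgroup.center (P : Subgroup G)) : (P : Subgroup G)) : G)} : Set G) := by
    rw [Subgroup.mem_centralizer_singleton_iff]
    have h2 := (Subgroup.mem_center_iff.1 z.2) ⟨x, hx⟩
    have h3 := congrArg Subtype.val h2
    exact h3
  rw [h1] at hxc
  exact ((Subgroup.mem_centralizer_iff.1 hxc) y hy).symm

theorem le_cent (h : StarSylow P) : (P : Subgroup G) ≤ Subgroup.centralizer ((P : Subgroup G) : Set G) :=
  fun x hx => Subgroup.mem_centralizer_iff.2 fun y hy => h.comm hy hx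

theorem mem_of_pElement (h : StarSylow P) {c : G} (hc : c ∈ Subgroup.centralizer ((P : Subgroup G) : Set G)) {k : ℕ}
    (hk : orderOf c = p ^ k) : c ∈ (P : Subgroup G) := by
  classical
  have hH : IsPGroup p (Subgroup.zpowers c) := IsPGroup.of_card (n := k) (by rw [Nat.card_zpowers, hk])
  have hle : Subgroup.zpowers c ≤ Subgroup.normalizer ((P : Subgroup G) : Set G) := by
    rw [Subgroup.zpowers_le, Subgroup.mem_normalizer_iff]
    intro w
    have h1 : c * w * c⁻¹ = w ∨ w ∉ (P : Subgroup G) := by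
      by_cases hw : w ∈ (P : Subgroup G)
      · left
        have := (Subgroup.mem_centralizer_iff.1 hc) w hw
        rw [← this]
        group
      · right; exact hw
    constructor
    · intro hw
      rcases h1 with h1 | h1
      · show c * w * c⁻¹ ∈ (P : Subgroup G)
        rw [h1]
        exact hw
      · exact absurd hw h1
    · intro hw
      have h2 : w = c⁻¹ * (c * w * c⁻¹) * c := by group
      have hcm := (Subgroup.mem_centralizer_iff.1 hc) _ hw
      rw [h2]
      have : c⁻¹ * (c * w * c⁻¹) * c = c * w * c⁻¹ := by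
        rw [mul_assoc, hcm, inv_mul_cancel_left]
      rw [this]
      exact hw
  have h1 : IsPGroup p ↥(Subgroup.zpowers c ⊔ (P : Subgroup G)) := hH.to_sup_of_normal_right' P.isPGroup' hle
  have h2 := P.is_maximal' h1 le_sup_right
  have h3 : c ∈ Subgroup.zpowers c ⊔ (P : Subgroup G) := (le_sup_left : Subgroup.zpowers c ≤ _) (Subgroup.mem_zpowers c)
  rw [h2] at h3
  exact h3

theorem conj_mem_of_conj_mem (h : StarSylow P) {x g u : G} (hx : x ∈ (P : Subgroup G)) (hx1 : x ≠ 1)
    (hg : g * x * g⁻¹ ∈ (P : Subgroup G)) (hu : u ∈ (P : Subgroup G)) : g * u * g⁻¹ ∈ (P : Subgroup G) := by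
  have hy1 : g * x * g⁻¹ ≠ 1 := by
    intro h0
    apply hx1
    have : x = g⁻¹ * (g * x * g⁻¹) * g := by group
    rw [this, h0]
    group
  have h1 := h.star _ hg hy1
  have hc : g * u * g⁻¹ ∈ Subgroup.centralizer ({g * x * g⁻¹} : Set G) := by
    rw [Subgroup.mem_centralizer_singleton_iff]
    have h2 := h.comm hu hx
    calc g * u * g⁻¹ * (g * x * g⁻¹) = g * (u * x) * g⁻¹ := by group
      _ = g * (x * u) * g⁻¹ := by rw [h2]
      _ = g * x * g⁻¹ * (g * u * g⁻¹) := by group
  rw [h1] at hc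
  obtain ⟨k, hk⟩ := (IsPGroup.iff_orderOf.1 P.isPGroup') ⟨u, hu⟩
  have hk' : orderOf u = p ^ k := by simpa [Subgroup.orderOf_mk] using hk
  refine h.mem_of_pElement hc (k := k) ?_
  rw [orderOf_conj_star, hk']

theorem ti (h : StarSylow P) {x g : G} (hx : x ∈ (P : Subgroup G)) (hx1 : x ≠ 1)
    (hg : g * x * g⁻¹ ∈ (P : Subgroup G)) : g ∈ Subgroup.normalizer ((P : Subgroup G) : Set G) := by
  rw [Subgroup.mem_normalizer_iff]
  intro w
  constructor
  · intro hw
    exact h.conj_mem_of_conj_mem hx hx1 hg hw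
  · intro hw
    have hy1 : g * x * g⁻¹ ≠ 1 := by
      intro h0
      apply hx1
      have : x = g⁻¹ * (g * x * g⁻¹) * g := by group
      rw [this, h0]
      group
    have h2 : g⁻¹ * (g * x * g⁻¹) * g⁻¹⁻¹ ∈ (P : Subgroup G) := by
      have : g⁻¹ * (g * x * g⁻¹) * g⁻¹⁻¹ = x := by group
      rw [this]
      exact hx
    have h3 := h.conj_mem_of_conj_mem hg hy1 h2 hw
    have : g⁻¹ * (g * w * g⁻¹) * g⁻¹⁻¹ = w := by group
    rwa [this] at h3

theorem free (h : StarSylow P) {g y : G} (hy : y ∈ (P : Subgroup G)) (hy1 : y ≠ 1) (hg : g * y * g⁻¹ = y) :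
    g ∈ Subgroup.centralizer ((P : Subgroup G) : Set G) := by
  rw [← h.star y hy hy1, Subgroup.mem_centralizer_singleton_iff]
  calc g * y = g * y * g⁻¹ * g := by group
    _ = y * g := by rw [hg]

theorem cent_le_norm (h : StarSylow P) :
    Subgroup.centralizer ((P : Subgroup G) : Set G) ≤ Subgroup.normalizer ((P : Subgroup G) : Set G) := by
  intro c hc
  rw [Subgroup.mem_normalizer_iff]
  intro w
  by_cases hw : w ∈ (P : Subgroup G)
  · have : c * w * c⁻¹ = w := by
      have := (Subgroup.mem_centralizer_iff.1 hc) w hw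
      rw [← this]
      group
    rw [this]
  · constructor
    · intro h1; exact absurd h1 hw
    · intro h1
      have hcm := (Subgroup.mem_centralizer_iff.1 hc) _ h1
      have : c⁻¹ * (c * w * c⁻¹) * c = c * w * c⁻¹ := by
        rw [mul_assoc, hcm, inv_mul_cancel_left]
      have h2 : c⁻¹ * (c * w * c⁻¹) * c = w := by group
      rw [← this, h2] at h1
      exact absurd h1 hw

/-- Conjugation by the normalizer preserves the centralizer. -/
theorem norm_conj {x c : G} (hx : x ∈ Subgroup.normalizer ((P : Subgroup G) : Set G))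
    (hc : c ∈ Subgroup.centralizer ((P : Subgroup G) : Set G)) :
    x * c * x⁻¹ ∈ Subgroup.centralizer ((P : Subgroup G) : Set G) := by
  rw [Subgroup.mem_centralizer_iff]
  intro w hw
  have hw' : x⁻¹ * w * x ∈ (P : Subgroup G) := by
    have h1 := (Subgroup.mem_normalizer_iff.1 ((Subgroup.normalizer ((P : Subgroup G) : Set G)).inv_mem hx) w).1 hw
    simpa using h1
  have h2 := (Subgroup.mem_centralizer_iff.1 hc) _ hw'
  calc w * (x * c * x⁻¹) = x * ((x⁻¹ * w * x) * c) * x⁻¹ := by group
    _ = x * (c * (x⁻¹ * w * x)) * x⁻¹ := by rw [h2]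
    _ = x * c * x⁻¹ * w := by group

/-- A `p`-singular element of the centralizer has a non-trivial power in the Sylow subgroup. -/
theorem exists_pow_mem (h : StarSylow P) {s : G} (hs : s ∈ Subgroup.centralizer ((P : Subgroup G) : Set G))
    (hd : p ∣ orderOf s) : ∃ m : ℕ, orderOf (s ^ m) = p ∧ s ^ m ∈ (P : Subgroup G) := by
  refine ⟨orderOf s / p, orderOf_pow_orderOf_div (orderOf_pos s).ne' hd, ?_⟩
  exact h.mem_of_pElement (k := 1) ((Subgroup.centralizer ((P : Subgroup G) : Set G)).pow_mem hs _)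
    (by rw [orderOf_pow_orderOf_div (orderOf_pos s).ne' hd, pow_one])

/-- The transfer-free form of the TI property on `p`-singular elements of the centralizer. -/
theorem ti_singular (h : StarSylow P) {s x : G} (hs : s ∈ Subgroup.centralizer ((P : Subgroup G) : Set G))
    (hd : p ∣ orderOf s) (hx : x⁻¹ * s * x ∈ Subgroup.centralizer ((P : Subgroup G) : Set G)) :
    x ∈ Subgroup.normalizer ((P : Subgroup G) : Set G) := by
  obtain ⟨m, hm, hmP⟩ := h.exists_pow_mem hs hd
  have hne : s ^ m ≠ 1 := by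
    intro h0
    rw [h0, orderOf_one] at hm
    exact hp.out.one_lt.ne hm
  have h1 : (x⁻¹ * s * x) ^ m = x⁻¹ * s ^ m * x := by
    have := conj_pow (a := x⁻¹) (b := s) (i := m)
    simpa using this
  have h2 : x⁻¹ * s ^ m * x⁻¹⁻¹ ∈ (P : Subgroup G) := by
    have h3 := (Subgroup.centralizer ((P : Subgroup G) : Set G)).pow_mem hx m
    rw [h1] at h3
    have h4 : x⁻¹⁻¹ = x := inv_inv x
    rw [h4]
    refine h.mem_of_pElement h3 (k := 1) ?_
    have h5 := orderOf_conj_star x⁻¹ (s ^ m)
    rw [h4] at h5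
    rw [h5, hm, pow_one]
  have := h.ti hmP hne h2
  simpa using (Subgroup.normalizer ((P : Subgroup G) : Set G)).inv_mem this

/-- Fixed-point-free action gives surjective commutator maps. -/
theorem exists_commutator_eq (h : StarSylow P) {g : G} (hg : g ∈ Subgroup.normalizer ((P : Subgroup G) : Set G))
    (hgc : g ∉ Subgroup.centralizer ((P : Subgroup G) : Set G)) {z : G} (hz : z ∈ (P : Subgroup G)) :
    ∃ y ∈ (P : Subgroup G), y⁻¹ * (g * y * g⁻¹) = z := by
  classical
  have hgm : ∀ y ∈ (P : Subgroup G), g * y * g⁻¹ ∈ (P : Subgroup G) := fun y hy =>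
    (Subgroup.mem_normalizer_iff.1 hg y).1 hy
  let f : ↥(P : Subgroup G) → ↥(P : Subgroup G) := fun y =>
    ⟨(y : G)⁻¹ * (g * y * g⁻¹), (P : Subgroup G).mul_mem ((P : Subgroup G).inv_mem y.2) (hgm _ y.2)⟩
  have hf : Function.Injective f := by
    intro a b hab
    have h1 : (a : G)⁻¹ * (g * a * g⁻¹) = (b : G)⁻¹ * (g * b * g⁻¹) := congrArg Subtype.val hab
    by_contra hne
    have hne' : (b : G) * (a : G)⁻¹ ≠ 1 := by
      intro h0
      apply hne
      apply Subtype.ext
      exact (mul_inv_eq_one.1 h0).symm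
    have hm : (b : G) * (a : G)⁻¹ ∈ (P : Subgroup G) := (P : Subgroup G).mul_mem b.2 ((P : Subgroup G).inv_mem a.2)
    apply hgc
    refine h.free hm hne' ?_
    have hcomm1 := h.comm (hgm _ a.2) (hgm _ b.2)
    have hcomm2 := h.comm a.2 b.2
    -- from `a⁻¹ a^g = b⁻¹ b^g` deduce `(b a⁻¹)^g = b a⁻¹`
    have h2 : g * a * g⁻¹ = (a : G) * ((b : G)⁻¹ * (g * b * g⁻¹)) := by
      rw [← h1]; group
    have h3 : g * ((b : G) * (a : G)⁻¹) * g⁻¹ = (g * b * g⁻¹) * (g * a * g⁻¹)⁻¹ := by group
    rw [h3, h2]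
    have hcomm3 : (a : G) * ((b : G)⁻¹ * (g * b * g⁻¹)) = (g * b * g⁻¹) * ((a : G) * (b : G)⁻¹) := by
      have h4 := h.comm (hgm _ b.2) (((P : Subgroup G).mul_mem a.2 ((P : Subgroup G).inv_mem b.2)))
      rw [h4]
      group
    rw [hcomm3]
    have hc := h.comm (hgm _ b.2) hm
    have h6 : g * (b : G) * g⁻¹ * (g * b * g⁻¹ * ((a : G) * (b : G)⁻¹))⁻¹ = g * b * g⁻¹ * ((b : G) * (a : G)⁻¹) * (g * b * g⁻¹)⁻¹ := by group
    rw [h6, hc]
    group
  have hs := Finite.surjective_of_injective hf ⟨z, hz⟩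
  obtain ⟨y, hy⟩ := hs
  exact ⟨y, y.2, congrArg Subtype.val hy⟩

/-- The retraction of the centralizer onto the Sylow subgroup. -/
theorem exists_ret (h : StarSylow P) :
    ∃ r : Subgroup.centralizer ((P : Subgroup G) : Set G) →* (P : Subgroup G),
      ∀ (y : G) (hy : y ∈ (P : Subgroup G)), ((r ⟨y, h.le_cent hy⟩ : (P : Subgroup G)) : G) = y := by
  classical
  set C := Subgroup.centralizer ((P : Subgroup G) : Set G) with hC
  let S : Sylow p C := P.subtype h.le_cent
  have hSc : Subgroup.normalizer ((S : Subgroup C) : Set C) ≤ Subgroup.centralizer ((S : Subgroup C) : Set C) := by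
    intro c _
    rw [Subgroup.mem_centralizer_iff]
    intro w hw
    have h1 : (w : G) ∈ (P : Subgroup G) := Subgroup.mem_subgroupOf.1 hw
    apply Subtype.ext
    exact ((Subgroup.mem_centralizer_iff.1 c.2) _ h1)
  let t := MonoidHom.transferSylow S hSc
  have hbij : Function.Bijective (t.domRestrict (S : Subgroup C)) :=
    (MonoidHom.transferSylow_domRestrict_eq_pow S hSc).symm ▸ (S.2.powEquiv' S.not_dvd_index).bijective
  let e := MulEquiv.ofBijective (t.domRestrict (S : Subgroup C)) hbij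
  let ι : ((P : Subgroup G).subgroupOf C) ≃* (P : Subgroup G) := Subgroup.subgroupOfEquivOfLe h.le_cent
  refine ⟨ι.toMonoidHom.comp (e.symm.toMonoidHom.comp t), fun y hy => ?_⟩
  have hyS : (⟨y, h.le_cent hy⟩ : C) ∈ (S : Subgroup C) := Subgroup.mem_subgroupOf.2 hy
  have h1 : e.symm (t ⟨y, h.le_cent hy⟩) = ⟨⟨y, h.le_cent hy⟩, hyS⟩ := by
    rw [MulEquiv.symm_apply_eq]
    rfl
  show ((ι (e.symm (t ⟨y, h.le_cent hy⟩)) : (P : Subgroup G)) : G) = y
  rw [h1]
  rfl

end StarSylow

end Group

end CfsgLib.Char
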