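import Cfsg.Agent.Lib.Char.StarP1

/-! # Induction from a subgroup with TI-type singular part: the Gram matrix -/

set_option autoImplicit false
set_option linter.unusedSectionVars false
set_option linter.unusedVariables false
set_option linter.style.haveILetI false

namespace CfsgLib.Char

open Cfsg
open scoped ComplexConjugate

universe u

section Abstract

variable {G : Type u} [Group G] [Fintype G] {C N : Subgroup G} [Fintype C] [Fintype N]

/-- Conjugation of `C` by an element of `N`. -/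
def cjC (hn : ∀ x ∈ N, ∀ c ∈ C, x * c * x⁻¹ ∈ C) (x : N) : C ≃* C where
  toFun c := ⟨(x : G)⁻¹ * c * x, by simpa using hn _ (N.inv_mem x.2) c c.2⟩
  invFun c := ⟨(x : G) * c * (x : G)⁻¹, hn _ x.2 c c.2⟩
  left_inv c := Subtype.ext (by simp [mul_assoc])
  right_inv c := Subtype.ext (by simp [mul_assoc])
  map_mul' a b := Subtype.ext (by simp [mul_assoc])

theorem cjC_apply (hn : ∀ x ∈ N, ∀ c ∈ C, x * c * x⁻¹ ∈ C) (x : N) (c : C) :
    ((cjC hn x c : C) : G) = (x : G)⁻¹ * c * x := rfl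

/-- Conjugate of an irreducible character. -/
def cjI (hn : ∀ x ∈ N, ∀ c ∈ C, x * c * x⁻¹ ∈ C) (x : N) (κ : IrrCharacter C) : IrrCharacter C :=
  ⟨(κ : C → ℂ) ∘ cjC hn x, IsIrrCharacter.comp_surjective κ.2 (cjC hn x).toMonoidHom (cjC hn x).surjective⟩

theorem cjI_apply (hn : ∀ x ∈ N, ∀ c ∈ C, x * c * x⁻¹ ∈ C) (x : N) (κ : IrrCharacter C) (c : C) :
    ((cjI hn x κ : IrrCharacter C) : C → ℂ) c = (κ : C → ℂ) (cjC hn x c) := rfl

theorem cjI_one (hn : ∀ x ∈ N, ∀ c ∈ C, x * c * x⁻¹ ∈ C) (κ : IrrCharacter C) : cjI hn 1 κ = κ := by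
  apply Subtype.ext
  funext c
  rw [cjI_apply]
  have h1 : cjC hn 1 c = c := Subtype.ext (by simp [cjC_apply])
  rw [h1]

theorem cjI_mul (hn : ∀ x ∈ N, ∀ c ∈ C, x * c * x⁻¹ ∈ C) (x y : N) (κ : IrrCharacter C) :
    cjI hn y (cjI hn x κ) = cjI hn (y * x) κ := by
  apply Subtype.ext
  funext c
  rw [cjI_apply, cjI_apply, cjI_apply]
  have h1 : cjC hn x (cjC hn y c) = cjC hn (y * x) c := Subtype.ext (by simp [cjC_apply, mul_assoc])
  rw [h1]

/-- The action of `N` on the irreducible characters of `C`. -/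
@[instance_reducible] def cjAct (hn : ∀ x ∈ N, ∀ c ∈ C, x * c * x⁻¹ ∈ C) : MulAction N (IrrCharacter C) where
  smul x κ := cjI hn x κ
  one_smul κ := cjI_one hn κ
  mul_smul x y κ := (cjI_mul hn y x κ).symm

/-- **The isometry formula.** -/
theorem ind_inner (hn : ∀ x ∈ N, ∀ c ∈ C, x * c * x⁻¹ ∈ C) (S : G → Prop)
    (hS : ∀ c ∈ C, ∀ x : G, S c → x⁻¹ * c * x ∈ C → S (x⁻¹ * c * x) → x ∈ N)
    {f h : C → ℂ} (hf : ∀ c : C, ¬ S c → f c = 0) (hh : ∀ c : C, ¬ S c → h c = 0) :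
    classInner (indFun C f) (indFun C h) =
      (Nat.card C : ℂ)⁻¹ * ∑ x : N, classInner f (h ∘ cjC hn x) := by
  classical
  rw [frobenius C f (indFun_isClass C h), classInner_def]
  simp only [classInner_def]
  congr 1
  have key : ∀ c : C, f c * conj (indFun C h (c : G)) =
      ∑ x : N, (Nat.card C : ℂ)⁻¹ * (f c * conj ((h ∘ cjC hn x) c)) := by
    intro c
    by_cases hc : S c
    · have h1 : ∑ g : G, extendByZero C h (g⁻¹ * (c : G) * g) = ∑ x : N, h (cjC hn x c) := by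
        rw [sum_eq_sum_subgroup N _ ?_]
        · refine Finset.sum_congr rfl fun x _ => ?_
          have hm : (x : G)⁻¹ * (c : G) * x ∈ C := ((cjC hn x c : C)).2
          rw [extendByZero_of_mem C h hm]
          rfl
        · intro g hg
          by_cases hm : g⁻¹ * (c : G) * g ∈ C
          · rw [extendByZero_of_mem C h hm]
            apply hh
            intro hs
            exact hg (hS c c.2 g hc hm hs)
          · exact extendByZero_of_not_mem C h hm
      rw [indFun_def, h1, map_mul, map_sum, map_inv₀, Complex.conj_natCast, Finset.mul_sum, Finset.mul_sum]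
      refine Finset.sum_congr rfl fun x _ => ?_
      simp only [Function.comp]
      ring
    · simp [hf c hc]
  simp only [key]
  rw [Finset.sum_comm]
  refine Finset.sum_congr rfl fun x _ => ?_
  rw [Finset.mul_sum]

/-- The conjugacy count. -/
noncomputable def Mc (hn : ∀ x ∈ N, ∀ c ∈ C, x * c * x⁻¹ ∈ C) (κ κ' : IrrCharacter C) : ℂ :=
  (Nat.card C : ℂ)⁻¹ * ∑ x : N, classInner (κ : C → ℂ) ((κ' : C → ℂ) ∘ cjC hn x)

theorem gram_four (hn : ∀ x ∈ N, ∀ c ∈ C, x * c * x⁻¹ ∈ C) (S : G → Prop)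
    (hS : ∀ c ∈ C, ∀ x : G, S c → x⁻¹ * c * x ∈ C → S (x⁻¹ * c * x) → x ∈ N)
    {κ₁ κ₂ κ₃ κ₄ : IrrCharacter C} (h12 : ∀ c : C, ¬ S c → (κ₁ : C → ℂ) c = (κ₂ : C → ℂ) c)
    (h34 : ∀ c : C, ¬ S c → (κ₃ : C → ℂ) c = (κ₄ : C → ℂ) c) :
    classInner (indFun C (κ₁ : C → ℂ) - indFun C (κ₂ : C → ℂ)) (indFun C (κ₃ : C → ℂ) - indFun C (κ₄ : C → ℂ)) =
      Mc hn κ₁ κ₃ - Mc hn κ₁ κ₄ - Mc hn κ₂ κ₃ + Mc hn κ₂ κ₄ := by
  rw [← indFun_sub, ← indFun_sub, ind_inner hn S hS (f := (κ₁ : C → ℂ) - (κ₂ : C → ℂ)) (h := (κ₃ : C → ℂ) - (κ₄ : C → ℂ))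
    (fun c hc => by simp [h12 c hc]) (fun c hc => by simp [h34 c hc])]
  simp only [Mc]
  have h1 : ∀ x : N, classInner ((κ₁ : C → ℂ) - (κ₂ : C → ℂ)) (((κ₃ : C → ℂ) - (κ₄ : C → ℂ)) ∘ cjC hn x) =
      classInner (κ₁ : C → ℂ) ((κ₃ : C → ℂ) ∘ cjC hn x) - classInner (κ₁ : C → ℂ) ((κ₄ : C → ℂ) ∘ cjC hn x) -
      classInner (κ₂ : C → ℂ) ((κ₃ : C → ℂ) ∘ cjC hn x) + classInner (κ₂ : C → ℂ) ((κ₄ : C → ℂ) ∘ cjC hn x) := by
    intro x
    have h2 : ((κ₃ : C → ℂ) - (κ₄ : C → ℂ)) ∘ cjC hn x = (κ₃ : C → ℂ) ∘ cjC hn x - (κ₄ : C → ℂ) ∘ cjC hn x := rfl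
    rw [h2, classInner_sub_left, classInner_sub_right, classInner_sub_right]
    ring
  simp only [h1, Finset.sum_add_distrib, Finset.sum_sub_distrib]
  ring

theorem Mc_zero (hn : ∀ x ∈ N, ∀ c ∈ C, x * c * x⁻¹ ∈ C) {κ κ' : IrrCharacter C} (h : ∀ x : N, cjI hn x κ' ≠ κ) :
    Mc hn κ κ' = 0 := by
  classical
  rw [Mc]
  have : ∀ x : N, classInner (κ : C → ℂ) ((κ' : C → ℂ) ∘ cjC hn x) = 0 := by
    intro x
    change classInner (κ : C → ℂ) ((cjI hn x κ' : IrrCharacter C) : C → ℂ) = 0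
    rw [classInner_irr κ.2 (cjI hn x κ').2]
    rw [if_neg]
    intro h1
    exact h x (Subtype.ext h1.symm)
  simp [this]

theorem Mc_self (hn : ∀ x ∈ N, ∀ c ∈ C, x * c * x⁻¹ ∈ C) (hCN : C ≤ N) {κ : IrrCharacter C}
    (hst : ∀ x : N, cjI hn x κ = κ → (x : G) ∈ C) : Mc hn κ κ = 1 := by
  classical
  rw [Mc]
  have h1 : ∀ x : N, classInner (κ : C → ℂ) ((κ : C → ℂ) ∘ cjC hn x) = if (x : G) ∈ C then 1 else 0 := by
    intro x
    change classInner (κ : C → ℂ) ((cjI hn x κ : IrrCharacter C) : C → ℂ) = _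
    rw [classInner_irr κ.2 (cjI hn x κ).2]
    by_cases hx : (x : G) ∈ C
    · rw [if_pos hx, if_pos]
      funext c
      have h2 := κ.2.isClassFunction c (⟨x, hx⟩ : C)⁻¹
      have h3 : (⟨x, hx⟩ : C)⁻¹ * c * (⟨x, hx⟩ : C)⁻¹⁻¹ = cjC hn x c := by
        apply Subtype.ext
        simp [cjC_apply]
      rw [h3] at h2
      exact h2.symm
    · rw [if_neg hx, if_neg]
      intro h2
      apply hx
      exact hst x (Subtype.ext h2.symm)
  simp only [h1]
  have h2 : ∑ x : N, (if (x : G) ∈ C then (1 : ℂ) else 0) = (Nat.card C : ℂ) := by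
    rw [Finset.sum_boole]
    congr 1
    have e : C ≃ {x : N // (x : G) ∈ C} :=
      { toFun := fun c => ⟨⟨c, hCN c.2⟩, c.2⟩
        invFun := fun x => ⟨x.1, x.2⟩
        left_inv := fun c => rfl
        right_inv := fun x => rfl }
    rw [Nat.card_congr e, Nat.card_eq_fintype_card, Fintype.card_subtype]
  rw [h2]
  exact inv_mul_cancel₀ (card_subgroup_ne_zero C)

/-- The trivial character of a group as an element of `IrrCharacter`. -/
def oneI (A : Type u) [Group A] : IrrCharacter A := ⟨fun _ => 1, isIrrCharacter_one⟩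

theorem Mc_one (hn : ∀ x ∈ N, ∀ c ∈ C, x * c * x⁻¹ ∈ C) (hCN : C ≤ N) :
    Mc hn (oneI C) (oneI C) = (C.relIndex N : ℂ) := by
  classical
  rw [Mc]
  have h1 : ∀ x : N, classInner ((oneI C : IrrCharacter C) : C → ℂ) (((oneI C : IrrCharacter C) : C → ℂ) ∘ cjC hn x) = 1 := by
    intro x
    exact classInner_irr_self (oneI C).2
  simp only [h1, Finset.sum_const, Finset.card_univ, nsmul_eq_mul, mul_one]
  have h2 : Nat.card C * C.relIndex N = Nat.card N := by
    have h3 := Subgroup.card_mul_index (C.subgroupOf N)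
    have h4 : Nat.card (C.subgroupOf N) = Nat.card C := Nat.card_congr (Subgroup.subgroupOfEquivOfLe hCN).toEquiv
    rw [h4] at h3
    exact h3
  have h3 : (Fintype.card N : ℂ) = (Nat.card C : ℂ) * (C.relIndex N : ℂ) := by
    rw [← Nat.card_eq_fintype_card, ← h2]
    push_cast
    rfl
  rw [h3, ← mul_assoc, inv_mul_cancel₀ (card_subgroup_ne_zero C), one_mul]

/-- The multiplicity of `κ` in the restriction of `ψ`. -/
noncomputable def mulN (ψ : IrrCharacter G) (κ : IrrCharacter C) : ℕ :=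
  ((ψ.2.isCharacter.restrict C).classInner_nat κ.2).choose

theorem mulN_spec (ψ : IrrCharacter G) (κ : IrrCharacter C) :
    classInner (fun n : C => (ψ : G → ℂ) n) (κ : C → ℂ) = mulN ψ κ :=
  ((ψ.2.isCharacter.restrict C).classInner_nat κ.2).choose_spec

section
attribute [local instance] irrFintype

theorem degree_eq_sum_mulN (ψ : IrrCharacter G) :
    charDegree (ψ : G → ℂ) = ∑ κ : IrrCharacter C, mulN ψ κ * charDegree (κ : C → ℂ) := by
  have h1 := classFunction_apply (ψ.2.isCharacter.restrict C).isClassFunction (1 : C)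
  have h2 : ((charDegree (ψ : G → ℂ) : ℕ) : ℂ) =
      ((∑ κ : IrrCharacter C, mulN ψ κ * charDegree (κ : C → ℂ) : ℕ) : ℂ) := by
    rw [← irr_one_eq_charDegree ψ]
    push_cast
    have h3 : (ψ : G → ℂ) 1 = ∑ κ : IrrCharacter C,
        classInner (fun n : C => (ψ : G → ℂ) n) (κ : C → ℂ) * (κ : C → ℂ) 1 := by
      simpa using h1
    rw [h3]
    refine Finset.sum_congr rfl fun κ _ => ?_
    rw [mulN_spec, irr_one_eq_charDegree κ]
  exact_mod_cast h2

theorem restrict_eq_sum_mulN (ψ : IrrCharacter G) (c : C) :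
    (ψ : G → ℂ) c = ∑ κ : IrrCharacter C, (mulN ψ κ : ℂ) * (κ : C → ℂ) c := by
  have h1 := classFunction_apply (ψ.2.isCharacter.restrict C).isClassFunction c
  simp only [mulN_spec] at h1
  exact h1

end

/-- The multiplicity is invariant under conjugation. -/
theorem mulN_cjI (hn : ∀ x ∈ N, ∀ c ∈ C, x * c * x⁻¹ ∈ C) (ψ : IrrCharacter G) (x : N) (κ : IrrCharacter C) :
    mulN ψ (cjI hn x κ) = mulN ψ κ := by
  have h1 := mulN_spec ψ (cjI hn x κ)
  have h2 := mulN_spec ψ κ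
  have h3 : (fun n : C => (ψ : G → ℂ) n) = (fun n : C => (ψ : G → ℂ) n) ∘ cjC hn x := by
    funext c
    simp only [Function.comp, cjC_apply]
    have := ψ.2.isClassFunction (c : G) (x : G)⁻¹
    simpa using this.symm
  have h4 : classInner (fun n : C => (ψ : G → ℂ) n) ((cjI hn x κ : IrrCharacter C) : C → ℂ) =
      classInner (fun n : C => (ψ : G → ℂ) n) (κ : C → ℂ) := by
    conv_lhs => rw [h3]
    exact classInner_comp_mulEquiv (cjC hn x) _ _
  rw [h1, h2] at h4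
  exact_mod_cast h4

/-- Frobenius reciprocity in the form needed here. -/
theorem classInner_ind_sub (ψ : IrrCharacter G) (κ κ' : IrrCharacter C) :
    classInner (ψ : G → ℂ) (indFun C (κ : C → ℂ) - indFun C (κ' : C → ℂ)) =
      (mulN ψ κ : ℂ) - (mulN ψ κ' : ℂ) := by
  rw [classInner_sub_right, frobenius' C _ ψ.2.isClassFunction, frobenius' C _ ψ.2.isClassFunction,
    mulN_spec, mulN_spec]

/-- The exceptional family attached to a family of non-conjugate characters. -/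
theorem exc_family (hn : ∀ x ∈ N, ∀ c ∈ C, x * c * x⁻¹ ∈ C) (hCN : C ≤ N) (S : G → Prop)
    (hS : ∀ c ∈ C, ∀ x : G, S c → x⁻¹ * c * x ∈ C → S (x⁻¹ * c * x) → x ∈ N) (hS1 : ¬ S 1)
    {n : ℕ} (i₀ : Fin n) (R : Fin n → IrrCharacter C)
    (hst : ∀ i (x : N), cjI hn x (R i) = R i → (x : G) ∈ C)
    (hnc : ∀ i j (x : N), i ≠ j → cjI hn x (R i) ≠ R j)
    (hv : ∀ i, ∀ c : C, ¬ S c → (R i : C → ℂ) c = (R i₀ : C → ℂ) c) :
    ∃ ε : ℂ, (ε = 1 ∨ ε = -1) ∧ ∃ X : Fin n → (G → ℂ), (∀ i, IsIrrCharacter G (X i)) ∧ Function.Injective X ∧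
      ∀ i, indFun C (R i : C → ℂ) - indFun C (R i₀ : C → ℂ) = ε • (X i - X i₀) := by
  classical
  refine exceptional_of_gram n i₀ (fun i => indFun C (R i : C → ℂ) - indFun C (R i₀ : C → ℂ)) (by simp) ?_ ?_ ?_
  · intro i
    exact (isCharacter_indFun C (R i).2.isCharacter).isGeneralized.sub
      (isCharacter_indFun C (R i₀).2.isCharacter).isGeneralized
  · intro i
    simp only [Pi.sub_apply]
    rw [indFun_one, indFun_one]
    have h1 := hv i 1 (by simpa using hS1)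
    rw [h1, sub_self]
  · intro i j hi hj
    rw [gram_four hn S hS (hv i) (hv j)]
    rw [Mc_zero hn (fun x => hnc i₀ i x hi.symm), Mc_zero hn (fun x => hnc j i₀ x hj),
      Mc_self hn hCN (hst i₀)]
    by_cases hij : i = j
    · subst hij
      rw [Mc_self hn hCN (hst i), if_pos rfl]
      norm_num
    · rw [Mc_zero hn (fun x => hnc j i x (Ne.symm hij)), if_neg hij]
      norm_num

end Abstract

end CfsgLib.Char
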