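import Cfsg.Agent.Lib.Char.StarP2

/-! # Twists of the irreducible characters of the centralizer of a Sylow subgroup -/

set_option autoImplicit false
set_option linter.unusedSectionVars false
set_option linter.unusedVariables false
set_option linter.style.haveILetI false

namespace CfsgLib.Char

open Cfsg
open scoped ComplexConjugate

universe u

section Twist

variable {G : Type u} [Group G] [Fintype G] {p : ℕ} [hp : Fact p.Prime] {P : Sylow p G}

/-- The centralizer of the Sylow subgroup. -/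
abbrev CentS (P : Sylow p G) : Subgroup G := Subgroup.centralizer ((P : Subgroup G) : Set G)

/-- The normalizer of the Sylow subgroup. -/
abbrev NormS (P : Sylow p G) : Subgroup G := Subgroup.normalizer ((P : Subgroup G) : Set G)

theorem hnS (P : Sylow p G) : ∀ x ∈ NormS P, ∀ c ∈ CentS P, x * c * x⁻¹ ∈ CentS P :=
  fun _ hx _ hc => StarSylow.norm_conj hx hc

variable [Fintype (CentS P)] [Fintype (NormS P)]

theorem cjI_of_mem {C N : Subgroup G} [Fintype C] [Fintype N] (hn : ∀ x ∈ N, ∀ c ∈ C, x * c * x⁻¹ ∈ C) (x : N)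
    (hx : (x : G) ∈ C) (κ : IrrCharacter C) : cjI hn x κ = κ := by
  apply Subtype.ext
  funext c
  have h2 := κ.2.isClassFunction c (⟨x, hx⟩ : C)⁻¹
  have h3 : (⟨x, hx⟩ : C)⁻¹ * c * (⟨x, hx⟩ : C)⁻¹⁻¹ = cjC hn x c := by
    apply Subtype.ext
    simp [cjC_apply]
  rw [h3] at h2
  exact h2

/-- The twist of an irreducible character of the centralizer by a linear character of the Sylow subgroup. -/
noncomputable def twI (r : CentS P →* (P : Subgroup G)) (κ₀ : IrrCharacter (CentS P)) (l : (P : Subgroup G) →* ℂˣ) :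
    IrrCharacter (CentS P) :=
  ⟨(fun g => (((l.comp r) g : ℂˣ) : ℂ)) * (κ₀ : CentS P → ℂ), isIrr_hom_mul (l.comp r) κ₀.2⟩

theorem twI_apply (r : CentS P →* (P : Subgroup G)) (κ₀ : IrrCharacter (CentS P)) (l : (P : Subgroup G) →* ℂˣ)
    (c : CentS P) : (twI r κ₀ l : CentS P → ℂ) c = ((l (r c) : ℂˣ) : ℂ) * (κ₀ : CentS P → ℂ) c := rfl

theorem r_of_regular (r : CentS P →* (P : Subgroup G)) (c : CentS P) (hc : ¬ p ∣ orderOf (c : G)) : r c = 1 := by
  obtain ⟨k, hk⟩ := (IsPGroup.iff_orderOf.1 P.isPGroup') (r c)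
  have h1 : orderOf (r c) ∣ orderOf (c : G) := by
    rw [Subgroup.orderOf_coe c]
    exact orderOf_map_dvd r c
  rcases Nat.eq_zero_or_pos k with rfl | hk0
  · rw [pow_zero, orderOf_eq_one_iff] at hk
    exact hk
  · exfalso
    apply hc
    rw [hk] at h1
    exact (dvd_pow_self p hk0.ne').trans h1

theorem twI_regular (r : CentS P →* (P : Subgroup G)) (κ₀ : IrrCharacter (CentS P)) (l : (P : Subgroup G) →* ℂˣ)
    (c : CentS P) (hc : ¬ p ∣ orderOf (c : G)) : (twI r κ₀ l : CentS P → ℂ) c = (κ₀ : CentS P → ℂ) c := by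
  rw [twI_apply, r_of_regular r c hc]
  simp

/-- An irreducible character with the Sylow subgroup in its kernel. -/
def IsBase (κ₀ : IrrCharacter (CentS P)) : Prop :=
  ∀ c : CentS P, (c : G) ∈ (P : Subgroup G) → (κ₀ : CentS P → ℂ) c = (κ₀ : CentS P → ℂ) 1

theorem twI_injective {r : CentS P →* (P : Subgroup G)} (hr : ∀ (c : CentS P) (hc : (c : G) ∈ (P : Subgroup G)), r c = ⟨c, hc⟩)
    (h : StarSylow P) {κ₀ : IrrCharacter (CentS P)} (hb : IsBase κ₀) {l l' : (P : Subgroup G) →* ℂˣ}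
    (he : twI r κ₀ l = twI r κ₀ l') : l = l' := by
  ext y
  have h1 := congrFun (congrArg Subtype.val he) ⟨y, h.le_cent y.2⟩
  change (_ : ℂ) = _ at h1
  have h2 := twI_apply r κ₀ l ⟨y, h.le_cent y.2⟩
  have h3 := twI_apply r κ₀ l' ⟨y, h.le_cent y.2⟩
  rw [hr ⟨y, h.le_cent y.2⟩ y.2] at h2 h3
  have h4 := hb ⟨y, h.le_cent y.2⟩ y.2
  have h5 := κ₀.2.map_one_ne_zero
  have h6 : ((l y : ℂˣ) : ℂ) * (κ₀ : CentS P → ℂ) 1 = ((l' y : ℂˣ) : ℂ) * (κ₀ : CentS P → ℂ) 1 := by
    have h7 := h1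
    rw [show (twI r κ₀ l : CentS P → ℂ) ⟨y, h.le_cent y.2⟩ = _ from h2,
      show (twI r κ₀ l' : CentS P → ℂ) ⟨y, h.le_cent y.2⟩ = _ from h3, h4] at h7
    exact h7
  exact mul_right_cancel₀ h5 h6

theorem twI_stab {r : CentS P →* (P : Subgroup G)} (hr : ∀ (c : CentS P) (hc : (c : G) ∈ (P : Subgroup G)), r c = ⟨c, hc⟩)
    (h : StarSylow P) {κ₀ : IrrCharacter (CentS P)} (hb : IsBase κ₀) {l : (P : Subgroup G) →* ℂˣ} (hl : l ≠ 1)
    (x : NormS P) (hx : cjI (hnS P) x (twI r κ₀ l) = twI r κ₀ l) : (x : G) ∈ CentS P := by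
  classical
  by_contra hxc
  apply hl
  have hxinv : (x : G)⁻¹ ∈ NormS P := (NormS P).inv_mem x.2
  have hxinv' : (x : G)⁻¹ ∉ CentS P := fun h1 => hxc (by simpa using (CentS P).inv_mem h1)
  have hfix : ∀ y (hy : y ∈ (P : Subgroup G)), ∀ (hy' : (x : G)⁻¹ * y * x ∈ (P : Subgroup G)),
      l ⟨(x : G)⁻¹ * y * x, hy'⟩ = l ⟨y, hy⟩ := by
    intro y hy hy'
    have h1 := congrFun (congrArg Subtype.val hx) ⟨y, h.le_cent hy⟩
    change (twI r κ₀ l : CentS P → ℂ) (cjC (hnS P) x ⟨y, h.le_cent hy⟩) = (twI r κ₀ l : CentS P → ℂ) ⟨y, h.le_cent hy⟩ at h1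
    rw [twI_apply, twI_apply, hr ⟨y, h.le_cent hy⟩ hy] at h1
    have hc : (cjC (hnS P) x ⟨y, h.le_cent hy⟩ : CentS P) = ⟨(x : G)⁻¹ * y * x, h.le_cent hy'⟩ := rfl
    rw [hc, hr ⟨(x : G)⁻¹ * y * x, h.le_cent hy'⟩ hy', hb ⟨(x : G)⁻¹ * y * x, h.le_cent hy'⟩ hy',
      hb ⟨y, h.le_cent hy⟩ hy] at h1
    have h5 := κ₀.2.map_one_ne_zero
    exact Units.ext (mul_right_cancel₀ h5 h1)
  ext z
  obtain ⟨y, hy, hyz⟩ := h.exists_commutator_eq hxinv hxinv' z.2
  have hm : (x : G)⁻¹ * y * (x : G)⁻¹⁻¹ ∈ (P : Subgroup G) := (Subgroup.mem_normalizer_iff.1 hxinv y).1 hy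
  rw [inv_inv] at hm hyz
  have hz : z = (⟨y, hy⟩ : (P : Subgroup G))⁻¹ * ⟨(x : G)⁻¹ * y * x, hm⟩ := Subtype.ext hyz.symm
  rw [hz, map_mul, map_inv, hfix y hy hm]
  simp

/-- Decomposition into base and twist. -/
theorem exists_base {r : CentS P →* (P : Subgroup G)} (hr : ∀ (c : CentS P) (hc : (c : G) ∈ (P : Subgroup G)), r c = ⟨c, hc⟩)
    (h : StarSylow P) (κ : IrrCharacter (CentS P)) :
    ∃ κ₀ : IrrCharacter (CentS P), IsBase κ₀ ∧ ∃ l : (P : Subgroup G) →* ℂˣ, κ = twI r κ₀ l ∧ (¬ IsBase κ → l ≠ 1) := by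
  classical
  have hcen : ∀ y : (P : Subgroup G), (⟨y, h.le_cent y.2⟩ : CentS P) ∈ Subgroup.center (CentS P) := by
    intro y
    rw [Subgroup.mem_center_iff]
    intro c
    apply Subtype.ext
    exact ((Subgroup.mem_centralizer_iff.1 c.2) y y.2).symm
  have h1 := κ.2.map_one_ne_zero
  let lκ : (P : Subgroup G) →* ℂˣ :=
    { toFun := fun y => Units.mk0 ((κ : CentS P → ℂ) ⟨y, h.le_cent y.2⟩ / (κ : CentS P → ℂ) 1)
        (div_ne_zero (central_ne_zero κ.2 (hcen y)) h1)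
      map_one' := by
        apply Units.ext
        simp only [Units.val_mk0, Units.val_one]
        exact div_self h1
      map_mul' := by
        intro a b
        apply Units.ext
        simp only [Units.val_mk0, Units.val_mul]
        have h2 := central_mul κ.2 (hcen a) ⟨b, h.le_cent b.2⟩
        have h3 : (⟨a, h.le_cent a.2⟩ : CentS P) * ⟨b, h.le_cent b.2⟩ = ⟨(a * b : (P : Subgroup G)), h.le_cent (a * b).2⟩ := rfl
        rw [h3] at h2
        field_simp
        linear_combination h2 }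
  have hlκ : ∀ y : (P : Subgroup G), ((lκ y : ℂˣ) : ℂ) = (κ : CentS P → ℂ) ⟨y, h.le_cent y.2⟩ / (κ : CentS P → ℂ) 1 := fun y => rfl
  refine ⟨twI r κ lκ⁻¹, ?_, lκ, ?_, ?_⟩
  · intro c hc
    have hone : (twI r κ lκ⁻¹ : CentS P → ℂ) 1 = (κ : CentS P → ℂ) 1 := by
      rw [twI_apply, map_one, map_one]
      simp
    rw [hone, twI_apply, hr c hc]
    rw [MonoidHom.inv_apply, Units.val_inv_eq_inv_val, hlκ]
    have h2 := central_ne_zero κ.2 (hcen ⟨c, hc⟩)
    have h3 : (⟨((⟨c, hc⟩ : (P : Subgroup G)) : G), h.le_cent hc⟩ : CentS P) = c := rfl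
    rw [h3] at h2 ⊢
    field_simp
  · apply Subtype.ext
    funext c
    rw [twI_apply, twI_apply, MonoidHom.inv_apply, Units.val_inv_eq_inv_val]
    have h2 : ((lκ (r c) : ℂˣ) : ℂ) ≠ 0 := (lκ (r c)).ne_zero
    field_simp
  · intro hnb hl
    apply hnb
    intro c hc
    have h2 := hlκ ⟨c, hc⟩
    rw [hl] at h2
    simp only [MonoidHom.one_apply, Units.val_one] at h2
    have h3 : (⟨((⟨c, hc⟩ : (P : Subgroup G)) : G), h.le_cent hc⟩ : CentS P) = c := rfl
    rw [h3] at h2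
    rw [eq_div_iff h1, one_mul] at h2
    exact h2.symm

/-- The size of an orbit. -/
theorem card_orbit {r : CentS P →* (P : Subgroup G)} (hr : ∀ (c : CentS P) (hc : (c : G) ∈ (P : Subgroup G)), r c = ⟨c, hc⟩)
    (h : StarSylow P) {κ₀ : IrrCharacter (CentS P)} (hb : IsBase κ₀) {l : (P : Subgroup G) →* ℂˣ} (hl : l ≠ 1) :
    Set.ncard {κ' : IrrCharacter (CentS P) | ∃ x : NormS P, cjI (hnS P) x (twI r κ₀ l) = κ'} =
      (CentS P).relIndex (NormS P) := by
  classical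
  letI := cjAct (C := CentS P) (N := NormS P) (hnS P)
  have h1 : MulAction.stabilizer (NormS P) (twI r κ₀ l) = (CentS P).subgroupOf (NormS P) := by
    ext x
    rw [MulAction.mem_stabilizer_iff, Subgroup.mem_subgroupOf]
    constructor
    · intro hx
      exact twI_stab hr h hb hl x hx
    · intro hx
      exact cjI_of_mem (hnS P) x hx _
  have h2 := MulAction.index_stabilizer (NormS P) (twI r κ₀ l)
  rw [h1] at h2
  rw [Subgroup.relIndex, h2]
  rfl

end Twist

section QLevel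

variable {Q : Type u} [Group Q] [Fintype Q]

theorem card_hom_of_comm (hQ : ∀ a b : Q, a * b = b * a) : Nat.card (Q →* ℂˣ) = Nat.card Q := by
  classical
  rw [← Nat.card_congr (linearEquivHom (G := Q)), card_linear_eq_index]
  have h1 : commutator Q = ⊥ := by
    rw [commutator_def, ← le_bot_iff]
    rw [Subgroup.commutator_le]
    intro a _ b _
    rw [Subgroup.mem_bot, commutatorElement_eq_one_iff_mul_comm]
    exact hQ a b
  rw [h1, Subgroup.index_bot]

instance finite_hom_units [Finite Q] : Finite (Q →* ℂˣ) :=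
  Finite.of_equiv _ (linearEquivHom (G := Q))

/-- The sum of the multiplicities of the linear characters of an abelian group is the degree. -/
theorem sum_hom_classInner (hQ : ∀ a b : Q, a * b = b * a) {f : Q → ℂ} (hf : IsCharacter Q f) [Fintype (Q →* ℂˣ)] :
    ∑ l : Q →* ℂˣ, classInner f (fun g => ((l g : ℂˣ) : ℂ)) = f 1 := by
  classical
  letI := irrFintype (G := Q)
  have h1 := classFunction_apply hf.isClassFunction (1 : Q)
  rw [h1]
  have hirr : ∀ θ : IrrCharacter Q, (θ : Q → ℂ) 1 = 1 := fun θ => isIrr_degree_one_of_comm hQ θ.2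
  simp only [hirr, mul_one]
  let e : (Q →* ℂˣ) ≃ IrrCharacter Q :=
    (linearEquivHom (G := Q)).symm.trans (Equiv.subtypeUnivEquiv hirr)
  refine Fintype.sum_equiv e _ _ fun l => ?_
  rfl

/-- For an abelian group the norm of a character is at least its degree. -/
theorem degree_le_norm (hQ : ∀ a b : Q, a * b = b * a) {f : Q → ℂ} (hf : IsCharacter Q f) :
    ∃ d n : ℕ, f 1 = d ∧ classInner f f = n ∧ d ≤ n := by
  classical
  letI := irrFintype (G := Q)
  obtain ⟨a, rfl⟩ := hf.exists_coeff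
  have hirr : ∀ θ : IrrCharacter Q, (θ : Q → ℂ) 1 = 1 := fun θ => isIrr_degree_one_of_comm hQ θ.2
  refine ⟨∑ θ, a θ, ∑ θ, a θ * a θ, ?_, ?_, ?_⟩
  · simp [Finset.sum_apply, hirr]
  · rw [classInner_sum_right]
    push_cast
    refine Finset.sum_congr rfl fun θ _ => ?_
    rw [← Nat.cast_smul_eq_nsmul ℂ, classInner_smul_right, classInner_sum_coeff_nat, Complex.conj_natCast]
  · refine Finset.sum_le_sum fun θ _ => ?_
    exact Nat.le_mul_self _

end QLevel

end CfsgLib.Char
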