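import Cfsg.Agent.Lib.Char.StarP3

/-! # The exceptional families attached to the irreducible characters of the centralizer -/

set_option autoImplicit false
set_option linter.unusedSectionVars false
set_option linter.unusedVariables false
set_option linter.style.haveILetI false

namespace CfsgLib.Char

open Cfsg
open scoped ComplexConjugate

universe u

section Bessel

variable {G : Type u} [Group G] [Fintype G]

attribute [local instance] irrFintype

/-- Bessel's inequality for generalized characters, with the equality case at the identity. -/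
theorem gen_bessel {τ : G → ℂ} (hτ : IsGeneralizedCharacter G τ) (T : Finset (IrrCharacter G))
    (a : IrrCharacter G → ℤ) (ha : ∀ ζ ∈ T, classInner (ζ : G → ℂ) τ = (a ζ : ℂ)) (N : ℤ)
    (hN : classInner τ τ = (N : ℂ)) :
    ∑ ζ ∈ T, a ζ ^ 2 ≤ N ∧ (∑ ζ ∈ T, a ζ ^ 2 = N → τ 1 = ∑ ζ ∈ T, (a ζ : ℂ) * (ζ : G → ℂ) 1) := by
  classical
  obtain ⟨c, rfl⟩ := hτ.exists_int_coeff
  have hc : ∀ ζ ∈ T, a ζ = c ζ := by
    intro ζ hζ
    have h1 := ha ζ hζ
    rw [← conj_classInner, classInner_int_coeff_right, map_intCast] at h1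
    exact_mod_cast h1.symm
  have hN' : ∑ ψ, c ψ * c ψ = N := by
    rw [classInner_int_coeff] at hN
    exact_mod_cast hN
  have hsum : ∑ ζ ∈ T, a ζ ^ 2 = ∑ ζ ∈ T, c ζ * c ζ := by
    refine Finset.sum_congr rfl fun ζ hζ => ?_
    rw [hc ζ hζ, sq]
  constructor
  · rw [hsum, ← hN']
    exact Finset.sum_le_sum_of_subset_of_nonneg (Finset.subset_univ T) fun ψ _ _ => mul_self_nonneg _
  · intro heq
    rw [hsum, ← hN'] at heq
    have h0 : ∀ ψ, ψ ∉ T → c ψ = 0 := by
      intro ψ hψ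
      have h2 := Finset.sum_sdiff (Finset.subset_univ T) (f := fun ψ => c ψ * c ψ)
      have h3 : ∑ ψ ∈ Finset.univ \ T, c ψ * c ψ = 0 := by linarith
      have h4 := (Finset.sum_eq_zero_iff_of_nonneg (fun ψ _ => mul_self_nonneg (c ψ))).1 h3 ψ
        (Finset.mem_sdiff.2 ⟨Finset.mem_univ _, hψ⟩)
      exact mul_self_eq_zero.1 h4
    rw [Finset.sum_apply]
    rw [← Finset.sum_subset (Finset.subset_univ T)]
    · refine Finset.sum_congr rfl fun ζ hζ => ?_
      rw [hc ζ hζ]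
      rfl
    · intro ψ _ hψ
      simp [h0 ψ hψ]

theorem exists_kerS {χ : G → ℂ} (hχ : IsIrrCharacter G χ) :
    ∃ K : Subgroup G, K.Normal ∧ ∀ g, g ∈ K ↔ χ g = χ 1 := by
  have h1 := hχ.map_one_ne_zero
  obtain ⟨n, ρ, hρ, rfl⟩ := hχ
  refine ⟨ρ.ker, MonoidHom.normal_ker _, fun g => ?_⟩
  rw [MonoidHom.mem_ker]
  constructor
  · intro h
    simp [Representation.character, h]
  · intro h
    have h2 := (character_eq_finrank_iff ρ g)
    rw [Representation.char_one] at h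
    exact h2.1 h

end Bessel

section Reps

variable {G : Type u} [Group G] [Fintype G] {p : ℕ} [hp : Fact p.Prime] {P : Sylow p G}
variable [Fintype (CentS P)] [Fintype (NormS P)]
variable {r : CentS P →* (P : Subgroup G)}

theorem exists_reps (hr : ∀ (c : CentS P) (hc : (c : G) ∈ (P : Subgroup G)), r c = ⟨c, hc⟩)
    (h : StarSylow P) {κ₀ : IrrCharacter (CentS P)} (hb : IsBase κ₀) [Fintype ((P : Subgroup G) →* ℂˣ)] :
    ∃ (n : ℕ) (ℓ : Fin n → ((P : Subgroup G) →* ℂˣ)), (∀ i, ℓ i ≠ 1) ∧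
      (∀ i j (x : NormS P), i ≠ j → cjI (hnS P) x (twI r κ₀ (ℓ i)) ≠ twI r κ₀ (ℓ j)) ∧
      (∀ l, l ≠ 1 → ∃ i, ∃ x : NormS P, cjI (hnS P) x (twI r κ₀ (ℓ i)) = twI r κ₀ l) ∧
      Nat.card (P : Subgroup G) - 1 ≤ n * (CentS P).relIndex (NormS P) := by
  classical
  letI := cjAct (C := CentS P) (N := NormS P) (hnS P)
  let sR := MulAction.orbitRel (NormS P) (IrrCharacter (CentS P))
  let cl : ((P : Subgroup G) →* ℂˣ) → Quotient sR := fun l => Quotient.mk sR (twI r κ₀ l)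
  let Λ : Finset ((P : Subgroup G) →* ℂˣ) := Finset.univ.filter (· ≠ 1)
  let T := Λ.image cl
  have hex : ∀ t : T, ∃ l ∈ Λ, cl l = t := fun t => Finset.mem_image.1 t.2
  choose pick hpick hcl using hex
  let e₀ := T.equivFin
  have hcl_iff : ∀ l l', cl l = cl l' ↔ ∃ x : NormS P, cjI (hnS P) x (twI r κ₀ l') = twI r κ₀ l := by
    intro l l'
    simp only [cl]
    rw [Quotient.eq]
    exact Iff.rfl
  refine ⟨T.card, fun i => pick (e₀.symm i), ?_, ?_, ?_, ?_⟩
  · intro i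
    exact (Finset.mem_filter.1 (hpick (e₀.symm i))).2
  · intro i j x hij hx
    apply hij
    have h1 : cl (pick (e₀.symm j)) = cl (pick (e₀.symm i)) := (hcl_iff _ _).2 ⟨x, hx⟩
    rw [hcl, hcl] at h1
    exact (e₀.symm.injective (Subtype.ext h1)).symm
  · intro l hl
    have hm : cl l ∈ T := Finset.mem_image_of_mem cl (Finset.mem_filter.2 ⟨Finset.mem_univ _, hl⟩)
    refine ⟨e₀ ⟨cl l, hm⟩, ?_⟩
    have h1 : cl l = cl (pick (e₀.symm (e₀ ⟨cl l, hm⟩))) := by
      rw [hcl, Equiv.symm_apply_apply]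
    exact (hcl_iff _ _).1 h1
  · have hcard : Λ.card = Nat.card (P : Subgroup G) - 1 := by
      have h1 : Λ = Finset.univ.erase (1 : (P : Subgroup G) →* ℂˣ) := by
        ext l
        simp [Λ]
      rw [h1, Finset.card_erase_of_mem (Finset.mem_univ _), Finset.card_univ, ← Nat.card_eq_fintype_card,
        card_hom_of_comm (fun a b => Subtype.ext (h.comm a.2 b.2))]
    rw [← hcard, mul_comm]
    refine Finset.card_le_mul_card_image Λ _ ?_
    intro t ht
    obtain ⟨l₀, hl₀, rfl⟩ := Finset.mem_image.1 ht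
    have hl₀' : l₀ ≠ 1 := (Finset.mem_filter.1 hl₀).2
    rw [← card_orbit hr h hb hl₀', ← Set.ncard_coe_finset]
    refine Set.ncard_le_ncard_of_injOn (fun l => twI r κ₀ l) ?_ ?_ (Set.toFinite _)
    · intro l hl
      have hl' := (Finset.mem_filter.1 (Finset.mem_coe.1 hl)).2
      exact (hcl_iff _ _).1 hl'
    · intro a _ b _ hab
      exact twI_injective hr h hb hab

theorem S_hyp (h : StarSylow P) : ∀ c ∈ CentS P, ∀ x : G, p ∣ orderOf c → x⁻¹ * c * x ∈ CentS P →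
    p ∣ orderOf (x⁻¹ * c * x) → x ∈ NormS P :=
  fun c hc x hd hm _ => h.ti_singular hc hd hm

theorem S_one : ¬ (fun c : G => p ∣ orderOf c) 1 := by
  simp only [orderOf_one]
  intro hd
  exact hp.out.one_lt.ne' (Nat.dvd_one.1 hd)

theorem cent_le (h : StarSylow P) : CentS P ≤ NormS P := h.cent_le_norm

/-- The exceptional family of a base character. -/
theorem family_of_base (hr : ∀ (c : CentS P) (hc : (c : G) ∈ (P : Subgroup G)), r c = ⟨c, hc⟩)
    (h : StarSylow P) {κ₀ : IrrCharacter (CentS P)} (hb : IsBase κ₀) {n : ℕ} (i₀ : Fin n)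
    (ℓ : Fin n → ((P : Subgroup G) →* ℂˣ)) (hℓ : ∀ i, ℓ i ≠ 1)
    (hnc : ∀ i j (x : NormS P), i ≠ j → cjI (hnS P) x (twI r κ₀ (ℓ i)) ≠ twI r κ₀ (ℓ j)) :
    ∃ ε : ℂ, (ε = 1 ∨ ε = -1) ∧ ∃ X : Fin n → (G → ℂ), (∀ i, IsIrrCharacter G (X i)) ∧ Function.Injective X ∧
      ∀ i, indFun (CentS P) (twI r κ₀ (ℓ i) : CentS P → ℂ) - indFun (CentS P) (twI r κ₀ (ℓ i₀) : CentS P → ℂ) =
        ε • (X i - X i₀) := by
  refine exc_family (hnS P) (cent_le h) (fun c : G => p ∣ orderOf c) (S_hyp h) S_one i₀ _ ?_ hnc ?_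
  · intro i x hx
    exact twI_stab hr h hb (hℓ i) x hx
  · intro i c hc
    rw [twI_regular r κ₀ _ c hc, twI_regular r κ₀ _ c hc]

end Reps

end CfsgLib.Char
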