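import Cfsg.Agent.Lib.Char.Gallagher
import Cfsg.Agent.Lib.Char.UniqueSing

/-! # Trivial-intersection Sylow subgroups: fixed vectors of the normalizer force large degree -/

set_option autoImplicit false
set_option linter.unusedSectionVars false
set_option linter.unusedVariables false
set_option linter.style.haveILetI false

namespace CfsgLib.Char

open Cfsg
open scoped ComplexConjugate Pointwise

universe u v

section Socle

variable {k : Type v} [Field k] {p : ℕ} [hp : Fact p.Prime] [CharP k p] {P : Type u} [Group P] [Fintype P]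

/-- Every nonzero left ideal of the group algebra of a `p`-group in characteristic `p`
contains the sum of all group elements. -/
theorem exists_conv_one (hP : IsPGroup p P) (b : P → k) (hb : b ≠ 0) :
    ∃ c : P → k, ∀ s, ∑ y, c y * b (y⁻¹ * s) = 1 := by
  classical
  let ι : ZMod p →+* k := ZMod.castHom (dvd_refl p) k
  let φ : (P → ZMod p) →+ (P → k) :=
    { toFun := fun n s => ∑ y, ι (n y) * b (y⁻¹ * s)
      map_zero' := by
        funext s
        simp
      map_add' := by
        intro m n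
        funext s
        simp [add_mul, Finset.sum_add_distrib] }
  have hφ : ∀ n s, φ n s = ∑ y, ι (n y) * b (y⁻¹ * s) := fun _ _ => rfl
  have hact : ∀ (y : P) (n : P → ZMod p), (fun s => φ n (y⁻¹ * s)) = φ (fun x => n (y⁻¹ * x)) := by
    intro y n
    funext s
    rw [hφ, hφ]
    refine (Fintype.sum_equiv (Equiv.mulLeft y) _ _ fun t => ?_)
    simp [mul_assoc]
  let S : AddSubgroup (P → k) := φ.range
  have hmem : ∀ (y : P) (u : P → k), u ∈ S → (fun s => u (y⁻¹ * s)) ∈ S := by
    rintro y _ ⟨n, rfl⟩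
    exact ⟨fun x => n (y⁻¹ * x), (hact y n).symm⟩
  letI : MulAction P S :=
    { smul := fun y u => ⟨fun s => (u : P → k) (y⁻¹ * s), hmem y u u.2⟩
      one_smul := by
        intro u
        apply Subtype.ext
        funext s
        show (u : P → k) (1⁻¹ * s) = _
        simp
      mul_smul := by
        intro a c u
        apply Subtype.ext
        funext s
        show (u : P → k) ((a * c)⁻¹ * s) = (u : P → k) (c⁻¹ * (a⁻¹ * s))
        rw [mul_inv_rev, mul_assoc] }
  have hsm : ∀ (y : P) (u : S) (s : P), ((y • u : S) : P → k) s = (u : P → k) (y⁻¹ * s) := fun _ _ _ => rfl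
  haveI : Finite S := inferInstance
  have hcard : ∃ m, Nat.card S = p ^ m := by
    have h1 : Nat.card S = φ.ker.index := (AddSubgroup.index_ker φ).symm
    have h2 : φ.ker.index ∣ Nat.card (P → ZMod p) := AddSubgroup.index_dvd_card _
    have h3 : Nat.card (P → ZMod p) = p ^ Fintype.card P := by
      rw [Nat.card_eq_fintype_card, Fintype.card_fun, ZMod.card]
    rw [h3] at h2
    obtain ⟨m, -, hm⟩ := (Nat.dvd_prime_pow hp.out).1 h2
    exact ⟨m, h1.trans hm⟩
  have hbS : b ∈ S := by
    refine ⟨fun y => if y = 1 then 1 else 0, ?_⟩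
    funext s
    rw [hφ, Finset.sum_eq_single 1]
    · simp
    · intro y _ hy
      simp [hy]
    · intro h0
      exact absurd (Finset.mem_univ _) h0
  have hnt : Nontrivial S := ⟨⟨⟨b, hbS⟩, 0, fun h0 => hb (congrArg Subtype.val h0)⟩⟩
  have hpd : p ∣ Nat.card S := by
    obtain ⟨m, hm⟩ := hcard
    have h1 : 1 < Nat.card S := Finite.one_lt_card
    rw [hm] at h1 ⊢
    have h2 : m ≠ 0 := by
      rintro rfl
      simp at h1
    exact dvd_pow_self p h2
  have hfix := hP.card_modEq_card_fixedPoints S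
  have hpf : p ∣ Nat.card (MulAction.fixedPoints P S) := (Nat.modEq_zero_iff_dvd.1 (hfix.symm.trans (Nat.modEq_zero_iff_dvd.2 hpd)))
  have hzero : (0 : S) ∈ MulAction.fixedPoints P S := by
    intro y
    apply Subtype.ext
    funext s
    rfl
  have hnt2 : Nontrivial (MulAction.fixedPoints P S) := by
    haveI : Nonempty (MulAction.fixedPoints P S) := ⟨⟨0, hzero⟩⟩
    have h1 : 0 < Nat.card (MulAction.fixedPoints P S) := Nat.card_pos
    have h2 : 1 < Nat.card (MulAction.fixedPoints P S) := by
      have := Nat.le_of_dvd h1 hpf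
      have := hp.out.one_lt
      omega
    exact Finite.one_lt_card_iff_nontrivial.1 h2
  obtain ⟨⟨u, hu⟩, hu0⟩ := exists_ne (⟨0, hzero⟩ : MulAction.fixedPoints P S)
  have hu0' : (u : P → k) ≠ 0 := by
    intro h0
    apply hu0
    apply Subtype.ext
    apply Subtype.ext
    exact h0
  have hconst : ∀ s, (u : P → k) s = (u : P → k) 1 := by
    intro s
    have h1 := hu s
    have h2 := hsm s u s
    rw [h1] at h2
    rw [h2]
    simp
  have hκ : (u : P → k) 1 ≠ 0 := by
    intro h0
    apply hu0'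
    funext s
    rw [hconst, h0]
    rfl
  obtain ⟨n, hn⟩ := u.2
  refine ⟨fun y => ι (n y) / (u : P → k) 1, fun s => ?_⟩
  have h3 := hconst s
  rw [← hn, hφ, hn] at h3
  have h4 : ∑ y, ι (n y) / (u : P → k) 1 * b (y⁻¹ * s) = (∑ y, ι (n y) * b (y⁻¹ * s)) / (u : P → k) 1 := by
    rw [Finset.sum_div]
    refine Finset.sum_congr rfl fun y _ => ?_
    ring
  rw [h4, h3, div_self hκ]

end Socle

section Valuation

/-- A valuation subring of the complex numbers whose maximal ideal contains `p`. -/
theorem exists_valuation_p (p : ℕ) [hp : Fact p.Prime] : ∃ B : ValuationSubring ℂ, (p : ℂ) ∈ B.nonunits := by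
  classical
  let A : Subring ℂ := (Int.castRingHom ℂ).range
  let a : A := ⟨(p : ℂ), ⟨(p : ℤ), by simp⟩⟩
  let I : Ideal A := Ideal.span {a}
  have hI : I ≠ ⊤ := by
    intro h0
    have h1 : (1 : A) ∈ I := by
      rw [h0]
      trivial
    obtain ⟨c, hc⟩ := Ideal.mem_span_singleton'.1 h1
    obtain ⟨z, hz⟩ := c.2
    have h2 : (c : ℂ) * (p : ℂ) = 1 := congrArg Subtype.val hc
    rw [← hz] at h2
    have h3 : z * (p : ℤ) = 1 := by
      have : (((z * (p : ℤ) : ℤ)) : ℂ) = ((1 : ℤ) : ℂ) := by
        push_cast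
        simpa using h2
      exact_mod_cast this
    have h4 : (p : ℤ) ∣ 1 := ⟨z, by rw [mul_comm]; exact h3.symm⟩
    have h5 := Int.natCast_dvd_natCast.1 (by simpa using h4 : (p : ℤ) ∣ ((1 : ℕ) : ℤ))
    exact hp.out.one_lt.ne' (Nat.dvd_one.1 h5)
  obtain ⟨B, -, hB⟩ := Ideal.image_subset_nonunits_valuationSubring I hI
  exact ⟨B, hB ⟨a, Ideal.subset_span rfl, rfl⟩⟩

variable {V : Type v} [AddCommGroup V] [Module ℂ V] {P : Type u} [Group P] [Fintype P] {p : ℕ} [hp : Fact p.Prime]

/-- Linear independence of the translates of a vector whose `P`-trace is not divisible by the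
maximal ideal. -/
theorem linearIndependent_of_sigma (hP : IsPGroup p P) (B : ValuationSubring ℂ) (hpB : (p : ℂ) ∈ B.nonunits)
    (r : P →* Module.End ℂ V) (w : V) (Y : AddSubgroup V)
    (hY : ∀ a ∈ B.nonunits, ∀ y : P, a • r y w ∈ Y) (hσ : ∑ y, r y w ∉ Y) :
    LinearIndependent ℂ (fun y => r y w) := by
  classical
  by_contra hli
  rw [Fintype.not_linearIndependent_iff] at hli
  obtain ⟨g, hg0, i, hi⟩ := hli
  obtain ⟨y₀, -, hmax⟩ := Finset.exists_max_image Finset.univ (fun y => B.valuation (g y)) ⟨1, Finset.mem_univ _⟩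
  have hv0 : B.valuation (g y₀) ≠ 0 := by
    have h1 := hmax i (Finset.mem_univ _)
    have h2 : B.valuation (g i) ≠ 0 := (map_ne_zero _).2 hi
    intro h3
    rw [h3] at h1
    exact h2 (le_antisymm h1 zero_le')
  have hy₀ : g y₀ ≠ 0 := (map_ne_zero _).1 hv0
  have hbmem : ∀ y, g y / g y₀ ∈ B := by
    intro y
    rw [← B.valuation_le_one_iff, map_div₀]
    exact div_le_one_of_le₀ (hmax y (Finset.mem_univ _)) zero_le'
  let b : P → B := fun y => ⟨g y / g y₀, hbmem y⟩
  let k := IsLocalRing.ResidueField B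
  let res : B →+* k := IsLocalRing.residue B
  have hpm : ((p : B) : ℂ) ∈ B.nonunits := by
    simpa using hpB
  have hp0 : (p : k) = 0 := by
    have h1 : (p : B) ∈ IsLocalRing.maximalIdeal B := ValuationSubring.coe_mem_nonunits_iff.1 hpm
    have h2 : res (p : B) = 0 := (IsLocalRing.residue_eq_zero_iff _).2 h1
    simpa using h2
  haveI : CharP k p := (CharP.charP_iff_prime_eq_zero hp.out).2 hp0
  have hbne : (fun y => res (b y)) ≠ 0 := by
    intro h0
    have h1 := congrFun h0 y₀
    have h2 : b y₀ = 1 := by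
      apply Subtype.ext
      show g y₀ / g y₀ = 1
      exact div_self hy₀
    simp [h2] at h1
  obtain ⟨c', hc'⟩ := exists_conv_one (k := k) hP (fun y => res (b y)) hbne
  have hlift : ∀ y, ∃ c : B, res c = c' y := fun y => IsLocalRing.residue_surjective _
  choose c hc using hlift
  let d : P → B := fun s => ∑ y, c y * b (y⁻¹ * s)
  have hd : ∀ s, ((1 : B) - d s : B) ∈ IsLocalRing.maximalIdeal B := by
    intro s
    rw [← IsLocalRing.residue_eq_zero_iff]
    show res (1 - d s) = 0
    rw [map_sub, map_one, map_sum]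
    simp only [map_mul, hc]
    rw [hc' s, sub_self]
  have h1 : ∑ t, ((b t : B) : ℂ) • r t w = 0 := by
    have h2 : ∑ t, ((b t : B) : ℂ) • r t w = (g y₀)⁻¹ • ∑ t, g t • r t w := by
      rw [Finset.smul_sum]
      refine Finset.sum_congr rfl fun t _ => ?_
      rw [smul_smul, inv_mul_eq_div]
    rw [h2, hg0, smul_zero]
  have h3 : ∑ s, ((d s : B) : ℂ) • r s w = 0 := by
    have h4 : ∑ y, ((c y : B) : ℂ) • r y (∑ t, ((b t : B) : ℂ) • r t w) = 0 := by
      rw [h1]
      simp
    rw [← h4]
    have h5 : ∀ y, ((c y : B) : ℂ) • r y (∑ t, ((b t : B) : ℂ) • r t w) =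
        ∑ s, (((c y : B) : ℂ) * ((b (y⁻¹ * s) : B) : ℂ)) • r s w := by
      intro y
      rw [map_sum, Finset.smul_sum]
      refine Fintype.sum_equiv (Equiv.mulLeft y) _ _ fun t => ?_
      simp only [Equiv.coe_mulLeft, inv_mul_cancel_left, map_mul]
      rw [map_smul, smul_smul, Module.End.mul_apply]
    rw [Finset.sum_congr rfl fun y _ => h5 y, Finset.sum_comm]
    refine Finset.sum_congr rfl fun s _ => ?_
    rw [← Finset.sum_smul]
    congr 1
    show (((∑ y, c y * b (y⁻¹ * s) : B)) : ℂ) = _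
    push_cast
    rfl
  apply hσ
  have h6 : ∑ y, r y w = ∑ s, (1 - ((d s : B) : ℂ)) • r s w := by
    simp only [sub_smul, one_smul]
    rw [Finset.sum_sub_distrib, h3, sub_zero]
  rw [h6]
  refine AddSubgroup.sum_mem _ fun s _ => hY _ ?_ s
  have h7 := hd s
  have h8 : (((1 : B) - d s : B) : ℂ) ∈ B.nonunits := ValuationSubring.coe_mem_nonunits_iff.2 h7
  simpa using h8

end Valuation

section Top

variable {G : Type u} [Group G] [Fintype G] {p : ℕ} [hp : Fact p.Prime] {P : Sylow p G}

/-- The trivial character as a member of the type of irreducible characters. -/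
def oneIT (A : Type u) [Group A] : IrrCharacter A := ⟨fun _ => 1, isIrrCharacter_one⟩

/-- An element of `p`-power order normalizing a Sylow subgroup lies in it. -/
theorem mem_sylow_of_normalizer_pElement {x : G} (hx : x ∈ Subgroup.normalizer ((P : Subgroup G) : Set G))
    {k : ℕ} (hk : orderOf x = p ^ k) : x ∈ (P : Subgroup G) := by
  have h1 : IsPGroup p (Subgroup.zpowers x) := by
    rw [IsPGroup.iff_card, Nat.card_zpowers]
    exact ⟨k, hk⟩
  have h2 : Subgroup.zpowers x ≤ Subgroup.normalizer ((P : Subgroup G) : Set G) := by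
    rw [Subgroup.zpowers_le]
    exact hx
  have h3 := IsPGroup.to_sup_of_normal_right' h1 P.isPGroup' h2
  have h4 := P.is_maximal' h3 le_sup_right
  have h5 : x ∈ Subgroup.zpowers x ⊔ (P : Subgroup G) := (le_sup_left : _ ≤ Subgroup.zpowers x ⊔ (P : Subgroup G)) (Subgroup.mem_zpowers x)
  rw [h4] at h5
  exact h5

variable {V : Type v} [AddCommGroup V] [Module ℂ V] [FiniteDimensional ℂ V]

/-- **Lemma T**: if `P` is a trivial-intersection Sylow subgroup, a nonzero vector fixed by the
normalizer of `P` whose `G`-trace vanishes forces the dimension to be at least `|P|`. -/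
theorem card_le_finrank_of_fixed
    (hTI : ∀ g : G, g ∉ Subgroup.normalizer ((P : Subgroup G) : Set G) →
      (P : Subgroup G) ⊓ (MulAut.conj g • (P : Subgroup G)) = ⊥)
    (ρ : Representation ℂ G V) (v : V) (hv : v ≠ 0)
    (hN : ∀ g ∈ Subgroup.normalizer ((P : Subgroup G) : Set G), ρ g v = v)
    (hsum : ∑ g, ρ g v = 0) : Nat.card (P : Subgroup G) ≤ Module.finrank ℂ V := by
  classical
  set N := Subgroup.normalizer ((P : Subgroup G) : Set G) with hNdef
  letI : Fintype N := Fintype.ofFinite _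
  letI : Fintype (G ⧸ N) := Fintype.ofFinite _
  letI : Fintype ↥(P : Subgroup G) := Fintype.ofFinite _
  obtain ⟨B, hpB⟩ := exists_valuation_p p
  let f : G ⧸ N → V := fun c => ρ c.out v
  have hf : ∀ g : G, f (g : G ⧸ N) = ρ g v := by
    intro g
    obtain ⟨h, hh⟩ := QuotientGroup.mk_out_eq_mul N g
    show ρ ((g : G ⧸ N).out) v = _
    rw [hh, map_mul, Module.End.mul_apply, hN h h.2]
  have hcard0 : ((Nat.card N : ℕ) : ℂ) ≠ 0 := card_subgroup_ne_zero N
  have hsumf : ∑ c, f c = 0 := by
    have h1 : ∑ g, ρ g v = (Nat.card N : ℂ) • ∑ c, f c := by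
      rw [Finset.smul_sum]
      have h2 : ∑ g, ρ g v = ∑ q : (G ⧸ N) × N, f q.1 :=
        Fintype.sum_equiv (Subgroup.groupEquivQuotientProdSubgroup (s := N)) _ _ (fun g => (hf g).symm)
      rw [h2, Fintype.sum_prod_type]
      refine Finset.sum_congr rfl fun c _ => ?_
      show (∑ _y : N, f c) = _
      rw [Finset.sum_const, Finset.card_univ, ← Nat.card_eq_fintype_card]
      rw [Nat.cast_smul_eq_nsmul]
    rw [hsum] at h1
    exact (smul_eq_zero.1 h1.symm).resolve_left hcard0
  let c₀ : G ⧸ N := ((1 : G) : G ⧸ N)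
  have hsmul : ∀ (y : ↥(P : Subgroup G)) (c : G ⧸ N), f (y • c) = ρ y (f c) := by
    intro y c
    obtain ⟨g, rfl⟩ := QuotientGroup.mk_surjective c
    have h1 : y • (g : G ⧸ N) = (((y : G) * g : G) : G ⧸ N) := rfl
    rw [h1, hf, hf, map_mul, Module.End.mul_apply]
  have hy0 : ∀ y : ↥(P : Subgroup G), y • c₀ = c₀ := by
    intro y
    show (((y : G) * 1 : G) : G ⧸ N) = ((1 : G) : G ⧸ N)
    rw [QuotientGroup.eq]
    have h1 : ((y : G) * 1)⁻¹ * 1 = (y : G)⁻¹ := by group
    rw [h1]
    exact N.inv_mem (Subgroup.le_normalizer y.2)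
  let T : SubMulAction ↥(P : Subgroup G) (G ⧸ N) :=
    { carrier := {c | c ≠ c₀}
      smul_mem' := by
        intro y c hc h0
        apply hc
        have h1 : y⁻¹ • (y • c) = y⁻¹ • c₀ := congrArg (fun z => y⁻¹ • z) h0
        rw [inv_smul_smul, hy0] at h1
        exact h1 }
  have hfree : ∀ (c : T) (y : ↥(P : Subgroup G)), y • c = c → y = 1 := by
    rintro ⟨c, hc⟩ y hy
    obtain ⟨g, rfl⟩ := QuotientGroup.mk_surjective c
    have hy' : (((y : G) * g : G) : G ⧸ N) = (g : G ⧸ N) := congrArg Subtype.val hy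
    rw [QuotientGroup.eq] at hy'
    have hgN : g ∉ N := by
      intro hg
      apply hc
      show (g : G ⧸ N) = ((1 : G) : G ⧸ N)
      rw [QuotientGroup.eq]
      have h1 : g⁻¹ * 1 = g⁻¹ := by group
      rw [h1]
      exact N.inv_mem hg
    have h1 := hTI g hgN
    apply Subtype.ext
    have h2 : (y : G) ∈ (P : Subgroup G) ⊓ (MulAut.conj g • (P : Subgroup G)) := by
      refine ⟨y.2, ?_⟩
      have h3 : g⁻¹ * (y : G) * g ∈ N := by
        have h4 : ((y : G) * g)⁻¹ * g ∈ N := hy'
        have h5 : g⁻¹ * (y : G)⁻¹ * g ∈ N := by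
          have h6 : ((y : G) * g)⁻¹ * g = g⁻¹ * (y : G)⁻¹ * g := by group
          rwa [h6] at h4
        have h7 := N.inv_mem h5
        have h8 : (g⁻¹ * (y : G)⁻¹ * g)⁻¹ = g⁻¹ * (y : G) * g := by group
        rwa [h8] at h7
      obtain ⟨k, hk⟩ := (IsPGroup.iff_orderOf.1 P.isPGroup') y
      have h9 : orderOf (g⁻¹ * (y : G) * g) = p ^ k := by
        have h10 := orderOf_injective (MulAut.conj g⁻¹).toMonoidHom (MulAut.conj g⁻¹).injective (y : G)
        have h11 : (MulAut.conj g⁻¹).toMonoidHom (y : G) = g⁻¹ * (y : G) * g := by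
          simp [MulAut.conj_apply]
        rw [h11] at h10
        rw [h10, ← Subgroup.orderOf_coe y] at *
        exact hk
      have h12 := mem_sylow_of_normalizer_pElement h3 h9
      show (y : G) ∈ MulAut.conj g • (P : Subgroup G)
      rw [Subgroup.mem_pointwise_smul_iff_inv_smul_mem]
      have h13 : (MulAut.conj g)⁻¹ • (y : G) = g⁻¹ * (y : G) * g := by
        simp [MulAut.smul_def, MulAut.conj_apply, MulAut.inv_def]
      rw [h13]
      exact h12
    rw [h1] at h2
    exact (Subgroup.mem_bot).1 h2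
  let Ω := Quotient (MulAction.orbitRel ↥(P : Subgroup G) T)
  letI : Fintype T := Fintype.ofFinite _
  letI : Fintype Ω := Fintype.ofFinite _
  let e : Ω × ↥(P : Subgroup G) → T := fun q => q.2 • q.1.out
  have he : Function.Bijective e := by
    constructor
    · rintro ⟨ω₁, y₁⟩ ⟨ω₂, y₂⟩ h0
      have h1 : y₁ • ω₁.out = y₂ • ω₂.out := h0
      have h2 : ω₁ = ω₂ := by
        rw [← Quotient.out_eq ω₁, ← Quotient.out_eq ω₂]
        apply Quotient.sound
        show ω₁.out ∈ MulAction.orbit ↥(P : Subgroup G) ω₂.out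
        refine ⟨y₁⁻¹ * y₂, ?_⟩
        show (y₁⁻¹ * y₂) • ω₂.out = ω₁.out
        rw [mul_smul, ← h1, inv_smul_smul]
      subst h2
      have h3 : (y₂⁻¹ * y₁) • ω₁.out = ω₁.out := by
        rw [mul_smul, h1, inv_smul_smul]
      have h4 := hfree _ _ h3
      have h5 : y₁ = y₂ := by
        rw [inv_mul_eq_one] at h4
        exact h4.symm
      rw [h5]
    · intro c
      have h1 : (Quotient.mk _ c : Ω).out ∈ MulAction.orbit ↥(P : Subgroup G) c :=
        Quotient.exact (Quotient.out_eq (Quotient.mk _ c : Ω))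
      obtain ⟨y, hy⟩ := h1
      refine ⟨(Quotient.mk _ c, y⁻¹), ?_⟩
      show y⁻¹ • (Quotient.mk _ c : Ω).out = c
      have hy' : y • c = (Quotient.mk _ c : Ω).out := hy
      rw [← hy', inv_smul_smul]
  let w : V := ∑ ω : Ω, f (ω.out : T)
  have hdec : v + ∑ y : ↥(P : Subgroup G), ρ y w = 0 := by
    have h1 := Fintype.sum_eq_add_sum_subtype_ne f c₀
    have h2 : f c₀ = v := by
      have := hf 1
      rw [map_one] at this
      exact this
    rw [hsumf, h2] at h1
    have h3 : ∑ c : {c // c ≠ c₀}, f c = ∑ c : T, f c :=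
      Fintype.sum_equiv ⟨fun c => ⟨c.1, c.2⟩, fun c => ⟨c.1, c.2⟩, fun _ => rfl, fun _ => rfl⟩ _ _ (fun _ => rfl)
    rw [h3] at h1
    have h4 : ∑ c : T, f c = ∑ q : Ω × ↥(P : Subgroup G), f (e q : T) :=
      (Function.Bijective.sum_comp he (fun c : T => f c)).symm
    rw [h4, Fintype.sum_prod_type] at h1
    have h5 : ∑ ω : Ω, ∑ y : ↥(P : Subgroup G), f (e (ω, y) : T) = ∑ y : ↥(P : Subgroup G), ρ y w := by
      rw [Finset.sum_comm]
      refine Finset.sum_congr rfl fun y _ => ?_
      show _ = ρ y (∑ ω : Ω, f (ω.out : T))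
      rw [map_sum]
      refine Finset.sum_congr rfl fun ω _ => ?_
      exact hsmul y _
    rw [← h5]
    exact h1.symm
  letI : Module ↥B V := Module.compHom V (B.subtype)
  have hsm : ∀ (a : B) (x : V), a • x = (a : ℂ) • x := fun _ _ => rfl
  let X : Submodule ↥B V := Submodule.span ↥B (Set.range fun g : G => ρ g v)
  have hXst : ∀ (g : G) (x : V), x ∈ X → ρ g x ∈ X := by
    intro g x hx
    induction hx using Submodule.span_induction with
    | mem x hx =>
      obtain ⟨g', rfl⟩ := hx
      refine Submodule.subset_span ⟨g * g', ?_⟩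
      simp [map_mul]
    | zero => simp
    | add a b _ _ ha hb =>
      rw [map_add]
      exact X.add_mem ha hb
    | smul a x _ hx =>
      have h1 : ρ g (a • x) = a • ρ g x := by
        rw [hsm, hsm, map_smul]
      rw [h1]
      exact X.smul_mem a hx
  have hvX : v ∈ X := by
    refine Submodule.subset_span ⟨1, ?_⟩
    simp
  have hvm : v ∉ (IsLocalRing.maximalIdeal ↥B) • X := by
    intro hm
    have hst : ∀ (g : G) (x : V), x ∈ (IsLocalRing.maximalIdeal ↥B) • X → ρ g x ∈ (IsLocalRing.maximalIdeal ↥B) • X := by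
      intro g x hx
      refine Submodule.smul_induction_on hx ?_ ?_
      · intro a ha n hn
        have h1 : ρ g (a • n) = a • ρ g n := by
          rw [hsm, hsm, map_smul]
        rw [h1]
        exact Submodule.smul_mem_smul ha (hXst g n hn)
      · intro a b ha hb
        rw [map_add]
        exact Submodule.add_mem _ ha hb
    have hle : X ≤ (IsLocalRing.maximalIdeal ↥B) • X := by
      refine Submodule.span_le.2 ?_
      rintro _ ⟨g, rfl⟩
      exact hst g v hm
    have hbot := Submodule.eq_bot_of_le_smul_of_le_jacobson_bot (IsLocalRing.maximalIdeal ↥B) X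
      (Submodule.fg_span (Set.finite_range _)) hle (IsLocalRing.jacobson_eq_maximalIdeal _ bot_ne_top).ge
    rw [hbot] at hvX
    exact hv ((Submodule.mem_bot _).1 hvX)
  let r : ↥(P : Subgroup G) →* Module.End ℂ V := ρ.comp (P : Subgroup G).subtype
  have hr : ∀ y : ↥(P : Subgroup G), r y = ρ y := fun _ => rfl
  have hwX : ∀ y : ↥(P : Subgroup G), r y w ∈ X := by
    intro y
    rw [hr]
    refine hXst _ _ ?_
    refine Submodule.sum_mem _ fun ω _ => ?_
    exact Submodule.subset_span ⟨_, rfl⟩
  have hli := linearIndependent_of_sigma P.isPGroup' B hpB r w ((IsLocalRing.maximalIdeal ↥B) • X).toAddSubgroup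
    (by
      intro a ha y
      have h1 : a ∈ B := B.nonunits_le ha
      have h2 : (⟨a, h1⟩ : B) ∈ IsLocalRing.maximalIdeal ↥B := ValuationSubring.coe_mem_nonunits_iff.1 ha
      exact Submodule.smul_mem_smul h2 (hwX y))
    (by
      intro h0
      have h1 : ∑ y : ↥(P : Subgroup G), r y w = -v := by
        have := hdec
        rw [add_comm, add_eq_zero_iff_eq_neg] at this
        exact this
      rw [h1] at h0
      have h2 : - -v ∈ ((IsLocalRing.maximalIdeal ↥B) • X).toAddSubgroup := AddSubgroup.neg_mem _ h0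
      rw [neg_neg] at h2
      exact hvm h2)
  have h1 := hli.fintype_card_le_finrank
  rwa [← Nat.card_eq_fintype_card] at h1

/-- An irreducible constituent of the permutation character on the Sylow normalizer (or a larger subgroup),
other than the trivial character, has degree at least `|P|`. -/
theorem irr_fixed_large
    (hTI : ∀ g : G, g ∉ Subgroup.normalizer ((P : Subgroup G) : Set G) →
      (P : Subgroup G) ⊓ (MulAut.conj g • (P : Subgroup G)) = ⊥)
    (ψ : IrrCharacter G) (hψ1 : (ψ : G → ℂ) ≠ fun _ => 1) (K : Subgroup G) [Fintype K]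
    (hK : Subgroup.normalizer ((P : Subgroup G) : Set G) ≤ K)
    (h : classInner (fun k : K => (ψ : G → ℂ) k) (fun _ => 1) ≠ 0) :
    Nat.card (P : Subgroup G) ≤ charDegree (ψ : G → ℂ) := by
  classical
  obtain ⟨ψ', hψ'⟩ := ψ
  have hψ0 := hψ'
  obtain ⟨n, ρ, hρ, rfl⟩ := hψ'
  haveI := hρ
  have hdeg : charDegree ρ.character = n := by
    apply charDegree_eq
    rw [Representation.char_one]
    simp
  change ρ.character ≠ fun _ => 1 at hψ1
  change classInner (fun k : K => ρ.character k) (fun _ => 1) ≠ 0 at h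
  change Nat.card (P : Subgroup G) ≤ charDegree ρ.character
  rw [hdeg]
  let e : Module.End ℂ (Fin n → ℂ) := ∑ k : K, ρ k
  have htr : LinearMap.trace ℂ (Fin n → ℂ) e = ∑ k : K, ρ.character k := by
    simp only [e, map_sum]
    rfl
  have he : e ≠ 0 := by
    intro h0
    apply h
    rw [classInner_def]
    have h1 : ∑ k : K, ρ.character k * conj (1 : ℂ) = ∑ k : K, ρ.character k := by
      simp
    rw [h1, ← htr, h0, map_zero, mul_zero]
  obtain ⟨u, hu⟩ : ∃ u, e u ≠ 0 := by
    by_contra hcon
    push Not at hcon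
    exact he (LinearMap.ext hcon)
  have hfix : ∀ g ∈ K, ρ g (e u) = e u := by
    intro g hg
    have h1 : e u = ∑ k : K, ρ k u := by
      simp only [e, LinearMap.sum_apply]
    rw [h1, map_sum]
    refine Fintype.sum_equiv (Equiv.mulLeft (⟨g, hg⟩ : K)) _ _ fun k => ?_
    simp only [Equiv.coe_mulLeft, Subgroup.coe_mul, map_mul, Module.End.mul_apply]
  let E : Module.End ℂ (Fin n → ℂ) := ∑ g : G, ρ g
  have hEapp : ∀ x, E x = ∑ g : G, ρ g x := by
    intro x
    simp only [E, LinearMap.sum_apply]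
  have hE : ∀ (h : G) (x : Fin n → ℂ), E (ρ h x) = ρ h (E x) := by
    intro h x
    rw [hEapp, hEapp, map_sum]
    have h1 : ∑ g : G, ρ g (ρ h x) = ∑ g : G, ρ g x :=
      Fintype.sum_equiv (Equiv.mulRight h) _ _ fun g => by
        simp [map_mul, Module.End.mul_apply]
    have h2 : ∑ g : G, ρ h (ρ g x) = ∑ g : G, ρ g x :=
      Fintype.sum_equiv (Equiv.mulLeft h) _ _ fun g => by
        simp [map_mul, Module.End.mul_apply]
    rw [h1, h2]
  obtain ⟨c, hc⟩ := schur_scalar ρ E hE
  have hE0 : ∑ g : G, ρ.character g = 0 := by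
    have h1 := classInner_irr_ne (⟨n, ρ, hρ, rfl⟩ : IsIrrCharacter G ρ.character) (isIrrCharacter_one (G := G)) hψ1
    rw [classInner_def] at h1
    have h2 : ∑ g : G, ρ.character g * conj (1 : ℂ) = ∑ g : G, ρ.character g := by
      simp
    rw [h2] at h1
    exact (mul_eq_zero.1 h1).resolve_left (inv_ne_zero (card_ne_zero_C G))
  have htrE : LinearMap.trace ℂ (Fin n → ℂ) E = ∑ g : G, ρ.character g := by
    simp only [E, map_sum]
    rfl
  have hn : n ≠ 0 := by
    rintro rfl
    apply hu
    exact Subsingleton.elim _ _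
  have hc0 : c = 0 := by
    rw [hc, map_smul, LinearMap.trace_id, hE0] at htrE
    simp only [Module.finrank_fin_fun, smul_eq_mul] at htrE
    exact (mul_eq_zero.1 htrE).resolve_right (by exact_mod_cast hn)
  have hsum : ∑ g : G, ρ g (e u) = 0 := by
    rw [← hEapp, hc, hc0]
    simp
  have h1 := card_le_finrank_of_fixed hTI ρ (e u) hu (fun g hg => hfix g (hK hg)) hsum
  simpa using h1

/-- A degree bound for constituents of `χ · conj χ`. -/
theorem inner_eq_restrict
    (hTI : ∀ g : G, g ∉ Subgroup.normalizer ((P : Subgroup G) : Set G) →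
      (P : Subgroup G) ⊓ (MulAut.conj g • (P : Subgroup G)) = ⊥)
    {χ : G → ℂ} (hχ : IsCharacter G χ) (hdeg : charDegree χ ^ 2 ≤ Nat.card (P : Subgroup G))
    (H : Subgroup G) [Fintype H] (hH : Subgroup.normalizer ((P : Subgroup G) : Set G) ≤ H) :
    classInner χ χ = classInner (fun h : H => χ h) (fun h : H => χ h) := by
  classical
  letI := irrFintype (G := G)
  obtain ⟨d, hd⟩ := hχ.map_one
  have hcd : charDegree χ = d := charDegree_eq hd
  by_cases hx : d = 0
  · have h0 : χ = 0 := by
      funext g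
      have h1 := hχ.norm_le g
      rw [hd, hx] at h1
      simpa using h1
    subst h0
    rw [classInner_def, classInner_def]
    simp
  let Φ : G → ℂ := χ * fun g => conj (χ g)
  have hΦ : IsCharacter G Φ := hχ.mul hχ.conj
  have hΦ1 : Φ 1 = ((d ^ 2 : ℕ) : ℂ) := by
    show χ 1 * conj (χ 1) = _
    rw [hd, Complex.conj_natCast]
    push_cast
    ring
  have hone : classInner Φ (fun _ => (1 : ℂ)) = classInner χ χ := by
    rw [classInner_def, classInner_def]
    congr 1
    refine Finset.sum_congr rfl fun y _ => ?_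
    simp [Φ]
  have hne : classInner χ χ ≠ 0 := classInner_self_ne_zero χ 1 (by
    rw [hd]
    exact_mod_cast hx)
  have hsmall : ∀ ψ : IrrCharacter G, (ψ : G → ℂ) ≠ (fun _ => 1) → classInner Φ (ψ : G → ℂ) ≠ 0 →
      charDegree (ψ : G → ℂ) < Nat.card (P : Subgroup G) := by
    intro ψ hψ hc
    have h1 := sub_isCharacter_of_classInner_ne_zero hΦ ψ.2 hc
    have h2 : classInner (Φ - (ψ : G → ℂ)) (fun _ => (1 : ℂ)) ≠ 0 := by
      rw [classInner_sub_left, hone, classInner_irr_ne ψ.2 (isIrrCharacter_one (G := G)) hψ, sub_zero]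
      exact hne
    have h3 := sub_isCharacter_of_classInner_ne_zero h1 (isIrrCharacter_one (G := G)) h2
    obtain ⟨d', hd'⟩ := h3.map_one
    have h4 : ((d ^ 2 : ℕ) : ℂ) - (charDegree (ψ : G → ℂ) : ℂ) - 1 = d' := by
      rw [← hd', ← hΦ1, ← irr_one_eq_charDegree]
      rfl
    have h5 : d ^ 2 = charDegree (ψ : G → ℂ) + 1 + d' := by
      have : ((d ^ 2 : ℕ) : ℂ) = ((charDegree (ψ : G → ℂ) + 1 + d' : ℕ) : ℂ) := by
        push_cast
        rw [← h4]
        push_cast
        ring
      exact_mod_cast this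
    rw [hcd] at hdeg
    omega
  have h1 : classInner (fun h : H => χ h) (fun h : H => χ h) =
      classInner (fun h : H => Φ h) ((oneIT H : IrrCharacter H) : H → ℂ) := by
    rw [classInner_def, classInner_def]
    congr 1
    refine Finset.sum_congr rfl fun y _ => ?_
    simp [Φ, oneIT]
  have h2 : (fun c : H => Φ c) =
      ∑ ψ : IrrCharacter G, classInner Φ (ψ : G → ℂ) • (fun c : H => (ψ : G → ℂ) c) := by
    funext c
    rw [Finset.sum_apply]
    simpa using classFunction_apply hΦ.isClassFunction (c : G)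
  rw [h1, h2, classInner_sum_left, Finset.sum_eq_single (oneIT G)]
  · rw [classInner_smul_left]
    have h3 : classInner (fun c : H => ((oneIT G : IrrCharacter G) : G → ℂ) c) ((oneIT H : IrrCharacter H) : H → ℂ) = 1 :=
      classInner_irr_self (oneIT H).2
    rw [h3, mul_one]
    exact hone.symm
  · intro ψ _ hψ
    rw [classInner_smul_left]
    by_cases hc : classInner Φ (ψ : G → ℂ) = 0
    · rw [hc, zero_mul]
    · have hψ1 : (ψ : G → ℂ) ≠ fun _ => 1 := fun h0 => hψ (Subtype.ext h0)
      have h4 := hsmall ψ hψ1 hc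
      have h5 : classInner (fun k : H => (ψ : G → ℂ) k) ((oneIT H : IrrCharacter H) : H → ℂ) = 0 := by
        by_contra h6
        have h7 := irr_fixed_large hTI ψ hψ1 H hH h6
        omega
      rw [h5, mul_zero]
  · intro h0
    exact absurd (Finset.mem_univ _) h0

end Top

end CfsgLib.Char
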