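import Mathlib
import Cfsg.Agent.Lib.Char.UniqueSing
import Cfsg.Agent.Lib.Char.GlaubP6

/-!
# Groups with a normal `p`-complement and a unique character of degree divisible by `p`
-/

set_option linter.unusedSectionVars false
set_option linter.style.haveILetI false
set_option linter.unusedSimpArgs false
set_option linter.unusedVariables false

namespace CfsgLib.Char

open Module Cfsg
open scoped ComplexConjugate

universe u

variable {G : Type u} [Group G] [Fintype G]

theorem card_carrier_eq_index (g : G) :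
    Nat.card (ConjClasses.mk g).carrier = (Subgroup.centralizer ({g} : Set G)).index := by
  rw [index_centralizer_eq]
  apply Nat.card_congr
  refine Equiv.subtypeEquivRight fun x => ?_
  rw [ConjClasses.mem_carrier_iff_mk_eq, ConjClasses.mk_eq_mk_iff_isConj]
  exact ⟨fun h => h.symm, fun h => h.symm⟩

/-- A centralizer of index prime to `p` contains a Sylow `p`-subgroup. -/
theorem exists_sylow_le_of_not_dvd_index (p : ℕ) [hp : Fact p.Prime] (C : Subgroup G) (h : ¬ p ∣ C.index) :
    ∃ R : Sylow p G, (R : Subgroup G) ≤ C := by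
  classical
  obtain ⟨Q⟩ : Nonempty (Sylow p C) := inferInstance
  have hQ' : IsPGroup p ((Q : Subgroup C).map C.subtype) := Q.isPGroup'.map _
  obtain ⟨R, hR⟩ := hQ'.exists_le_sylow
  refine ⟨R, ?_⟩
  have hcard : Nat.card ((Q : Subgroup C).map C.subtype) = Nat.card (Q : Subgroup C) :=
    Nat.card_congr (Subgroup.equivMapOfInjective _ _ C.subtype_injective).symm.toEquiv
  obtain ⟨e, he⟩ := IsPGroup.iff_card.mp R.isPGroup'
  have h1 : p ^ e ∣ Nat.card G := by
    rw [← he]
    exact Subgroup.card_subgroup_dvd_card _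
  have h2 : p ^ e ∣ Nat.card C := by
    rw [← Subgroup.card_mul_index C] at h1
    have hco : Nat.Coprime (p ^ e) C.index := Nat.Coprime.pow_left _ ((Nat.Prime.coprime_iff_not_dvd hp.out).mpr h)
    exact hco.dvd_of_dvd_mul_right h1
  have h3 := Q.pow_dvd_card_of_pow_dvd_card h2
  have h4 : ((Q : Subgroup C).map C.subtype) = R := by
    apply Subgroup.eq_of_le_of_card_ge hR
    rw [hcard, he]
    exact Nat.le_of_dvd Nat.card_pos h3
  rw [← h4]
  exact Subgroup.map_subtype_le _

section

variable (p : ℕ) [hp : Fact p.Prime] (N H : Subgroup G) [hNn : N.Normal]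

/-- `P` is abelian. -/
theorem sylow_comm_of_unique (hnil : ¬ Group.IsNilpotent G) (hH : IsPGroup p H) (r : G →* H) (hr1 : ∀ h : H, r h = h)
    (hr2 : ∀ k ∈ N, r k = 1) (hidx : ∃ k : ℕ, N.index = p ^ k) (hcard : Nat.card G = Nat.card N * Nat.card H)
    (χ₀ : IrrCharacter G) (huniq : ∀ ψ : IrrCharacter G, p ∣ charDegree (ψ : G → ℂ) → ψ = χ₀) :
    ∀ a b : H, a * b = b * a := by
  classical
  letI : Fintype H := Fintype.ofFinite _
  letI : Fintype N := Fintype.ofFinite _
  by_contra hnc
  rw [comm_iff_all_linear] at hnc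
  push Not at hnc
  obtain ⟨β, hβ⟩ := hnc
  have hrs : Function.Surjective r := fun h => ⟨h, hr1 h⟩
  obtain ⟨s, hs⟩ := IsPGroup.iff_card.mp hH
  have hβp : p ∣ charDegree (β : H → ℂ) := by
    have h1 := charDegree_dvd β
    rw [hs] at h1
    obtain ⟨k, -, hk⟩ := (Nat.dvd_prime_pow hp.out).mp h1
    cases k with
    | zero =>
      exfalso
      apply hβ
      rw [irr_one_eq_charDegree, hk]
      simp
    | succ k =>
      rw [hk]
      exact dvd_pow_self p (by omega)
  let β' : IrrCharacter G := ⟨(β : H → ℂ) ∘ r, β.2.comp_surjective r hrs⟩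
  have hβ'1 : (β' : G → ℂ) 1 = (β : H → ℂ) 1 := by
    show (β : H → ℂ) (r 1) = _
    rw [map_one]
  have hβ'N : ∀ n ∈ N, (β' : G → ℂ) n = (β : H → ℂ) 1 := by
    intro n hn
    show (β : H → ℂ) (r n) = _
    rw [hr2 n hn]
  have hβ'0 : β' = χ₀ := by
    apply huniq
    unfold charDegree
    rw [hβ'1]
    exact hβp
  -- `N ≠ 1`
  have hN1 : N ≠ ⊥ := by
    intro h
    apply hnil
    have h1 : Nat.card N = 1 := by rw [h]; simp
    have h2 : IsPGroup p G := by
      apply IsPGroup.of_card (n := s)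
      rw [hcard, h1, one_mul, hs]
    exact h2.isNilpotent
  obtain ⟨g, hg, hg1⟩ := (Subgroup.bot_or_exists_ne_one N).resolve_left hN1
  have hg1' : (⟨g, hg⟩ : N) ≠ 1 := fun h => hg1 (congrArg Subtype.val h)
  have h1 : ¬ IsConj (⟨g, hg⟩ : N) 1 := by
    rw [isConj_one_left]
    exact hg1'
  rw [isConj_iff_irr] at h1
  push Not at h1
  obtain ⟨θ, hθ⟩ := h1
  have hθ1 : (θ : N → ℂ) ≠ fun _ => 1 := by
    intro h
    apply hθ
    rw [h]
  obtain ⟨χ, hχ⟩ := exists_irr_over N θ.2
  have hres : (fun n : N => (β' : G → ℂ) n) = ((β : H → ℂ) 1) • (fun _ => (1 : ℂ)) := by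
    funext n
    rw [hβ'N n n.2]
    simp
  have hχne : χ ≠ χ₀ := by
    intro h
    apply hχ
    rw [h, ← hβ'0, hres, classInner_smul_left, classInner_irr_ne isIrrCharacter_one θ.2 (Ne.symm hθ1), mul_zero]
  have hχp : ¬ p ∣ charDegree (χ : G → ℂ) := fun h => hχne (huniq χ h)
  obtain ⟨h2, h3⟩ := degree_ratio_dvd_index N χ.2 θ.2 hχ _ _ (irr_one_eq_charDegree χ) (irr_one_eq_charDegree θ)
  obtain ⟨e, he⟩ := hidx
  rw [he] at h3
  obtain ⟨j, -, hj⟩ := (Nat.dvd_prime_pow hp.out).mp h3
  have hcd : charDegree (χ : G → ℂ) = charDegree (θ : N → ℂ) := by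
    have h4 := Nat.mul_div_cancel' h2
    rw [hj] at h4
    cases j with
    | zero =>
      simp at h4
      exact h4.symm
    | succ j =>
      exfalso
      apply hχp
      rw [← h4]
      exact Dvd.dvd.mul_left (dvd_pow_self p (by omega)) _
  have hres2 : (fun n : N => (χ : G → ℂ) n) = (θ : N → ℂ) := by
    apply eq_of_degree_eq_of_constituent (χ.2.isCharacter.restrict N) θ.2 hχ
    show (χ : G → ℂ) 1 = (θ : N → ℂ) 1
    rw [irr_one_eq_charDegree, irr_one_eq_charDegree, hcd]
  have hinv : ∀ (g : G) (n : N), (θ : N → ℂ) ⟨g * n * g⁻¹, hNn.conj_mem (n : G) n.2 g⟩ = (θ : N → ℂ) n := by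
    intro g n
    have h4 := congrFun hres2 ⟨g * n * g⁻¹, hNn.conj_mem (n : G) n.2 g⟩
    have h5 := congrFun hres2 n
    simp only at h4 h5
    rw [← h4, ← h5, χ.2.isClassFunction]
  have hprod : IsIrrCharacter N ((fun _ : N => (1 : ℂ)) * (θ : N → ℂ)) := by
    have : ((fun _ : N => (1 : ℂ)) * (θ : N → ℂ)) = θ := by
      funext n
      simp
    rw [this]
    exact θ.2
  have hcore := (mult_core (N := N) (isIrrCharacter_one) θ.2 (fun g n => rfl) hinv hprod χ.2 (fun n => congrFun hres2 n)).1
  have hinner : classInner (indFun N (fun _ => (1 : ℂ))) (β' : G → ℂ) ≠ 0 := by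
    rw [frobenius N _ β'.2.isClassFunction, hres, classInner_smul_right, classInner_irr_self isIrrCharacter_one, mul_one]
    exact (map_ne_zero _).mpr β.2.map_one_ne_zero
  have h4 := hcore _ β'.2 hinner
  have h5 := huniq ⟨_, h4⟩ (by
    show p ∣ charDegree ((β' : G → ℂ) * (χ : G → ℂ))
    have h6 : ((β' : G → ℂ) * (χ : G → ℂ)) 1 = ((charDegree (β : H → ℂ) * charDegree (χ : G → ℂ) : ℕ) : ℂ) := by
      simp only [Pi.mul_apply]
      rw [hβ'1, irr_one_eq_charDegree β, irr_one_eq_charDegree χ]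
      push_cast
      rfl
    rw [charDegree_eq h6]
    exact Dvd.dvd.mul_right hβp _)
  apply hθ1
  funext n
  have h6 := congrFun (congrArg Subtype.val h5) n
  rw [← hβ'0] at h6
  simp only [Pi.mul_apply] at h6
  rw [hβ'N n n.2] at h6
  have h7 := mul_left_cancel₀ β.2.map_one_ne_zero (h6.trans (mul_one _).symm)
  rw [← congrFun hres2 n]
  exact h7

open GP in
/-- The count of classes of size prime to `p`. -/
theorem card_classes_not_dvd (hH : IsPGroup p H) (hHidx : ¬ p ∣ H.index) (hcop : (Nat.card N).Coprime (Nat.card H))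
    (hNH : N ⊔ H = ⊤) (r : G →* H) (hr1 : ∀ h : H, r h = h)
    (hr2 : ∀ k ∈ N, r k = 1) (hab : ∀ a b : H, a * b = b * a) :
    Nat.card {C : ConjClasses G // ¬ p ∣ Nat.card C.carrier} =
      Nat.card (ConjClasses ↥(N ⊓ Subgroup.centralizer (H : Set G))) * Nat.card H := by
  classical
  set A : Subgroup G := N ⊓ Subgroup.centralizer (H : Set G) with hA
  have hActs : Act H N := ⟨fun s _ => by
    rw [Subgroup.normalizer_eq_top_iff.mpr hNn]
    exact Subgroup.mem_top s, hcop⟩
  have hsolv : Group.IsSolvable H := Group.isSolvable_of_comm hab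
  have habG : ∀ a ∈ H, ∀ b ∈ H, a * b = b * a := fun a ha b hb =>
    congrArg Subtype.val (hab ⟨a, ha⟩ ⟨b, hb⟩)
  have hcomm : ∀ a : A, ∀ u : H, (a : G) * u = u * a := by
    intro a u
    exact ((Subgroup.mem_centralizer_iff.mp a.2.2) u u.2).symm
  let ψ : ConjClasses A × H → ConjClasses G := fun q =>
    Quotient.lift (fun a : A => ConjClasses.mk ((a : G) * q.2)) (by
      intro a b hab'
      obtain ⟨c, hc⟩ := isConj_iff.mp hab'
      apply ConjClasses.mk_eq_mk_iff_isConj.mpr
      refine isConj_iff.mpr ⟨c, ?_⟩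
      have h1 : (c : G) * a * (c : G)⁻¹ = b := congrArg Subtype.val hc
      rw [← h1]
      have h2 := hcomm c q.2
      have h3 : (q.2 : G) * (c : G)⁻¹ = (c : G)⁻¹ * q.2 := by
        have h4 := hcomm c⁻¹ q.2
        simp only [InvMemClass.coe_inv] at h4
        exact h4.symm
      calc (c : G) * ((a : G) * q.2) * (c : G)⁻¹ = c * a * ((q.2 : G) * (c : G)⁻¹) := by group
        _ = c * a * ((c : G)⁻¹ * q.2) := by rw [h3]
        _ = _ := by group) q.1
  have hψ : ∀ (a : A) (u : H), ψ (ConjClasses.mk a, u) = ConjClasses.mk ((a : G) * u) := fun a u => rfl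
  have hψmem : ∀ q, ¬ p ∣ Nat.card (ψ q).carrier := by
    rintro ⟨K, u⟩
    obtain ⟨a, rfl⟩ := ConjClasses.mk_surjective K
    rw [hψ, card_carrier_eq_index]
    intro h
    apply hHidx
    refine h.trans (Subgroup.index_dvd_of_le ?_)
    intro v hv
    rw [Subgroup.mem_centralizer_singleton_iff]
    have h1 := hcomm a ⟨v, hv⟩
    have h2 := habG v hv u u.2
    calc v * ((a : G) * u) = (v * a) * u := by group
      _ = (a * v) * u := by rw [← h1]
      _ = a * (v * u) := by group
      _ = a * (u * v) := by rw [h2]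
      _ = (a : G) * u * v := by group
  rw [← Nat.card_prod]
  symm
  apply Nat.card_congr
  refine Equiv.ofBijective (fun q => ⟨ψ q, hψmem q⟩) ⟨?_, ?_⟩
  · rintro ⟨K, u⟩ ⟨K', u'⟩ h
    obtain ⟨a, rfl⟩ := ConjClasses.mk_surjective K
    obtain ⟨a', rfl⟩ := ConjClasses.mk_surjective K'
    have h1 : ConjClasses.mk ((a : G) * u) = ConjClasses.mk ((a' : G) * u') := congrArg Subtype.val h
    obtain ⟨t, ht⟩ := isConj_iff.mp (ConjClasses.mk_eq_mk_iff_isConj.mp h1)
    have hpow : ∀ a : A, (a : G) ^ Nat.card N = 1 := by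
      intro a
      have h2 := pow_card_eq_one' (x := (⟨a, a.2.1⟩ : N))
      exact congrArg Subtype.val h2
    have hpow' : ∀ u : H, (u : G) ^ Nat.card H = 1 := by
      intro u
      have h2 := pow_card_eq_one' (x := u)
      exact congrArg Subtype.val h2
    obtain ⟨h2, h3⟩ := conj_parts_of_coprime hcop (hpow a) (hpow a') (hpow' u) (hpow' u') (hcomm a u) (hcomm a' u') ht
    have h4 : u = u' := by
      have h5 := congrArg r h3
      simp only [map_mul, map_inv, hr1] at h5
      rw [hab (r t) u, mul_assoc, mul_inv_cancel, mul_one] at h5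
      exact h5
    subst h4
    have ht' : t ∈ N ⊔ H := by
      rw [hNH]
      exact Subgroup.mem_top t
    have ht'' : t ∈ ((N ⊔ H : Subgroup G) : Set G) := ht'
    rw [Subgroup.normal_mul, Set.mem_mul] at ht''
    obtain ⟨n, hn, v, hv, rfl⟩ := ht''
    have h5 : n * a * n⁻¹ = a' := by
      rw [← h2]
      have h6 := hcomm a ⟨v, hv⟩
      simp only at h6
      have h7 : v * (a : G) * v⁻¹ = a := by
        rw [← h6]
        group
      calc n * (a : G) * n⁻¹ = n * (v * (a : G) * v⁻¹) * n⁻¹ := by rw [h7]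
        _ = _ := by group
    obtain ⟨y, hy, hyc⟩ := conj_in_fix hActs hsolv a.2 a'.2 hn h5
    have h8 : ConjClasses.mk a = ConjClasses.mk a' := by
      apply ConjClasses.mk_eq_mk_iff_isConj.mpr
      exact isConj_iff.mpr ⟨⟨y, hy⟩, Subtype.ext hyc⟩
    rw [h8]
  · rintro ⟨C, hC⟩
    obtain ⟨g, rfl⟩ := ConjClasses.mk_surjective C
    rw [card_carrier_eq_index] at hC
    obtain ⟨R, hR⟩ := exists_sylow_le_of_not_dvd_index p _ hC
    -- conjugate `R` onto `H`
    let P : Sylow p G := hH.toSylow hHidx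
    have hPH : (P : Subgroup G) = H := IsPGroup.toSylow_coe hH hHidx
    obtain ⟨c, hc⟩ := MulAction.exists_smul_eq G R P
    let g' := c * g * c⁻¹
    have hgg' : ConjClasses.mk g' = ConjClasses.mk g := by
      apply ConjClasses.mk_eq_mk_iff_isConj.mpr
      exact (isConj_iff.mpr ⟨c, rfl⟩).symm
    have hcent : ∀ v ∈ H, v * g' = g' * v := by
      intro v hv
      have hv' : v ∈ (c • R : Sylow p G) := by
        rw [hc]
        show v ∈ (P : Subgroup G)
        rw [hPH]
        exact hv
      have hv'' : c⁻¹ * v * c ∈ (R : Subgroup G) := by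
        have hv2 : v ∈ ((c • R : Sylow p G) : Subgroup G) := hv'
        rw [Sylow.coe_subgroup_smul, Subgroup.mem_pointwise_smul_iff_inv_smul_mem] at hv2
        simpa [MulAut.smul_def, MulAut.conj_apply, mul_assoc] using hv2
      have h1 := hR hv''
      rw [Subgroup.mem_centralizer_singleton_iff] at h1
      calc v * g' = c * ((c⁻¹ * v * c) * g) * c⁻¹ := by simp only [g']; group
        _ = c * (g * (c⁻¹ * v * c)) * c⁻¹ := by rw [h1]
        _ = g' * v := by simp only [g']; group
    have hg'm : g' ∈ ((N ⊔ H : Subgroup G) : Set G) := by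
      rw [hNH]
      exact Subgroup.mem_top g'
    rw [Subgroup.normal_mul, Set.mem_mul] at hg'm
    obtain ⟨k, hk, u, hu, hku⟩ := hg'm
    have hkA : k ∈ A := by
      refine ⟨hk, Subgroup.mem_centralizer_iff.mpr fun v hv => ?_⟩
      have h1 := hcent v hv
      have h2 := habG v hv u hu
      rw [← hku] at h1
      have h3 : v * k * u = k * v * u := by
        calc v * k * u = v * (k * u) := by group
          _ = k * u * v := h1
          _ = k * (u * v) := by group
          _ = k * (v * u) := by rw [h2]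
          _ = k * v * u := by group
      exact mul_right_cancel h3
    refine ⟨(ConjClasses.mk ⟨k, hkA⟩, ⟨u, hu⟩), ?_⟩
    apply Subtype.ext
    show ConjClasses.mk (k * u) = ConjClasses.mk g
    rw [hku]
    exact hgg'

end

theorem card_subtype_add_compl {α : Type*} [Finite α] (q : α → Prop) :
    Nat.card {a // q a} + Nat.card {a // ¬ q a} = Nat.card α := by
  classical
  rw [← Nat.card_sum]
  exact Nat.card_congr (Equiv.sumCompl q)

open GP in
theorem s4763_main {G : Type u} [Group G] [Finite G] (p : ℕ) [hp : Fact p.Prime] (hnil : ¬ Group.IsNilpotent G)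
    (N : Subgroup G) [hNn : N.Normal] (hN : (Nat.card N).Coprime p) (hidx : ∃ k : ℕ, N.index = p ^ k)
    (hone : Nat.card {χ : IrrCharacter G // p ∣ charDegree (χ : G → ℂ)} = 1) :
    Nat.card {C : ConjClasses G // p ∣ Nat.card C.carrier} = 1 := by
  classical
  cases nonempty_fintype G
  obtain ⟨P⟩ : Nonempty (Sylow p G) := inferInstance
  obtain ⟨H, hHP⟩ : ∃ H : Subgroup G, H = (P : Subgroup G) := ⟨_, rfl⟩
  have hH : IsPGroup p H := by rw [hHP]; exact P.isPGroup'
  have hHidx : ¬ p ∣ H.index := by rw [hHP]; exact P.not_dvd_index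
  obtain ⟨e, he⟩ := hidx
  have hcardG : Nat.card G = Nat.card N * p ^ e := by
    rw [← he]
    exact (Subgroup.card_mul_index N).symm
  have hcardH : Nat.card H = p ^ e := by
    obtain ⟨s, hs⟩ := IsPGroup.iff_card.mp hH
    have h1 : p ^ e ∣ Nat.card H := by
      rw [hHP]
      exact P.pow_dvd_card_of_pow_dvd_card ⟨Nat.card N, by rw [hcardG, mul_comm]⟩
    have h2 : Nat.card H ∣ Nat.card N * p ^ e := hcardG ▸ Subgroup.card_subgroup_dvd_card H
    have hco : Nat.Coprime (Nat.card H) (Nat.card N) := by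
      rw [hs]
      exact Nat.Coprime.pow_left s hN.symm
    have h3 := hco.dvd_of_dvd_mul_left h2
    exact Nat.dvd_antisymm h3 h1
  have hcop : (Nat.card N).Coprime (Nat.card H) := by
    rw [hcardH]
    exact Nat.Coprime.pow_right e hN
  have hcomp : Subgroup.IsComplement' N H := Subgroup.isComplement'_of_coprime (by rw [hcardH, ← hcardG]) hcop
  have hNH : N ⊔ H = ⊤ := hcomp.sup_eq_top
  have hdisj : N ⊓ H = ⊥ := hcomp.disjoint.eq_bot
  obtain ⟨r, hr1, hr2⟩ := GP.exists_retraction N H hNH hdisj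
  obtain ⟨hs, hne⟩ := Nat.card_eq_one_iff_unique.mp hone
  obtain ⟨⟨χ₀, hdeg⟩⟩ := hne
  have huniq : ∀ ψ : IrrCharacter G, p ∣ charDegree (ψ : G → ℂ) → ψ = χ₀ := by
    intro ψ hψ
    exact congrArg Subtype.val (Subsingleton.elim (⟨ψ, hψ⟩ : {χ : IrrCharacter G // p ∣ charDegree (χ : G → ℂ)}) ⟨χ₀, hdeg⟩)
  have hab := sylow_comm_of_unique p N H hnil hH r hr1 hr2 ⟨e, he⟩ (by rw [hcardH]; exact hcardG) χ₀ huniq
  have hclasses := card_classes_not_dvd p N H hH hHidx hcop hNH r hr1 hr2 hab
  have hcount := GP.count_coprime_degree N H hNH hcop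
  have hActs : Act H N := ⟨fun s _ => by
    rw [Subgroup.normalizer_eq_top_iff.mpr hNn]
    exact Subgroup.mem_top s, hcop⟩
  have hsolv : Group.IsSolvable H := Group.isSolvable_of_comm hab
  have hinv := GP.card_inv_eq hActs hsolv
  rw [card_irr_eq] at hinv
  have hhom : Nat.card (H →* ℂˣ) = Nat.card H := by
    rw [← Nat.card_congr (linearEquivHom (G := H)), card_linear_eq_index]
    have hc : commutator H = ⊥ := by
      rw [_root_.commutator_def]
      apply le_bot_iff.mp
      rw [Subgroup.commutator_le]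
      intro a _ b _
      rw [Subgroup.mem_bot, commutatorElement_eq_one_iff_commute]
      exact hab a b
    rw [hc, Subgroup.index_bot]
  have he0 : e ≠ 0 := by
    rintro rfl
    have h1 := charDegree_dvd χ₀
    rw [hcardG, pow_zero, mul_one] at h1
    exact (Nat.Prime.coprime_iff_not_dvd hp.out).mp hN.symm (hdeg.trans h1)
  have h1 := card_subtype_add_compl (fun χ : IrrCharacter G => (charDegree (χ : G → ℂ)).Coprime (Nat.card H))
  have h2 : Nat.card {χ : IrrCharacter G // ¬ (charDegree (χ : G → ℂ)).Coprime (Nat.card H)} =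
      Nat.card {χ : IrrCharacter G // p ∣ charDegree (χ : G → ℂ)} := by
    apply Nat.card_congr
    refine Equiv.subtypeEquivRight fun χ => ?_
    rw [hcardH, Nat.coprime_pow_right_iff (Nat.pos_of_ne_zero he0), Nat.coprime_comm,
      Nat.Prime.coprime_iff_not_dvd hp.out, not_not]
  rw [h2, hone, hcount, hinv, hhom, card_irr_eq] at h1
  have h3 := card_subtype_add_compl (fun C : ConjClasses G => p ∣ Nat.card C.carrier)
  rw [hclasses] at h3
  omega

end CfsgLib.Char
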